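import Groth.Agent.Lib.DualFree20.QGorDescent
import Groth.Agent.Lib.FibreFree20.Basic

/-!
# The Gorenstein index along a ℚ-Gorenstein morphism
-/

set_option autoImplicit false
set_option linter.all false
set_option backward.isDefEq.respectTransparency false
set_option maxHeartbeats 1600000

universe u

open CategoryTheory CategoryTheory.Limits AlgebraicGeometry TopologicalSpace IsLocalRing
open scoped TensorProduct
attribute [local instance] HasDerivedCategory.standard

noncomputable section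

namespace GrothLib.DualFree20

open GrothLib.OX GrothLib.RightAdj22

theorem invertibleAt_pullback {X X' : Scheme.{u}} (g : X' ⟶ X) {M : X.Modules} (x' : X')
    (h : RelCanon.InvertibleAt M (g x')) : RelCanon.InvertibleAt ((Scheme.Modules.pullback g).obj M) x' := by
  obtain ⟨W, hx, ⟨u⟩⟩ := h
  obtain ⟨pr⟩ := AlmostAmple24.nonempty_pullback_restrict g W M
  exact invertibleAt_of_restrict (g ⁻¹ᵁ W) (ParaPair.isInvertible_of_iso pr (RelProjK.isInvertible_pullback _
    (ParaPair.isInvertible_of_iso u (isInvertible_structureModule _)))) x' hx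

/-- Flat and invertible on the fibre is invertible. -/
theorem invertibleAt_of_fibre {P S : Scheme.{u}} (f : P ⟶ S) [Flat f] [LocallyOfFinitePresentation f]
    [IsLocallyNoetherian P] {F : P.Modules} (hF : Coh.IsCoh F) (s : S) (z : f.fiber s)
    (hfl : FlatMod.IsFlatOverAt f F (f.fiberι s z))
    (h : RelCanon.InvertibleAt ((Scheme.Modules.pullback (f.fiberι s)).obj F) z) :
    RelCanon.InvertibleAt F (f.fiberι s z) := by
  let y := f.fiberι s z
  obtain ⟨hsurj, hker⟩ := FibreFlat.fiberι_stalkMap f s z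
  let A := S.presheaf.stalk (f y)
  let B := P.presheaf.stalk y
  let Q := (f.fiber s).presheaf.stalk z
  letI : Algebra A B := (f.stalkMap y).hom.toAlgebra
  haveI : IsLocalHom (algebraMap A B) := inferInstanceAs (IsLocalHom (f.stalkMap y).hom)
  letI : Algebra B Q := ((f.fiberι s).stalkMap z).hom.toAlgebra
  haveI : Module.Flat A B := Flat.stalkMap f y
  let M := F.presheaf.stalk y
  letI : Module A M := FlatMod.moduleStalkOver f F y
  haveI : IsScalarTower A B M := IsScalarTower.of_algebraMap_smul fun _ _ => rfl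
  haveI : Module.Flat A M := hfl
  haveI : Module.Finite B M := QuasiFlat.finite_stalk F hF y
  haveI : Module.FinitePresentation B M := Module.finitePresentation_of_finite B M
  let e : ((Scheme.Modules.pullback (f.fiberι s)).obj F).presheaf.stalk z ≃ₗ[Q] Q ⊗[B] M :=
    ((OX.pullStalkIso (f.fiberι s) z).app F).toLinearEquiv
  obtain ⟨W, hz, ⟨u⟩⟩ := h
  have hi : PicF.IsInvertible (((Scheme.Modules.pullback (f.fiberι s)).obj F).restrict W.ι) :=
    ParaPair.isInvertible_of_iso u (isInvertible_structureModule _)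
  obtain ⟨U, t, ht, hfr⟩ := FinCov.exists_frame_nhd_of_rank (PBDeg.rankOne_iff.2 hi) (⟨z, hz⟩ : (W : Scheme.{u}))
  have hgen := InvHartogs26.stalk_bijective ((InvExt.isGen_iff_isFrame _).1 (RhoShBig.isFrame_of_restrict hfr))
    (x := z) ⟨_, ht, rfl⟩
  let e' : Q ≃ₗ[Q] Q ⊗[B] M := (LinearEquiv.ofBijective (LinearMap.toSpanSingleton Q _ _) hgen).trans e
  haveI : Module.Free Q (Q ⊗[B] M) := Module.Free.of_equiv e'
  haveI : Module.Free B M := RhoShBig.free_of_fibre_free (A := A) (B := B) (F := Q)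
    (GrothLib.FibreFlat.isEssFinitePresentation_stalkMap f y) hsurj hker M
  have hrk : Module.finrank B M = 1 := by
    rw [← Module.finrank_baseChange (R := Q), ← e'.finrank_eq, Module.finrank_self]
  exact invertibleAt_of_stalk hF _
    ((Module.finBasisOfFinrankEq B M hrk).equivFun.trans (LinearEquiv.funUnique (Fin 1) B B))

variable {A : Type u} [CommRing A] [IsNoetherianRing A] {Y : Scheme.{u}} [Y.Over (Spec (CommRingCat.of A))]
  [IsProper (Y ↘ Spec (CommRingCat.of A))]

/-- On a fibre, invertibility of reflexive powers of the canonical sheaves correspond under `(S_2)` near the point. -/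
theorem invertibleAt_refPowZ_fibre_iff (d : ℕ)
    (hS : RelCanon.IsSkMor (Y ↘ Spec (CommRingCat.of A)) 2) (hd : Cyc.HasRelDim (Y ↘ Spec (CommRingCat.of A)) d)
    (ω : Y.Modules) (hω : RelCanon.IsDualizingSheaf A Y d ω)
    (hG : ∀ y : Y, y ∉ RelCanon.gorLocus (Y ↘ Spec (CommRingCat.of A)) →
      (2 : WithBot ℕ∞) ≤ ringKrullDim (((Y ↘ Spec (CommRingCat.of A)).fiber
        ((Y ↘ Spec (CommRingCat.of A)) y)).presheaf.stalk ((Y ↘ Spec (CommRingCat.of A)).asFiber y)))
    (y : Y) (ωy : ((Y ↘ Spec (CommRingCat.of A)).fiber ((Y ↘ Spec (CommRingCat.of A)) y)).Modules)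
    (hωy : @RelCanon.IsDualizingSheaf ((Spec (CommRingCat.of A)).residueField ((Y ↘ Spec (CommRingCat.of A)) y)) _
      ((Y ↘ Spec (CommRingCat.of A)).fiber ((Y ↘ Spec (CommRingCat.of A)) y))
      ⟨(Y ↘ Spec (CommRingCat.of A)).fiberToSpecResidueField ((Y ↘ Spec (CommRingCat.of A)) y)⟩ d ωy) (m : ℤ) :
    (RelCanon.InvertibleAt (RelCanon.refPowZ ω m) y →
      RelCanon.InvertibleAt (RelCanon.refPowZ ωy m) ((Y ↘ Spec (CommRingCat.of A)).asFiber y)) ∧
    ((∃ O : Y.Opens, y ∈ O ∧ ∀ z ∈ O, RelCanon.RelSkAt (Y ↘ Spec (CommRingCat.of A)) 2 (RelCanon.refPowZ ω m) z) →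
      RelCanon.InvertibleAt (RelCanon.refPowZ ωy m) ((Y ↘ Spec (CommRingCat.of A)).asFiber y) →
      RelCanon.InvertibleAt (RelCanon.refPowZ ω m) y) := by
  let f := Y ↘ Spec (CommRingCat.of A)
  haveI : Flat f := hS.1
  haveI : LocallyOfFinitePresentation f := GrothLib.LocProp.locallyOfFinitePresentation_of_isLocallyNoetherian f
  haveI : IsLocallyNoetherian Y := LocallyOfFiniteType.isLocallyNoetherian f
  let t := f y
  let κ := (Spec (CommRingCat.of A)).residueField t
  letI : (f.fiber t).Over (Spec (CommRingCat.of κ)) := ⟨f.fiberToSpecResidueField t⟩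
  let φ : CommRingCat.of A ⟶ κ := Spec.preimage ((Spec (CommRingCat.of A)).fromSpecResidueField t)
  have hsq : IsPullback (f.fiberι t) ((f.fiber t) ↘ Spec (CommRingCat.of κ)) f (Spec.map (CommRingCat.ofHom φ.hom)) := by
    change IsPullback (f.fiberι t) (f.fiberToSpecResidueField t) f (Spec.map φ)
    rw [Spec.map_preimage]
    exact IsPullback.of_hasPullback _ _
  haveI : IsProper ((f.fiber t) ↘ Spec (CommRingCat.of κ)) :=
    MorphismProperty.of_isPullback hsq (inferInstance : IsProper f)
  haveI : IsLocallyNoetherian (f.fiber t) :=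
    LocallyOfFiniteType.isLocallyNoetherian ((f.fiber t) ↘ Spec (CommRingCat.of κ))
  let G := RelCanon.refPowZ ω m
  let N := RelCanon.refPowZ ωy m
  let P := (Scheme.Modules.pullback (f.fiberι t)).obj G
  refine ⟨fun h => ?_, fun hO h => ?_⟩
  · obtain ⟨⟨e⟩, -⟩ := refPowZ_baseChange d hS hd ω hω hG κ φ.hom (f.fiber t) (f.fiberι t) hsq ωy hωy m
    obtain ⟨W, hyW, hW⟩ := invertibleAt_pullback (f.fiberι t) (M := G) (f.asFiber y)
      (by rwa [Scheme.Hom.fiberι_asFiber])
    obtain ⟨u⟩ := hW
    have hi : PicF.IsInvertible (P.restrict W.ι) := ParaPair.isInvertible_of_iso u (isInvertible_structureModule _)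
    obtain ⟨ed⟩ := nonempty_ddual_restrict W hi
    exact invertibleAt_of_iso e.symm (invertibleAt_of_restrict W (ParaPair.isInvertible_of_iso ed hi) _ hyW)
  · obtain ⟨hωc, hωyc, U, hbc, hU2⟩ := exists_bcOn d hS hd ω hω hG κ φ.hom (f.fiber t) (f.fiberι t) hsq ωy hωy
    obtain ⟨O, hyO, hO⟩ := hO
    let V := f.fiberι t ⁻¹ᵁ U
    let W := f.fiberι t ⁻¹ᵁ O
    have hGc := isCoh_refPowZ hωc m
    have hPc : Coh.IsCoh P := ModDesc.isCoh_pullback _ _ hGc
    have hb := hbc.refPowZ hωc hωyc m
    obtain ⟨eP⟩ := hb.pullback_iso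
    have hgen : ∀ (t : ↥(Spec (CommRingCat.of A))) (η : f.fiber t),
        closure {η} ∈ irreducibleComponents ↥(f.fiber t) → f.fiberι t η ∈ U := by
      intro t η hη
      refine not_not.1 fun h => ?_
      have h2 := hU2 _ h
      rw [← ringKrullDim_fiber_congr f t η _ rfl, GrothLib.AlgSp.ringKrullDim_stalk_eq_zero_of_component hη] at h2
      exact absurd h2 (not_le.2 (WithBot.coe_lt_coe.2 (by norm_num : (0 : ℕ∞) < 2)))
    have hs := support_eq_univ_of_generic f hGc U hgen hb.1
    have hn : ∀ z, Nontrivial (P.presheaf.stalk z) := fun z => by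
      refine not_subsingleton_iff_nontrivial.1 ?_
      show z ∈ CohB1.support P
      rw [GrothLib.QCoh.support_pullback _ G hGc]
      exact hs _
    have key : ∀ (x : Y) (s : ↥(Spec (CommRingCat.of A))) (w : f.fiber s), f.fiberι s w = x →
        RelCanon.SkAt 2 ((Scheme.Modules.pullback (f.fiberι (f x))).obj G) (f.asFiber x) →
        RelCanon.SkAt 2 ((Scheme.Modules.pullback (f.fiberι s)).obj G) w := by
      intro x s w hx hw
      have ht : f x = s := by rw [← hx]; exact GrothLib.DimCut.apply_fiberι f s w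
      subst ht
      rwa [GrothLib.DimCut.eq_asFiber f x w hx]
    have hdim : ∀ z, z ∉ V → (2 : WithBot ℕ∞) ≤ ringKrullDim ((f.fiber t).presheaf.stalk z) := fun z hz => by
      rw [ringKrullDim_fiber_congr f t z _ rfl]
      exact hU2 _ hz
    have dP : ∀ z, z ∈ W → z ∉ V → (2 : ℕ∞) ≤ LocCoh.depth ((f.fiber t).presheaf.stalk z) (P.presheaf.stalk z) := by
      intro z hzW hz
      haveI : Module.Finite ((f.fiber t).presheaf.stalk z) (P.presheaf.stalk z) := QuasiFlat.finite_stalk P hPc z
      exact two_le_depth_of_hasSk (support_stalk_eq_univ hPc hn z) (hdim z hz) (key _ _ z rfl (hO _ hzW).2)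
    obtain ⟨H, hH, he⟩ := exists_ddual_refPowZ hωyc m
    have hS₀ := isSkMor_of_isPullback hsq hS
    have dN : ∀ z, z ∉ V → (2 : ℕ∞) ≤ LocCoh.depth ((f.fiber t).presheaf.stalk z) (N.presheaf.stalk z) :=
      fun z hz => by
        have key₂ : ∀ M : (f.fiber t).Modules, M = RefHull.ddual H →
            (2 : ℕ∞) ≤ LocCoh.depth ((f.fiber t).presheaf.stalk z) (M.presheaf.stalk z) := by
          intro M hM
          subst hM
          exact two_le_depth_ddual hH z (two_le_depth_of_fibre ((f.fiber t) ↘ Spec (CommRingCat.of κ)) hS₀ z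
            ((hU2 (f.fiberι t z) hz).trans (ringKrullDim_fibre_le hsq z)))
        exact key₂ _ he
    have hNc : Coh.IsCoh N := isCoh_refPowZ hωyc m
    obtain ⟨pr⟩ := AlmostAmple24.nonempty_pullback_restrict W.ι V P
    obtain ⟨pr'⟩ := AlmostAmple24.nonempty_pullback_restrict W.ι V N
    obtain ⟨eW⟩ := nonempty_iso_of_restrict (ModDesc.isCoh_pullback W.ι _ hPc) (ModDesc.isCoh_pullback W.ι _ hNc)
      (W.ι ⁻¹ᵁ V)
      (fun w hw => by
        letI := (W.ι.stalkMap w).hom.toAlgebra
        rw [GrothLib.DepthAlong.depth_pullback_stalk W.ι P hPc w]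
        exact (dP _ w.2 hw).trans le_self_add)
      (fun w hw => by
        letI := (W.ι.stalkMap w).hom.toAlgebra
        rw [GrothLib.DepthAlong.depth_pullback_stalk W.ι N hNc w]
        exact (dN _ hw).trans le_self_add)
      (pr ≪≫ (Scheme.Modules.pullback (W.ι ∣_ V)).mapIso eP ≪≫ pr'.symm)
    have hyW : f.asFiber y ∈ W := by
      show f.fiberι (f y) (f.asFiber y) ∈ O
      rwa [Scheme.Hom.fiberι_asFiber]
    have hP : RelCanon.InvertibleAt P (f.asFiber y) := invertibleAt_descend W.ι hPc ⟨_, hyW⟩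
      (invertibleAt_of_iso eW (invertibleAt_pullback W.ι (M := N) ⟨_, hyW⟩ h))
    have := invertibleAt_of_fibre f hGc t (f.asFiber y)
      (by rw [Scheme.Hom.fiberι_asFiber]; exact (hO y hyO).1) hP
    rwa [Scheme.Hom.fiberι_asFiber] at this

end GrothLib.DualFree20

end
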