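import Groth.Agent.Lib.DualFree20.BCTools
import Groth.Agent.Lib.FibPd.GeomSk
import Groth.Agent.Lib.SnFibres.Basic

/-!
# Morphisms with `(S_k)` fibres are stable under base change
-/

set_option autoImplicit false
set_option linter.all false
set_option backward.isDefEq.respectTransparency false
set_option maxHeartbeats 1600000

universe u

open CategoryTheory CategoryTheory.Limits AlgebraicGeometry TopologicalSpace

noncomputable section

namespace GrothLib.DualFree20

variable {X S X' S' : Scheme.{u}}

/-- The fibres of a base change satisfy `(S_k)` when those of the map do. -/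
theorem isSkMor_of_isPullback [IsLocallyNoetherian X] [IsLocallyNoetherian X'] {p : X' ⟶ X} {f' : X' ⟶ S'} {f : X ⟶ S} {q : S' ⟶ S} (hp : IsPullback p f' f q)
    {k : ℕ} (hS : RelCanon.IsSkMor f k) : RelCanon.IsSkMor f' k := by
  haveI : Flat f := hS.1
  haveI : LocallyOfFiniteType f := hS.2.1
  haveI : LocallyOfFiniteType f' := MorphismProperty.of_isPullback (P := @LocallyOfFiniteType) hp inferInstance
  refine ⟨MorphismProperty.of_isPullback (P := @Flat) hp inferInstance, inferInstance, fun y' => ?_⟩
  let s' := f' y'
  let t := q s'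
  letI : Algebra (S.residueField t) (S'.residueField s') := (q.residueFieldMap s').hom.toAlgebra
  let r : Spec (S'.residueField s') ⟶ Spec (S.residueField t) := Spec.map (q.residueFieldMap s')
  have hr : r ≫ S.fromSpecResidueField t = S'.fromSpecResidueField s' ≫ q :=
    Scheme.Hom.SpecMap_residueFieldMap_fromSpecResidueField q s'
  let g : f'.fiber s' ⟶ f.fiber t := pullback.lift (f'.fiberι s' ≫ p) (f'.fiberToSpecResidueField s' ≫ r) (by
    rw [Category.assoc, Category.assoc, hr, hp.w, ← Category.assoc, ← Category.assoc, Scheme.Hom.fiber_fac])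
  have hg : g ≫ f.fiberι t = f'.fiberι s' ≫ p := pullback.lift_fst _ _ _
  have hg' : g ≫ f.fiberToSpecResidueField t = f'.fiberToSpecResidueField s' ≫ r := pullback.lift_snd _ _ _
  have hbig : IsPullback (g ≫ f.fiberι t) (f'.fiberToSpecResidueField s') f (r ≫ S.fromSpecResidueField t) := by
    rw [hg, hr]
    exact (IsPullback.of_hasPullback f' (S'.fromSpecResidueField s')).paste_horiz hp
  have hsq : IsPullback g (f'.fiberToSpecResidueField s') (f.fiberToSpecResidueField t) r :=
    IsPullback.of_right hbig hg' (IsPullback.of_hasPullback f (S.fromSpecResidueField t))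
  haveI : LocallyOfFiniteType (f.fiberToSpecResidueField t) :=
    MorphismProperty.pullback_snd _ _ (inferInstance : LocallyOfFiniteType f)
  haveI : LocallyOfFiniteType (f'.fiberToSpecResidueField s') :=
    MorphismProperty.pullback_snd _ _ (inferInstance : LocallyOfFiniteType f')
  haveI : IsLocallyNoetherian (f.fiber t) := LocallyOfFiniteType.isLocallyNoetherian (f.fiberToSpecResidueField t)
  haveI : IsLocallyNoetherian (f'.fiber s') := LocallyOfFiniteType.isLocallyNoetherian (f'.fiberToSpecResidueField s')
  let I := hsq.isoPullback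
  let z := f'.asFiber y'
  have hz : pullback.fst (f.fiberToSpecResidueField t) r (I.hom z) = g z := by
    rw [← Scheme.Hom.comp_apply, hsq.isoPullback_hom_fst]
  have key : ∀ (x : X) (t' : S) (w : f.fiber t'), f.fiberι t' w = x →
      LocCoh.HasSk k ((f.fiber t').presheaf.stalk w) ((f.fiber t').presheaf.stalk w) := by
    intro x t' w hx
    have ht : f x = t' := by rw [← hx]; exact GrothLib.DimCut.apply_fiberι f t' w
    subst ht
    rw [GrothLib.DimCut.eq_asFiber f x w hx]
    haveI : IsNoetherianRing ((f.fiber (f x)).presheaf.stalk (f.asFiber x)) :=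
      GrothLib.DimCut.isNoetherianRing_stalk_fiber f _ _
    haveI : Module.Finite ((f.fiber (f x)).presheaf.stalk (f.asFiber x))
        ((Coh.structureModule (f.fiber (f x))).presheaf.stalk (f.asFiber x)) :=
      Module.Finite.equiv (HomSh.unitStalk (X := f.fiber (f x)) (f.asFiber x))
    exact GrothLib.SkExt.hasSk_congr (HomSh.unitStalk (X := f.fiber (f x)) (f.asFiber x)).symm (hS.2.2 x)
  have h1 := GrothLib.FibPd.hasSk_stalk_bc (k := S.residueField t) (f.fiberToSpecResidueField t) (S'.residueField s') k
    (I.hom z) (key _ t _ rfl)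
  let e : (pullback (f.fiberToSpecResidueField t) r).presheaf.stalk (I.hom z) ≃+* (f'.fiber s').presheaf.stalk z :=
    (asIso (I.hom.stalkMap z)).commRingCatIsoToRingEquiv
  haveI : IsNoetherianRing ((pullback (f.fiberToSpecResidueField t) r).presheaf.stalk (I.hom z)) :=
    isNoetherianRing_of_ringEquiv _ e.symm
  haveI : IsNoetherianRing ((f'.fiber s').presheaf.stalk z) := GrothLib.DimCut.isNoetherianRing_stalk_fiber f' _ _
  haveI : Module.Finite ((f'.fiber s').presheaf.stalk z) ((f'.fiber s').presheaf.stalk z) := inferInstance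
  exact GrothLib.SkExt.hasSk_congr (HomSh.unitStalk (X := f'.fiber s') z)
    (GrothLib.SnFibres.hasSk_congr e h1)

end GrothLib.DualFree20

end
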