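import Groth.Agent.Lib.DualFree20.BCRef
import Groth.Agent.Lib.CycFlat.Fibre

/-!
# ℚ-Gorenstein conditions under base change
-/

set_option autoImplicit false
set_option linter.all false
set_option backward.isDefEq.respectTransparency false
set_option maxHeartbeats 1600000

universe u

open CategoryTheory CategoryTheory.Limits AlgebraicGeometry TopologicalSpace
attribute [local instance] HasDerivedCategory.standard

noncomputable section

namespace GrothLib.DualFree20

open GrothLib.OX GrothLib.RightAdj22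

theorem invertibleAt_of_iso {X : Scheme.{u}} {M N : X.Modules} (e : M ≅ N) {x : X} (h : RelCanon.InvertibleAt N x) :
    RelCanon.InvertibleAt M x := by
  obtain ⟨U, hx, ⟨u⟩⟩ := h
  exact ⟨U, hx, ⟨(Scheme.Modules.restrictFunctor U.ι).mapIso e ≪≫ u⟩⟩

/-- Gorenstein in codimension one passes to a base change. -/
theorem gorLocus_codim_baseChange {X S X' S' : Scheme.{u}} [IsLocallyNoetherian X] [IsLocallyNoetherian X']
    {p : X' ⟶ X} {f' : X' ⟶ S'} {f : X ⟶ S} {q : S' ⟶ S} (hp : IsPullback p f' f q) [Flat f]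
    [LocallyOfFinitePresentation f]
    (hG : ∀ y : X, y ∉ RelCanon.gorLocus f →
      (2 : WithBot ℕ∞) ≤ ringKrullDim ((f.fiber (f y)).presheaf.stalk (f.asFiber y))) (y' : X')
    (hy' : y' ∉ RelCanon.gorLocus f') :
    (2 : WithBot ℕ∞) ≤ ringKrullDim ((f'.fiber (f' y')).presheaf.stalk (f'.asFiber y')) :=
  (hG (p y') fun h => hy' ((GrothLib.CurveStk.ptProp_gor.baseChange hp y').2 h)).trans (ringKrullDim_fibre_le hp y')

theorem relSk_of_iso {X S : Scheme.{u}} {f : X ⟶ S} [LocallyOfFiniteType f] {k : ℕ} {F G : X.Modules} (e : F ≅ G)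
    (hF : Coh.IsCoh F) [IsLocallyNoetherian X] (h : RelCanon.RelSk f k F) : RelCanon.RelSk f k G := fun y => by
  refine ⟨isFlatOver_of_iso e (fun x => (h x).1) y, ?_⟩
  haveI : LocallyOfFiniteType (f.fiberToSpecResidueField (f y)) :=
    MorphismProperty.pullback_snd _ _ (inferInstance : LocallyOfFiniteType f)
  haveI : IsLocallyNoetherian (f.fiber (f y)) :=
    LocallyOfFiniteType.isLocallyNoetherian (f.fiberToSpecResidueField (f y))
  haveI : IsNoetherianRing ((f.fiber (f y)).presheaf.stalk (f.asFiber y)) :=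
    GrothLib.DimCut.isNoetherianRing_stalk_fiber f _ _
  haveI := QuasiFlat.finite_stalk _ (ModDesc.isCoh_pullback (f.fiberι (f y)) _ hF) (f.asFiber y)
  exact GrothLib.SkExt.hasSk_congr (stalkIso ((Scheme.Modules.pullback (f.fiberι (f y))).mapIso e) (f.asFiber y)) (h y).2

variable {A : Type u} [CommRing A] [IsNoetherianRing A] {Y : Scheme.{u}} [Y.Over (Spec (CommRingCat.of A))]
  [IsProper (Y ↘ Spec (CommRingCat.of A))]

theorem exists_isDualizingSheaf (d : ℕ)
    (hd' : ∀ s, topologicalKrullDim ↥((Y ↘ Spec (CommRingCat.of A)).fiber s) ≤ (d : WithBot ℕ∞)) :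
    ∃ ω : Y.Modules, RelCanon.IsDualizingSheaf A Y d ω := by
  let f := Y ↘ Spec (CommRingCat.of A)
  haveI : IsLocallyNoetherian Y := LocallyOfFiniteType.isLocallyNoetherian f
  haveI : CompactSpace Y := QuasiCompact.compactSpace_of_compactSpace f
  haveI : QuasiSeparatedSpace Y := quasiSeparatedSpace_of_quasiSeparated f
  haveI : DCoh.HasRpush f := KInj.hasRightDerivedFunctor _
  have hf : DCoh.RpushPreservesQCoh f := fun K hK =>
    GrothLib.KSix19.BettiExact.isQCohD_of_iso' ((rpushIsoRres f).app K).symm (isQCohD_Rres f K hK)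
  haveI : (DCoh.RpushQ f hf).IsLeftAdjoint := OX.isLeftAdjoint_lift_Rpush f hf
  let adj := Adjunction.ofIsLeftAdjoint (DCoh.RpushQ f hf)
  let W₀ : DCoh.DQCoh (Spec (CommRingCat.of A)) := ⟨DCoh.inD _ (Coh.structureModule _),
    KSix19.RpushAmp.isQCohD_inD _ (inferInstanceAs (Coh.structureModule (Spec (CommRingCat.of A))).IsQuasicoherent)⟩
  exact ⟨_, isDualizingSheaf_adjoint f rfl d hd' hf adj W₀ ⟨Iso.refl _⟩⟩

/-- Naive ℚ-Gorenstein is stable under base change. -/
theorem isQGorWith_baseChange (d : ℕ)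
    (hS : RelCanon.IsSkMor (Y ↘ Spec (CommRingCat.of A)) 2) (hd : Cyc.HasRelDim (Y ↘ Spec (CommRingCat.of A)) d)
    (ω : Y.Modules) (hω : RelCanon.IsDualizingSheaf A Y d ω)
    (hG : ∀ y : Y, y ∉ RelCanon.gorLocus (Y ↘ Spec (CommRingCat.of A)) →
      (2 : WithBot ℕ∞) ≤ ringKrullDim (((Y ↘ Spec (CommRingCat.of A)).fiber
        ((Y ↘ Spec (CommRingCat.of A)) y)).presheaf.stalk ((Y ↘ Spec (CommRingCat.of A)).asFiber y)))
    (B : Type u) [CommRing B] [IsNoetherianRing B] (φ : A →+* B) (Y' : Scheme.{u})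
    [Y'.Over (Spec (CommRingCat.of B))] (p : Y' ⟶ Y)
    (hp : IsPullback p (Y' ↘ Spec (CommRingCat.of B)) (Y ↘ Spec (CommRingCat.of A)) (Spec.map (CommRingCat.ofHom φ)))
    (ω' : Y'.Modules) (hω' : RelCanon.IsDualizingSheaf B Y' d ω') (hQ : RelCanon.IsQGorWith ω) :
    RelCanon.IsQGorWith ω' := by
  haveI : IsProper (Y' ↘ Spec (CommRingCat.of B)) := MorphismProperty.of_isPullback (P := @IsProper) hp inferInstance
  haveI : IsLocallyNoetherian Y' := LocallyOfFiniteType.isLocallyNoetherian (Y' ↘ Spec (CommRingCat.of B))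
  intro y'
  obtain ⟨r, hr, W, hyW, ⟨e⟩⟩ := hQ (p y')
  obtain ⟨⟨e'⟩, -⟩ := refPowZ_baseChange d hS hd ω hω hG B φ Y' p hp ω' hω' (r : ℤ)
  have hi : PicF.IsInvertible ((RelCanon.refPowZ ω (r : ℤ)).restrict W.ι) :=
    ParaPair.isInvertible_of_iso e (isInvertible_structureModule _)
  obtain ⟨pr⟩ := AlmostAmple24.nonempty_pullback_restrict p W (RelCanon.refPowZ ω (r : ℤ))
  have hi' := ParaPair.isInvertible_of_iso pr (RelProjK.isInvertible_pullback (p ∣_ W) hi)
  obtain ⟨ed⟩ := nonempty_ddual_restrict (p ⁻¹ᵁ W) hi'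
  exact ⟨r, hr, invertibleAt_of_iso e'.symm
    (invertibleAt_of_restrict (p ⁻¹ᵁ W) (ParaPair.isInvertible_of_iso ed hi') y' hyW)⟩

/-- ℚ-Gorenstein fibres stay so after base change. -/
theorem isQGorWith_fibres_baseChange (d : ℕ)
    (hS : RelCanon.IsSkMor (Y ↘ Spec (CommRingCat.of A)) 2) (hd : Cyc.HasRelDim (Y ↘ Spec (CommRingCat.of A)) d)
    (hG : ∀ y : Y, y ∉ RelCanon.gorLocus (Y ↘ Spec (CommRingCat.of A)) →
      (2 : WithBot ℕ∞) ≤ ringKrullDim (((Y ↘ Spec (CommRingCat.of A)).fiber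
        ((Y ↘ Spec (CommRingCat.of A)) y)).presheaf.stalk ((Y ↘ Spec (CommRingCat.of A)).asFiber y)))
    (B : Type u) [CommRing B] [IsNoetherianRing B] (φ : A →+* B) (Y' : Scheme.{u})
    [Y'.Over (Spec (CommRingCat.of B))] (p : Y' ⟶ Y)
    (hp : IsPullback p (Y' ↘ Spec (CommRingCat.of B)) (Y ↘ Spec (CommRingCat.of A)) (Spec.map (CommRingCat.ofHom φ)))
    (hQ : ∀ (t : (Spec (CommRingCat.of A))) (ωt : ((Y ↘ Spec (CommRingCat.of A)).fiber t).Modules),
      @RelCanon.IsDualizingSheaf ((Spec (CommRingCat.of A)).residueField t) _ ((Y ↘ Spec (CommRingCat.of A)).fiber t)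
        ⟨(Y ↘ Spec (CommRingCat.of A)).fiberToSpecResidueField t⟩ d ωt → RelCanon.IsQGorWith ωt)
    (s' : Spec (CommRingCat.of B)) (ωt' : ((Y' ↘ Spec (CommRingCat.of B)).fiber s').Modules)
    (hωt' : @RelCanon.IsDualizingSheaf ((Spec (CommRingCat.of B)).residueField s') _
      ((Y' ↘ Spec (CommRingCat.of B)).fiber s') ⟨(Y' ↘ Spec (CommRingCat.of B)).fiberToSpecResidueField s'⟩ d ωt') :
    RelCanon.IsQGorWith ωt' := by
  let f := Y ↘ Spec (CommRingCat.of A)
  let f' := Y' ↘ Spec (CommRingCat.of B)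
  let q := Spec.map (CommRingCat.ofHom φ)
  haveI : Flat f := hS.1
  haveI : LocallyOfFinitePresentation f := GrothLib.LocProp.locallyOfFinitePresentation_of_isLocallyNoetherian f
  haveI : IsLocallyNoetherian Y := LocallyOfFiniteType.isLocallyNoetherian f
  haveI : IsProper f' := MorphismProperty.of_isPullback (P := @IsProper) hp inferInstance
  let t := q s'
  let κ := (Spec (CommRingCat.of A)).residueField t
  let κ' := (Spec (CommRingCat.of B)).residueField s'
  let ψ : κ ⟶ κ' := q.residueFieldMap s'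
  letI : (f.fiber t).Over (Spec (CommRingCat.of κ)) := ⟨f.fiberToSpecResidueField t⟩
  letI : (f'.fiber s').Over (Spec (CommRingCat.of κ')) := ⟨f'.fiberToSpecResidueField s'⟩
  have hsq₀ : IsPullback (f.fiberι t) ((f.fiber t) ↘ Spec (CommRingCat.of κ)) f
      ((Spec (CommRingCat.of A)).fromSpecResidueField t) := IsPullback.of_hasPullback _ _
  haveI : IsProper ((f.fiber t) ↘ Spec (CommRingCat.of κ)) :=
    MorphismProperty.of_isPullback hsq₀ (inferInstance : IsProper f)
  haveI : IsLocallyNoetherian (f.fiber t) :=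
    LocallyOfFiniteType.isLocallyNoetherian ((f.fiber t) ↘ Spec (CommRingCat.of κ))
  have hr : Spec.map ψ ≫ (Spec (CommRingCat.of A)).fromSpecResidueField t =
      (Spec (CommRingCat.of B)).fromSpecResidueField s' ≫ q :=
    Scheme.Hom.SpecMap_residueFieldMap_fromSpecResidueField q s'
  let g : f'.fiber s' ⟶ f.fiber t := pullback.lift (f'.fiberι s' ≫ p) (f'.fiberToSpecResidueField s' ≫ Spec.map ψ) (by
    rw [Category.assoc, Category.assoc, hr, hp.w, ← Category.assoc, ← Category.assoc, Scheme.Hom.fiber_fac])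
  have hg : g ≫ f.fiberι t = f'.fiberι s' ≫ p := pullback.lift_fst _ _ _
  have hg' : g ≫ f.fiberToSpecResidueField t = f'.fiberToSpecResidueField s' ≫ Spec.map ψ := pullback.lift_snd _ _ _
  have hbig : IsPullback (g ≫ f.fiberι t) (f'.fiberToSpecResidueField s') f
      (Spec.map ψ ≫ (Spec (CommRingCat.of A)).fromSpecResidueField t) := by
    rw [hg, hr]
    exact (IsPullback.of_hasPullback f' ((Spec (CommRingCat.of B)).fromSpecResidueField s')).paste_horiz hp
  have hsq : IsPullback g ((f'.fiber s') ↘ Spec (CommRingCat.of κ')) ((f.fiber t) ↘ Spec (CommRingCat.of κ))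
      (Spec.map (CommRingCat.ofHom ψ.hom)) :=
    IsPullback.of_right hbig hg' (IsPullback.of_hasPullback f ((Spec (CommRingCat.of A)).fromSpecResidueField t))
  have hd₀ := GrothLib.CycFlat.hasRelDim_of_isPullback hsq₀ hd
  obtain ⟨ωt, hωt⟩ := exists_isDualizingSheaf (A := κ) (Y := f.fiber t) d
    fun s => GrothLib.FibPd.topologicalKrullDim_le_of_components fun Z hZ => (hd₀ s Z hZ).le
  exact isQGorWith_baseChange d (isSkMor_of_isPullback hsq₀ hS) hd₀ ωt hωt
    (gorLocus_codim_baseChange hsq₀ hG) κ' ψ.hom (f'.fiber s') g hsq ωt' hωt' (hQ t ωt hωt)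

end GrothLib.DualFree20

end
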