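import Groth.Agent.Lib.DualFree20.QGorBC
import Groth.Agent.Lib.SkFlat5.Main
import Groth.Agent.Lib.FunFlat6.Point
import Groth.Agent.Lib.NodeSpread11.Spread

/-!
# Descent of ℚ-Gorenstein conditions along faithfully flat base change
-/

set_option autoImplicit false
set_option linter.all false
set_option backward.isDefEq.respectTransparency false
set_option maxHeartbeats 1600000

universe u

open CategoryTheory CategoryTheory.Limits AlgebraicGeometry TopologicalSpace
open scoped TensorProduct
attribute [local instance] HasDerivedCategory.standard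

noncomputable section

namespace GrothLib.DualFree20

open GrothLib.OX GrothLib.RightAdj22

/-- A coherent module with a stalk free of rank one is invertible there. -/
theorem invertibleAt_of_stalk {X : Scheme.{u}} [IsLocallyNoetherian X] {G : X.Modules} (hG : Coh.IsCoh G) (x : X)
    (θ : G.presheaf.stalk x ≃ₗ[X.presheaf.stalk x] X.presheaf.stalk x) : RelCanon.InvertibleAt G x := by
  obtain ⟨V, hx, hV⟩ := GrothLib.NodeSpread11.exists_nhd_iso_of_stalk hG (HomSh.isCoh_structureModule X) x
    (θ.trans (HomSh.unitStalk x))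
  obtain ⟨e⟩ := hV V le_rfl
  exact ⟨V, hx, ⟨e ≪≫ DualRing.restrictStructureIso _⟩⟩

/-- Invertibility descends along flat maps. -/
theorem invertibleAt_descend {X X' : Scheme.{u}} [IsLocallyNoetherian X] (p : X' ⟶ X) [Flat p] {G : X.Modules}
    (hG : Coh.IsCoh G) (x' : X') (h : RelCanon.InvertibleAt ((Scheme.Modules.pullback p).obj G) x') :
    RelCanon.InvertibleAt G (p x') := by
  obtain ⟨W, hx, ⟨u⟩⟩ := h
  have hi : PicF.IsInvertible (((Scheme.Modules.pullback p).obj G).restrict W.ι) :=
    ParaPair.isInvertible_of_iso u (isInvertible_structureModule _)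
  let R := X.presheaf.stalk (p x')
  let S := X'.presheaf.stalk x'
  letI : Algebra R S := (p.stalkMap x').hom.toAlgebra
  haveI : IsLocalHom (algebraMap R S) := inferInstanceAs (IsLocalHom (p.stalkMap x').hom)
  haveI : Module.Flat R S := Flat.stalkMap p x'
  haveI : Module.FaithfullyFlat R S := Module.FaithfullyFlat.of_flat_of_isLocalHom
  let M := G.presheaf.stalk (p x')
  haveI : Module.Finite R M := QuasiFlat.finite_stalk G hG _
  let el : ((Scheme.Modules.pullback p).obj G).presheaf.stalk x' ≃ₗ[S] S ⊗[R] M :=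
    ((QCoh.stalkPullbackIso p x').app G).toLinearEquiv
  obtain ⟨U, s, hs, hfr⟩ := FinCov.exists_frame_nhd_of_rank (PBDeg.rankOne_iff.2 hi) (⟨x', hx⟩ : (W : Scheme.{u}))
  have hgen := InvHartogs26.stalk_bijective ((InvExt.isGen_iff_isFrame _).1 (RhoShBig.isFrame_of_restrict hfr))
    (x := x') ⟨_, hs, rfl⟩
  let e : S ≃ₗ[S] S ⊗[R] M := (LinearEquiv.ofBijective (LinearMap.toSpanSingleton S _ _) hgen).trans el
  haveI : Module.Flat S (S ⊗[R] M) := Module.Flat.of_linearEquiv e.symm
  haveI : Module.Flat R M := Module.Flat.of_flat_tensorProduct R M S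
  haveI : Module.Free R M := Module.free_of_flat_of_isLocalRing
  have hrk : Module.finrank R M = 1 := by
    rw [← Module.finrank_baseChange (R := S), ← e.finrank_eq, Module.finrank_self]
  exact invertibleAt_of_stalk hG _
    ((Module.finBasisOfFinrankEq R M hrk).equivFun.trans (LinearEquiv.funUnique (Fin 1) R R))

/-- Relative `(S_2)` descends along a flat base change. -/
theorem relSkAt_descend {X S X' S' : Scheme.{u}} [IsLocallyNoetherian X] [IsLocallyNoetherian X'] {p : X' ⟶ X}
    {f' : X' ⟶ S'} {f : X ⟶ S} {q : S' ⟶ S} (hp : IsPullback p f' f q) [Flat q] [LocallyOfFiniteType f]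
    {k : ℕ} {G : X.Modules} (hG : Coh.IsCoh G) (y' : X')
    (h : RelCanon.RelSkAt f' k ((Scheme.Modules.pullback p).obj G) y') : RelCanon.RelSkAt f k G (p y') := by
  refine ⟨GrothLib.FunFlat6.isFlatOverAt_descend hp G y' (Flat.stalkMap q _) h.1, ?_⟩
  haveI : LocallyOfFiniteType f' := MorphismProperty.of_isPullback (P := @LocallyOfFiniteType) hp inferInstance
  obtain ⟨g, hg, hgι⟩ := exists_fibreBC hp (f' y')
  haveI := hg
  haveI : LocallyOfFiniteType (f.fiberToSpecResidueField (q (f' y'))) :=
    MorphismProperty.pullback_snd _ _ (inferInstance : LocallyOfFiniteType f)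
  haveI : IsLocallyNoetherian (f.fiber (q (f' y'))) :=
    LocallyOfFiniteType.isLocallyNoetherian (f.fiberToSpecResidueField (q (f' y')))
  haveI : LocallyOfFiniteType (f'.fiberToSpecResidueField (f' y')) :=
    MorphismProperty.pullback_snd _ _ (inferInstance : LocallyOfFiniteType f')
  haveI : IsLocallyNoetherian (f'.fiber (f' y')) :=
    LocallyOfFiniteType.isLocallyNoetherian (f'.fiberToSpecResidueField (f' y'))
  let z := f'.asFiber y'
  have hz : f.fiberι (q (f' y')) (g z) = p y' := by
    rw [← Scheme.Hom.comp_apply, hgι, Scheme.Hom.comp_apply, Scheme.Hom.fiberι_asFiber]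
  have key : ∀ (x : X) (t : S) (w : f.fiber t), f.fiberι t w = x →
      RelCanon.SkAt k ((Scheme.Modules.pullback (f.fiberι t)).obj G) w →
      RelCanon.SkAt k ((Scheme.Modules.pullback (f.fiberι (f x))).obj G) (f.asFiber x) := by
    intro x t w hx hw
    have ht : f x = t := by rw [← hx]; exact GrothLib.DimCut.apply_fiberι f t w
    subst ht
    rwa [GrothLib.DimCut.eq_asFiber f x w hx] at hw
  refine key _ _ (g z) hz ?_
  let P := (Scheme.Modules.pullback (f.fiberι (q (f' y')))).obj G
  have hP : Coh.IsCoh P := ModDesc.isCoh_pullback _ _ hG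
  let R := (f.fiber (q (f' y'))).presheaf.stalk (g z)
  let R' := (f'.fiber (f' y')).presheaf.stalk z
  let E := P.presheaf.stalk (g z)
  letI : Algebra R R' := (g.stalkMap z).hom.toAlgebra
  haveI : IsLocalHom (algebraMap R R') := inferInstanceAs (IsLocalHom (g.stalkMap z).hom)
  haveI : Module.Flat R R' := Flat.stalkMap g z
  haveI : IsNoetherianRing R := GrothLib.DimCut.isNoetherianRing_stalk_fiber f _ _
  haveI : IsNoetherianRing R' := GrothLib.DimCut.isNoetherianRing_stalk_fiber f' _ _
  haveI : Module.Finite R E := QuasiFlat.finite_stalk P hP _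
  let el : ((Scheme.Modules.pullback g).obj P).presheaf.stalk z ≃ₗ[R'] R' ⊗[R] E :=
    ((QCoh.stalkPullbackIso g z).app P).toLinearEquiv
  let eP : (Scheme.Modules.pullback g).obj P ≅
      (Scheme.Modules.pullback (f'.fiberι (f' y'))).obj ((Scheme.Modules.pullback p).obj G) :=
    (Scheme.Modules.pullbackComp g (f.fiberι (q (f' y')))).app G ≪≫ (Scheme.Modules.pullbackCongr hgι).app G ≪≫
      ((Scheme.Modules.pullbackComp (f'.fiberι (f' y')) p).app G).symm
  haveI : Module.Finite R' (((Scheme.Modules.pullback (f'.fiberι (f' y'))).obj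
      ((Scheme.Modules.pullback p).obj G)).presheaf.stalk z) :=
    Module.Finite.equiv (el.symm.trans (stalkIso eP z))
  have h2 : LocCoh.HasSk k R' (R' ⊗[R] E) := GrothLib.SkExt.hasSk_congr (el.symm.trans (stalkIso eP z)).symm h.2
  intro P₀ _
  let m := IsLocalRing.maximalIdeal R'
  haveI : Nontrivial (LocalizedModule m.primeCompl R') := Module.mem_support_iff.1
    (show (⟨m, inferInstance⟩ : PrimeSpectrum R') ∈ Module.support R' R' by
      rw [Module.mem_support_iff_of_finite, Module.annihilator_eq_bot.2 inferInstance]; exact bot_le)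
  have hle : P₀ ≤ m.comap (algebraMap R R') := by
    rw [show m.comap (algebraMap R R') = IsLocalRing.maximalIdeal R from IsLocalRing.maximalIdeal_comap _]
    exact IsLocalRing.le_maximalIdeal ‹P₀.IsPrime›.ne_top
  exact GrothLib.SkFlat5.skCond_descends E R' m inferInstance (fun r _ _ => h2 r) P₀ hle

variable {A : Type u} [CommRing A] [IsNoetherianRing A] {Y : Scheme.{u}} [Y.Over (Spec (CommRingCat.of A))]
  [IsProper (Y ↘ Spec (CommRingCat.of A))]

/-- Reflexive powers commute with flat base change. -/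
theorem nonempty_refPowZ_flat (d : ℕ)
    (hS : RelCanon.IsSkMor (Y ↘ Spec (CommRingCat.of A)) 2) (hd : Cyc.HasRelDim (Y ↘ Spec (CommRingCat.of A)) d)
    (ω : Y.Modules) (hω : RelCanon.IsDualizingSheaf A Y d ω)
    (hG : ∀ y : Y, y ∉ RelCanon.gorLocus (Y ↘ Spec (CommRingCat.of A)) →
      (2 : WithBot ℕ∞) ≤ ringKrullDim (((Y ↘ Spec (CommRingCat.of A)).fiber
        ((Y ↘ Spec (CommRingCat.of A)) y)).presheaf.stalk ((Y ↘ Spec (CommRingCat.of A)).asFiber y)))
    (B : Type u) [CommRing B] [IsNoetherianRing B] (φ : A →+* B) [Flat (Spec.map (CommRingCat.ofHom φ))]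
    (Y' : Scheme.{u}) [Y'.Over (Spec (CommRingCat.of B))] (p : Y' ⟶ Y)
    (hp : IsPullback p (Y' ↘ Spec (CommRingCat.of B)) (Y ↘ Spec (CommRingCat.of A)) (Spec.map (CommRingCat.ofHom φ)))
    (ω' : Y'.Modules) (hω' : RelCanon.IsDualizingSheaf B Y' d ω') :
    Coh.IsCoh ω ∧ ∀ m : ℤ,
      Nonempty ((Scheme.Modules.pullback p).obj (RelCanon.refPowZ ω m) ≅ RelCanon.refPowZ ω' m) := by
  let f := Y ↘ Spec (CommRingCat.of A)
  let f' := Y' ↘ Spec (CommRingCat.of B)
  haveI : IsLocallyNoetherian Y := LocallyOfFiniteType.isLocallyNoetherian f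
  haveI : IsProper f' := MorphismProperty.of_isPullback (P := @IsProper) hp inferInstance
  haveI : IsLocallyNoetherian Y' := LocallyOfFiniteType.isLocallyNoetherian f'
  haveI : Flat p := MorphismProperty.of_isPullback (P := @Flat) hp.flip inferInstance
  have hS' := isSkMor_of_isPullback hp hS
  obtain ⟨hωc, hω'c, U, hbc, hU2⟩ := exists_bcOn d hS hd ω hω hG B φ Y' p hp ω' hω'
  refine ⟨hωc, fun m => ?_⟩
  obtain ⟨eP⟩ := (hbc.refPowZ hωc hω'c m).pullback_iso
  obtain ⟨H, hH, he⟩ := exists_ddual_refPowZ hωc m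
  obtain ⟨H', hH', he'⟩ := exists_ddual_refPowZ hω'c m
  refine nonempty_iso_of_restrict (ModDesc.isCoh_pullback p _ (isCoh_refPowZ hωc m)) (isCoh_refPowZ hω'c m)
    (p ⁻¹ᵁ U) (fun y' hy' => ?_) (fun y' hy' => ?_) eP
  · letI := (p.stalkMap y').hom.toAlgebra
    rw [GrothLib.DepthAlong.depth_pullback_stalk p _ (isCoh_refPowZ hωc m) y', he]
    exact (two_le_depth_ddual hH _ (two_le_depth_of_fibre f hS (p y') (hU2 _ hy'))).trans le_self_add
  · rw [he']
    exact two_le_depth_ddual hH' _
      (two_le_depth_of_fibre f' hS' y' ((hU2 (p y') hy').trans (ringKrullDim_fibre_le hp y')))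

end GrothLib.DualFree20

end
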