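import Groth.Agent.Lib.DualFree20.IndexBC
import Groth.Agent.Lib.SkNhd1.Basic
import Groth.Agent.Lib.Snapper.Positive

/-!
# Invertible reflexive powers near a point
-/

set_option autoImplicit false
set_option linter.all false
set_option backward.isDefEq.respectTransparency false
set_option maxHeartbeats 1600000

universe u

open CategoryTheory CategoryTheory.Limits AlgebraicGeometry TopologicalSpace
attribute [local instance] HasDerivedCategory.standard

noncomputable section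

namespace GrothLib.DualFree20

open GrothLib.OX GrothLib.RightAdj22

section General

variable {X : Scheme.{u}}

theorem invertibleAt_of_restrict_at {M : X.Modules} (U : X.Opens) (x : X) (hx : x ∈ U)
    (h : RelCanon.InvertibleAt (M.restrict U.ι) (⟨x, hx⟩ : (U : Scheme.{u}))) : RelCanon.InvertibleAt M x := by
  obtain ⟨W, hW, ⟨e⟩⟩ := h
  let j := W.ι ≫ U.ι
  refine ⟨j.opensRange, ⟨⟨⟨x, hx⟩, hW⟩, rfl⟩, ⟨?_⟩⟩
  exact (Scheme.Modules.restrictFunctorCongr j.isoOpensRange_inv_comp.symm).app M ≪≫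
    (Scheme.Modules.restrictFunctorComp j.isoOpensRange.inv j).app M ≪≫
    (Scheme.Modules.restrictFunctor j.isoOpensRange.inv).mapIso
      ((Scheme.Modules.restrictFunctorComp W.ι U.ι).app M ≪≫ e) ≪≫ DualRing.restrictStructureIso _

theorem invertibleAt_congr_open {M N : X.Modules} (U : X.Opens) (e : M.restrict U.ι ≅ N.restrict U.ι) {x : X}
    (hx : x ∈ U) (h : RelCanon.InvertibleAt N x) : RelCanon.InvertibleAt M x :=
  invertibleAt_of_restrict_at U x hx (invertibleAt_of_iso (e ≪≫ (Scheme.Modules.restrictFunctorIsoPullback U.ι).app N)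
    (invertibleAt_pullback U.ι (M := N) ⟨x, hx⟩ h))

variable [IsLocallyNoetherian X]

/-- Double duals agreeing off codimension two near a point are invertible there together. -/
theorem invertibleAt_of_agree {M N H₁ H₂ : X.Modules} (h₁ : Coh.IsCoh H₁) (h₂ : Coh.IsCoh H₂)
    (hM : M = RefHull.ddual H₁) (hN : N = RefHull.ddual H₂) (V W : X.Opens)
    (hO : ∀ x, x ∈ W → x ∉ V → (2 : ℕ∞) ≤ LocCoh.depth (X.presheaf.stalk x) (X.presheaf.stalk x))
    (e : M.restrict V.ι ≅ N.restrict V.ι) {z : X} (hz : z ∈ W) (h : RelCanon.InvertibleAt M z) :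
    RelCanon.InvertibleAt N z := by
  subst hM hN
  have hMc := isCoh_ddual' h₁
  have hNc := isCoh_ddual' h₂
  obtain ⟨pr⟩ := AlmostAmple24.nonempty_pullback_restrict W.ι V (RefHull.ddual H₁)
  obtain ⟨pr'⟩ := AlmostAmple24.nonempty_pullback_restrict W.ι V (RefHull.ddual H₂)
  obtain ⟨eW⟩ := nonempty_iso_of_restrict (ModDesc.isCoh_pullback W.ι _ hMc) (ModDesc.isCoh_pullback W.ι _ hNc)
    (W.ι ⁻¹ᵁ V)
    (fun w hw => by
      letI := (W.ι.stalkMap w).hom.toAlgebra
      rw [GrothLib.DepthAlong.depth_pullback_stalk W.ι _ hMc w]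
      exact (two_le_depth_ddual h₁ _ (hO _ w.2 hw)).trans le_self_add)
    (fun w hw => by
      letI := (W.ι.stalkMap w).hom.toAlgebra
      rw [GrothLib.DepthAlong.depth_pullback_stalk W.ι _ hNc w]
      exact (two_le_depth_ddual h₂ _ (hO _ w.2 hw)).trans le_self_add)
    (pr ≪≫ (Scheme.Modules.pullback (W.ι ∣_ V)).mapIso e ≪≫ pr'.symm)
  exact invertibleAt_descend W.ι hNc ⟨z, hz⟩
    (invertibleAt_of_iso eW.symm (invertibleAt_pullback W.ι (M := RefHull.ddual H₁) ⟨z, hz⟩ h))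

/-- Over an open where the module is invertible its reflexive power is the power of its restriction. -/
theorem nonempty_refPow_restrict {F : X.Modules} (V : X.Opens) (hF : PicF.IsInvertible (F.restrict V.ι)) (m : ℕ) :
    Nonempty ((RelCanon.refPowZ F (m : ℤ)).restrict V.ι ≅ CohB1.tensorPow (F.restrict V.ι) m) := by
  obtain ⟨a⟩ := nonempty_tensorPow_restrict V hF m
  obtain ⟨b⟩ := nonempty_ddual_restrict V (ParaPair.isInvertible_of_iso a (PerfLim10.isInvertible_tensorPow hF m))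
  exact ⟨b ≪≫ a⟩

theorem isCoh_tensorMod' {C D : X.Modules} (hC : Coh.IsCoh C) (hD : Coh.IsCoh D) :
    Coh.IsCoh (CohB1.tensorMod C D) := TensorPerf20.isCoh_tensor hC hD

/-- A quotient of invertible reflexive modules is invertible. -/
theorem invertibleAt_quot {A C N HN : X.Modules} (hAc : Coh.IsCoh A) (hCc : Coh.IsCoh C) (hHN : Coh.IsCoh HN)
    (heN : N = RefHull.ddual HN) (V W : X.Opens) {Ta Tc : (V : Scheme.{u}).Modules}
    (hTa : PicF.IsInvertible Ta) (hTc : PicF.IsInvertible Tc) (eA : A.restrict V.ι ≅ Ta)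
    (eC' : C.restrict V.ι ≅ CohB1.tensorMod Tc Ta) (eN : N.restrict V.ι ≅ Tc)
    (hO : ∀ x, x ∈ W → x ∉ V → (2 : ℕ∞) ≤ LocCoh.depth (X.presheaf.stalk x) (X.presheaf.stalk x))
    {z : X} (hz : z ∈ W) (ha : RelCanon.InvertibleAt A z) (hc : RelCanon.InvertibleAt C z) :
    RelCanon.InvertibleAt N z := by
  let L := CohB1.tensorMod C (RefHull.dual A)
  have hLc : Coh.IsCoh L := isCoh_tensorMod' hCc (isCoh_dual' hAc)
  obtain ⟨da⟩ := nonempty_dual_restrict hAc V (ParaPair.isInvertible_of_iso eA hTa)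
  obtain ⟨db⟩ := nonempty_dual_congr_inv eA hTa
  obtain ⟨dc⟩ := DualTensor11.nonempty_dual_iso_iHom (LocFreeHom.isFinLocFree_of_isInvertible hTa)
  obtain ⟨-, ⟨i⟩⟩ := PBDeg.exists_dual_inverse hTa
  let eL : L.restrict V.ι ≅ Tc :=
    (Scheme.Modules.restrictFunctorIsoPullback V.ι).app L ≪≫ OX.pullTensorIso V.ι C (RefHull.dual A) ≪≫
      Ample.LineData.tensorModMapIso
        (((Scheme.Modules.restrictFunctorIsoPullback V.ι).app C).symm ≪≫ eC')
        (((Scheme.Modules.restrictFunctorIsoPullback V.ι).app _).symm ≪≫ da ≪≫ db ≪≫ dc) ≪≫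
      OX.tensorAssoc Tc Ta _ ≪≫ Ample.LineData.tensorModMapIso (Iso.refl Tc) i ≪≫ Euler.tFUnitIso Tc
  obtain ⟨ed⟩ := nonempty_ddual_restrict V (ParaPair.isInvertible_of_iso eL hTc)
  obtain ⟨Wa, hza, ⟨ua⟩⟩ := ha
  obtain ⟨Wc, hzc, ⟨uc⟩⟩ := hc
  let W₀ := Wa ⊓ Wc
  have hLi : RelCanon.InvertibleAt L z := by
    have hA₀ : PicF.IsInvertible (A.restrict W₀.ι) :=
      isInvertible_restrict_of_invertibleAt W₀ fun x hx => ⟨Wa, hx.1, ⟨ua⟩⟩
    have hC₀ : PicF.IsInvertible (C.restrict W₀.ι) :=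
      isInvertible_restrict_of_invertibleAt W₀ fun x hx => ⟨Wc, hx.2, ⟨uc⟩⟩
    obtain ⟨d₀⟩ := nonempty_dual_restrict hAc W₀ hA₀
    refine invertibleAt_of_restrict W₀ (ParaPair.isInvertible_of_iso
      ((Scheme.Modules.restrictFunctorIsoPullback W₀.ι).app L ≪≫ OX.pullTensorIso W₀.ι C (RefHull.dual A) ≪≫
        Ample.LineData.tensorModMapIso ((Scheme.Modules.restrictFunctorIsoPullback W₀.ι).app C).symm
          (((Scheme.Modules.restrictFunctorIsoPullback W₀.ι).app _).symm ≪≫ d₀))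
      (Ample.isInvertible_tensorMod hC₀ (isInvertible_dual_of hA₀))) z ⟨hza, hzc⟩
  have hLd : RelCanon.InvertibleAt (RefHull.ddual L) z := by
    obtain ⟨W₁, hz₁, ⟨u₁⟩⟩ := hLi
    have hi : PicF.IsInvertible (L.restrict W₁.ι) := ParaPair.isInvertible_of_iso u₁ (isInvertible_structureModule _)
    obtain ⟨e₁⟩ := nonempty_ddual_restrict W₁ hi
    exact invertibleAt_of_restrict W₁ (ParaPair.isInvertible_of_iso e₁ hi) z hz₁
  exact invertibleAt_of_agree hLc hHN rfl heN V W hO (ed ≪≫ eL ≪≫ eN.symm) hz hLd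

/-- The exponents of invertible reflexive powers are closed under subtraction. -/
theorem invertibleAt_refPow_sub {F : X.Modules} (hF : Coh.IsCoh F) (V W : X.Opens)
    (hV : PicF.IsInvertible (F.restrict V.ι))
    (hO : ∀ x, x ∈ W → x ∉ V → (2 : ℕ∞) ≤ LocCoh.depth (X.presheaf.stalk x) (X.presheaf.stalk x))
    {z : X} (hz : z ∈ W) {a c : ℕ} (ha : RelCanon.InvertibleAt (RelCanon.refPowZ F (a : ℤ)) z)
    (hac : RelCanon.InvertibleAt (RelCanon.refPowZ F ((c + a : ℕ) : ℤ)) z) :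
    RelCanon.InvertibleAt (RelCanon.refPowZ F (c : ℤ)) z := by
  obtain ⟨eA⟩ := nonempty_refPow_restrict V hV a
  obtain ⟨eC⟩ := nonempty_refPow_restrict V hV (c + a)
  obtain ⟨eN⟩ := nonempty_refPow_restrict V hV c
  obtain ⟨sp⟩ := Snapper.nonempty_tensorPow_add (F.restrict V.ι) c a
  obtain ⟨HN, hHN, heN⟩ := exists_ddual_refPowZ hF (c : ℤ)
  exact invertibleAt_quot (isCoh_refPowZ hF _) (isCoh_refPowZ hF _) hHN heN V W
    (PerfLim10.isInvertible_tensorPow hV a) (PerfLim10.isInvertible_tensorPow hV c) eA (eC ≪≫ sp) eN hO hz ha hac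

end General

variable {A : Type u} [CommRing A] [IsNoetherianRing A] {Y : Scheme.{u}} [Y.Over (Spec (CommRingCat.of A))]
  [IsProper (Y ↘ Spec (CommRingCat.of A))]

/-- The open over which the base change of the relative canonical sheaf is an invertible one. -/
theorem exists_bcOn_gor (d : ℕ)
    (hS : RelCanon.IsSkMor (Y ↘ Spec (CommRingCat.of A)) 2) (hd : Cyc.HasRelDim (Y ↘ Spec (CommRingCat.of A)) d)
    (ω : Y.Modules) (hω : RelCanon.IsDualizingSheaf A Y d ω)
    (B : Type u) [CommRing B] [IsNoetherianRing B] (φ : A →+* B) (Y' : Scheme.{u})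
    [Y'.Over (Spec (CommRingCat.of B))] (p : Y' ⟶ Y)
    (hp : IsPullback p (Y' ↘ Spec (CommRingCat.of B)) (Y ↘ Spec (CommRingCat.of A)) (Spec.map (CommRingCat.ofHom φ)))
    (ω' : Y'.Modules) (hω' : RelCanon.IsDualizingSheaf B Y' d ω') :
    Coh.IsCoh ω ∧ Coh.IsCoh ω' ∧ ∃ U : Y.Opens, BCOn p U ω ω' ∧
      (∀ y, Dual3.IsGorensteinAt (Y ↘ Spec (CommRingCat.of A)) y → y ∈ U) := by
  let f := Y ↘ Spec (CommRingCat.of A)
  let f' := Y' ↘ Spec (CommRingCat.of B)
  haveI : Flat f := hS.1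
  haveI : LocallyOfFiniteType f := hS.2.1
  haveI : LocallyOfFinitePresentation f := GrothLib.LocProp.locallyOfFinitePresentation_of_isLocallyNoetherian f
  haveI : IsLocallyNoetherian Y := LocallyOfFiniteType.isLocallyNoetherian f
  haveI : IsProper f' := MorphismProperty.of_isPullback (P := @IsProper) hp inferInstance
  haveI : Flat f' := MorphismProperty.of_isPullback (P := @Flat) hp inferInstance
  haveI : IsLocallyNoetherian Y' := LocallyOfFiniteType.isLocallyNoetherian f'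
  have hdim : ∀ x : Y, FlatMor.fibreDimAt f x = (d : WithBot ℕ∞) := fun x => by
    haveI : LocallyOfFiniteType (f.fiberToSpecResidueField (f x)) :=
      MorphismProperty.pullback_snd _ _ (inferInstance : LocallyOfFiniteType f)
    exact GrothLib.CodimExt27.localDim_eq_of_pure (k := (Spec (CommRingCat.of A)).residueField (f x))
      (f.fiberToSpecResidueField (f x)) (hd (f x)) (f.asFiber x)
  have hd' : ∀ s, topologicalKrullDim ↥(f.fiber s) ≤ (d : WithBot ℕ∞) :=
    fun s => GrothLib.FibPd.topologicalKrullDim_le_of_components fun Z hZ => (hd s Z hZ).le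
  have hd'' : ∀ s, topologicalKrullDim ↥(f'.fiber s) ≤ (d : WithBot ℕ∞) :=
    fun s => (GrothLib.FibreBC.topologicalKrullDim_fiber hp s).le.trans (hd' _)
  haveI : CompactSpace Y := QuasiCompact.compactSpace_of_compactSpace f
  haveI : QuasiSeparatedSpace Y := quasiSeparatedSpace_of_quasiSeparated f
  haveI : CompactSpace Y' := QuasiCompact.compactSpace_of_compactSpace f'
  haveI : QuasiSeparatedSpace Y' := quasiSeparatedSpace_of_quasiSeparated f'
  haveI : DCoh.HasRpush f := KInj.hasRightDerivedFunctor _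
  haveI : DCoh.HasRpush f' := KInj.hasRightDerivedFunctor _
  have hf : DCoh.RpushPreservesQCoh f := fun K hK =>
    GrothLib.KSix19.BettiExact.isQCohD_of_iso' ((rpushIsoRres f).app K).symm (isQCohD_Rres f K hK)
  have hf' : DCoh.RpushPreservesQCoh f' := fun K hK =>
    GrothLib.KSix19.BettiExact.isQCohD_of_iso' ((rpushIsoRres f').app K).symm (isQCohD_Rres f' K hK)
  haveI : (DCoh.RpushQ f hf).IsLeftAdjoint := OX.isLeftAdjoint_lift_Rpush f hf
  haveI : (DCoh.RpushQ f' hf').IsLeftAdjoint := OX.isLeftAdjoint_lift_Rpush f' hf'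
  let adj := Adjunction.ofIsLeftAdjoint (DCoh.RpushQ f hf)
  let adj' := Adjunction.ofIsLeftAdjoint (DCoh.RpushQ f' hf')
  let W₀ : DCoh.DQCoh (Spec (CommRingCat.of A)) := ⟨DCoh.inD _ (Coh.structureModule _),
    KSix19.RpushAmp.isQCohD_inD _ (inferInstanceAs (Coh.structureModule (Spec (CommRingCat.of A))).IsQuasicoherent)⟩
  let W₁ : DCoh.DQCoh (Spec (CommRingCat.of B)) := ⟨DCoh.inD _ (Coh.structureModule _),
    KSix19.RpushAmp.isQCohD_inD _ (inferInstanceAs (Coh.structureModule (Spec (CommRingCat.of B))).IsQuasicoherent)⟩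
  let K := ((DCoh.RpushQ f hf).rightAdjoint.obj W₀).obj
  let K' := ((DCoh.RpushQ f' hf').rightAdjoint.obj W₁).obj
  obtain ⟨u⟩ := nonempty_iso_of_isDualizingSheaf (isDualizingSheaf_adjoint f rfl d hd' hf adj W₀ ⟨Iso.refl _⟩) hω
  let u' : DCoh.HD K (-(d : ℤ)) ≅ ω := eqToIso (by rw [zero_sub]) ≪≫ u
  let ω'' := DCoh.HD K' (-(d : ℤ))
  have hω'' : RelCanon.IsDualizingSheaf B Y' d ω'' :=
    isDualizingSheaf_of_iso (eqToIso (by rw [zero_sub])) (isDualizingSheaf_adjoint f' rfl d hd'' hf' adj' W₁ ⟨Iso.refl _⟩)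
  let c : DEt.Compactification f := ⟨Y, 𝟙 Y, f, inferInstance, inferInstance, Category.id_comp f⟩
  haveI : DCoh.HasRpush c.fbar := ‹DCoh.HasRpush f›
  haveI : PreservesFiniteLimits (Scheme.Modules.restrictFunctor c.j) := inferInstance
  let η₀ : ∀ i, DCoh.HD ((Dual3.shriekC c (DCoh.RpushQ f hf).rightAdjoint).obj W₀) i ≅ DCoh.HD K i := fun i =>
    (DerivedCategory.homologyFunctor _ i).mapIso ((RightAdj22.resDIdIso Y).app K)
  have hωc : Coh.IsCoh ω := GrothLib.QCoh.isCoh_of_iso u'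
    (GrothLib.QCoh.isCoh_of_iso (η₀ _) (GrothLib.ShriekBridge22.isCoh_HD_shriekC_O f c hf adj W₀ ⟨Iso.refl _⟩ _))
  let c' : DEt.Compactification f' := ⟨Y', 𝟙 Y', f', inferInstance, inferInstance, Category.id_comp f'⟩
  haveI : DCoh.HasRpush c'.fbar := ‹DCoh.HasRpush f'›
  haveI : PreservesFiniteLimits (Scheme.Modules.restrictFunctor c'.j) := inferInstance
  have hω''c : Coh.IsCoh ω'' := GrothLib.QCoh.isCoh_of_iso
    ((DerivedCategory.homologyFunctor _ _).mapIso ((RightAdj22.resDIdIso Y').app K'))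
    (GrothLib.ShriekBridge22.isCoh_HD_shriekC_O f' c' hf' adj' W₁ ⟨Iso.refl _⟩ _)
  haveI := hωc.1
  obtain ⟨v⟩ := nonempty_iso_of_isDualizingSheaf hω'' hω'
  have hgor : ∀ y : Y, Dual3.IsGorensteinAt f y → RelCanon.InvertibleAt ω y := by
    intro y hy
    obtain ⟨V, g, _, m, ⟨v, rfl⟩, ⟨e⟩⟩ :=
      (GrothLib.ShriekBridge22.isGorensteinAt_iff_exists_chart f c hf adj W₀ ⟨Iso.refl _⟩ y).1 hy
    let S := DerivedCategory.singleFunctor V.Modules
    let e₁ : (resD g).obj K ≅ (S (-m)).obj (Coh.structureModule V) :=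
      (resD g).mapIso ((RightAdj22.resDIdIso Y).app K).symm ≪≫ e ≪≫
        ((DerivedCategory.singleFunctors V.Modules).shiftIso m (-m) 0 (by omega)).app (Coh.structureModule V)
    obtain rfl : m = (d : ℤ) := by
      by_contra hne'
      have h0 : IsZero ((Scheme.Modules.restrictFunctor g).obj (DCoh.HD K (-(d : ℤ)))) := by
        refine IsZero.of_iso ?_ ((HDResIso g K _).symm ≪≫ (DerivedCategory.homologyFunctor _ _).mapIso e₁)
        rcases lt_or_gt_of_ne (show -(d : ℤ) ≠ -m by omega) with hlt | hgt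
        · exact (DerivedCategory.isGE_iff _ (-m)).1 inferInstance _ hlt
        · exact (DerivedCategory.isLE_iff _ (-m)).1 inferInstance _ hgt
      have h1 := (OX.isZero_iff _).1 h0 v
      have hn : Nontrivial ((DCoh.HD K (-(d : ℤ))).presheaf.stalk (g v)) :=
        (nontrivial_stalk_of_iso (η₀ _) _).1
          ((GrothLib.ShriekBridge22.stalk_of_isCMAt f c hf adj W₀ ⟨Iso.refl _⟩
            (GrothLib.CurveStk.isCMAt_of_gorAt hy) (hdim _) _).2 rfl)
      have h2 : Nontrivial (((Scheme.Modules.restrictFunctor g).obj (DCoh.HD K (-(d : ℤ)))).presheaf.stalk v) :=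
        (((Scheme.Modules.restrictStalkNatIso g v).app _).addCommGroupIsoToAddEquiv.toEquiv.nontrivial_congr).2 hn
      exact not_nontrivial_iff_subsingleton.2 (ModuleCat.subsingleton_of_isZero h1) h2
    let e₂ : (Scheme.Modules.restrictFunctor g).obj ω ≅ Coh.structureModule V :=
      (Scheme.Modules.restrictFunctor g).mapIso u'.symm ≪≫ (HDResIso g K _).symm ≪≫
        (DerivedCategory.homologyFunctor _ _).mapIso e₁ ≪≫
        (DerivedCategory.singleFunctorCompHomologyFunctorIso V.Modules _).app _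
    let e₃ : ω.restrict g.opensRange.ι ≅ Coh.structureModule (g.opensRange : Scheme.{u}) :=
      (Scheme.Modules.restrictFunctorCongr g.isoOpensRange_inv_comp.symm).app ω ≪≫
        (Scheme.Modules.restrictFunctorComp g.isoOpensRange.inv g).app ω ≪≫
        (Scheme.Modules.restrictFunctor g.isoOpensRange.inv).mapIso e₂ ≪≫ DualRing.restrictStructureIso _
    exact ⟨g.opensRange, ⟨v, rfl⟩, ⟨e₃⟩⟩
  refine ⟨hωc, GrothLib.QCoh.isCoh_of_iso v hω''c, ?_⟩
  let U : Y.Opens := ⟨{y | MoreMor.IsCMAt f y}, Groth.Agent.S4961.result f⟩ ⊓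
    ⟨{y | RelCanon.InvertibleAt ω y}, isOpen_iff_mem_nhds.2 fun y ⟨W, hy, e⟩ =>
      Filter.mem_of_superset (W.isOpen.mem_nhds hy) fun z hz => ⟨W, hz, e⟩⟩
  let V : Y'.Opens := p ⁻¹ᵁ U
  haveI := OX.hasLpull p
  haveI := OX.hasLpull (p ∣_ U)
  obtain ⟨eL⟩ := RightAdj20.nonempty_lpull_adjoint φ hp hf adj W₀ ⟨Iso.refl _⟩ hf' adj' W₁ ⟨Iso.refl _⟩
  obtain ⟨sq⟩ := RightAdj20.nonempty_resD_lpull_square p V.ι U.ι (p ∣_ U) (morphismRestrict_ι p U)
  have hle : ((resD U.ι).obj K).IsLE (-(d : ℤ)) := (DerivedCategory.isLE_iff _ _).2 fun i hi => by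
    refine IsZero.of_iso ?_ (HDResIso U.ι K i)
    refine OX.isZero_of_subsingleton_stalks _ fun z => ?_
    refine @Equiv.subsingleton _ _
      ((Scheme.Modules.restrictStalkNatIso U.ι z).app _).addCommGroupIsoToAddEquiv.toEquiv ?_
    refine not_nontrivial_iff_subsingleton.1 fun hn => (ne_of_gt hi) ?_
    exact (GrothLib.ShriekBridge22.stalk_of_isCMAt f c hf adj W₀ ⟨Iso.refl _⟩ z.2.1 (hdim _) i).1
      ((nontrivial_stalk_of_iso (η₀ i) _).2 hn)
  obtain ⟨top⟩ := GrothLib.ThickDesc6.nonempty_hd_lpull_top (p ∣_ U) ((resD U.ι).obj K) (-(d : ℤ)) hle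
  let eV : ω''.restrict V.ι ≅ (Scheme.Modules.pullback (p ∣_ U)).obj (ω.restrict U.ι) :=
    (HDResIso V.ι K' _).symm ≪≫
      (DerivedCategory.homologyFunctor _ _).mapIso ((resD V.ι).mapIso eL.symm ≪≫ sq.app _) ≪≫ top ≪≫
      (Scheme.Modules.pullback (p ∣_ U)).mapIso (HDResIso U.ι K _ ≪≫ (Scheme.Modules.restrictFunctor U.ι).mapIso u')
  refine ⟨U, ⟨isInvertible_restrict_of_invertibleAt U fun y hy => hy.2,
    ⟨(Scheme.Modules.restrictFunctor V.ι).mapIso v.symm ≪≫ eV⟩⟩, fun y h => ?_⟩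
  exact ⟨GrothLib.CurveStk.isCMAt_of_gorAt h, hgor y h⟩

/-- A reflexive power invertible near a point gives the index condition on the fibre. -/
theorem fibre_index_of_invertibleAt (d : ℕ)
    (hS : RelCanon.IsSkMor (Y ↘ Spec (CommRingCat.of A)) 2) (hd : Cyc.HasRelDim (Y ↘ Spec (CommRingCat.of A)) d)
    (ω : Y.Modules) (hω : RelCanon.IsDualizingSheaf A Y d ω) (O : Y.Opens)
    (hO : ∀ z, z ∈ O → z ∉ RelCanon.gorLocus (Y ↘ Spec (CommRingCat.of A)) →
      (2 : WithBot ℕ∞) ≤ ringKrullDim (((Y ↘ Spec (CommRingCat.of A)).fiber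
        ((Y ↘ Spec (CommRingCat.of A)) z)).presheaf.stalk ((Y ↘ Spec (CommRingCat.of A)).asFiber z)))
    (r : ℕ) (hr : 0 < r) (y : Y) (hy : y ∈ O) (hi : RelCanon.InvertibleAt (RelCanon.refPowZ ω r) y)
    (ωy : ((Y ↘ Spec (CommRingCat.of A)).fiber ((Y ↘ Spec (CommRingCat.of A)) y)).Modules)
    (hωy : @RelCanon.IsDualizingSheaf ((Spec (CommRingCat.of A)).residueField ((Y ↘ Spec (CommRingCat.of A)) y)) _
      ((Y ↘ Spec (CommRingCat.of A)).fiber ((Y ↘ Spec (CommRingCat.of A)) y))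
      ⟨(Y ↘ Spec (CommRingCat.of A)).fiberToSpecResidueField ((Y ↘ Spec (CommRingCat.of A)) y)⟩ d ωy) :
    RelCanon.IsQGorWithAt ωy ((Y ↘ Spec (CommRingCat.of A)).asFiber y) ∧
      RelCanon.gorIndexWithAt ωy ((Y ↘ Spec (CommRingCat.of A)).asFiber y) ∣ r := by
  let f := Y ↘ Spec (CommRingCat.of A)
  haveI : Flat f := hS.1
  haveI : IsLocallyNoetherian Y := LocallyOfFiniteType.isLocallyNoetherian f
  let t := f y
  let κ := (Spec (CommRingCat.of A)).residueField t
  letI : (f.fiber t).Over (Spec (CommRingCat.of κ)) := ⟨f.fiberToSpecResidueField t⟩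
  let φ : CommRingCat.of A ⟶ κ := Spec.preimage ((Spec (CommRingCat.of A)).fromSpecResidueField t)
  have hsq : IsPullback (f.fiberι t) ((f.fiber t) ↘ Spec (CommRingCat.of κ)) f (Spec.map (CommRingCat.ofHom φ.hom)) := by
    change IsPullback (f.fiberι t) (f.fiberToSpecResidueField t) f (Spec.map φ)
    rw [Spec.map_preimage]
    exact IsPullback.of_hasPullback _ _
  haveI : IsProper ((f.fiber t) ↘ Spec (CommRingCat.of κ)) :=
    MorphismProperty.of_isPullback hsq (inferInstance : IsProper f)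
  haveI : IsLocallyNoetherian (f.fiber t) :=
    LocallyOfFiniteType.isLocallyNoetherian ((f.fiber t) ↘ Spec (CommRingCat.of κ))
  obtain ⟨hωc, hωyc, U, hbc, hU⟩ := exists_bcOn_gor d hS hd ω hω κ φ.hom (f.fiber t) (f.fiberι t) hsq ωy hωy
  let V := f.fiberι t ⁻¹ᵁ U
  let W := f.fiberι t ⁻¹ᵁ O
  have hS₀ := isSkMor_of_isPullback hsq hS
  have hdep : ∀ x, x ∈ W → x ∉ V →
      (2 : ℕ∞) ≤ LocCoh.depth ((f.fiber t).presheaf.stalk x) ((f.fiber t).presheaf.stalk x) := fun x hxW hx =>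
    two_le_depth_of_fibre ((f.fiber t) ↘ Spec (CommRingCat.of κ)) hS₀ x
      ((hO _ hxW fun h => hx (hU _ h)).trans (ringKrullDim_fibre_le hsq x))
  have hzW : f.asFiber y ∈ W := by
    show f.fiberι (f y) (f.asFiber y) ∈ O
    rwa [Scheme.Hom.fiberι_asFiber]
  let G := RelCanon.refPowZ ω (r : ℤ)
  let P := (Scheme.Modules.pullback (f.fiberι t)).obj G
  have hPc : Coh.IsCoh P := ModDesc.isCoh_pullback _ _ (isCoh_refPowZ hωc _)
  have hb := hbc.refPowZ hωc hωyc (r : ℤ)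
  obtain ⟨eP⟩ := hb.pullback_iso
  obtain ⟨ed⟩ := nonempty_ddual_restrict V (ParaPair.isInvertible_of_iso eP hb.invertible)
  obtain ⟨W₁, hz₁, ⟨u₁⟩⟩ := invertibleAt_pullback (f.fiberι t) (M := G) (f.asFiber y)
    (by rwa [Scheme.Hom.fiberι_asFiber])
  have hi₁ : PicF.IsInvertible (P.restrict W₁.ι) := ParaPair.isInvertible_of_iso u₁ (isInvertible_structureModule _)
  obtain ⟨e₁⟩ := nonempty_ddual_restrict W₁ hi₁
  have hPd := invertibleAt_of_restrict W₁ (ParaPair.isInvertible_of_iso e₁ hi₁) _ hz₁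
  obtain ⟨H, hH, he⟩ := exists_ddual_refPowZ hωyc (r : ℤ)
  have hr' : RelCanon.InvertibleAt (RelCanon.refPowZ ωy (r : ℤ)) (f.asFiber y) :=
    invertibleAt_of_agree hPc hH rfl he V W hdep (ed ≪≫ eP) hzW hPd
  refine ⟨⟨r, hr, hr'⟩, ?_⟩
  let S := {s : ℕ | 0 < s ∧ RelCanon.InvertibleAt (RelCanon.refPowZ ωy s) (f.asFiber y)}
  have hmem : sInf S ∈ S := Nat.sInf_mem ⟨r, hr, hr'⟩
  show sInf S ∣ r
  have key : ∀ n : ℕ, 0 < n → RelCanon.InvertibleAt (RelCanon.refPowZ ωy (n : ℤ)) (f.asFiber y) → sInf S ∣ n := by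
    intro n
    induction n using Nat.strong_induction_on with
    | _ n ih =>
      intro hn hni
      obtain ⟨c, rfl⟩ : ∃ c, n = c + sInf S :=
        ⟨n - sInf S, (Nat.sub_add_cancel (Nat.sInf_le (show n ∈ S from ⟨hn, hni⟩))).symm⟩
      rcases Nat.eq_zero_or_pos c with rfl | hc
      · simp
      · have hpos : 0 < sInf S := hmem.1
        exact Nat.dvd_add (ih c (by omega) hc
          (invertibleAt_refPow_sub hωyc V W hbc.invertible hdep hzW hmem.2 hni)) dvd_rfl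
  exact key r hr hr'

theorem isIso_unit_restrict {X : Scheme.{u}} [IsLocallyNoetherian X] {G : X.Modules} (hGc : Coh.IsCoh G)
    (Yo O : X.Opens)
    (hd : ∀ x, x ∈ O → x ∉ Yo → (2 : ℕ∞) ≤ LocCoh.depth (X.presheaf.stalk x) (G.presheaf.stalk x)) :
    IsIso ((Scheme.Modules.restrictFunctor O.ι).map ((Scheme.Modules.restrictAdjunction Yo.ι).unit.app G)) := by
  haveI := hGc.1
  haveI : G.IsFiniteType := hGc.2
  let M := G.restrict O.ι
  have hMc : Coh.IsCoh M := Cohom.isCoh_restrict _ hGc O.ι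
  haveI := hMc.1
  haveI : M.IsFiniteType := hMc.2
  have hM2 : ∀ w : (O : Scheme.{u}), w ∉ O.ι ⁻¹ᵁ Yo →
      (2 : ℕ∞) ≤ LocCoh.depth ((O : Scheme.{u}).presheaf.stalk w) (M.presheaf.stalk w) := by
    intro w hw
    letI := (O.ι.stalkMap w).hom.toAlgebra
    haveI : Module.Finite ((O : Scheme.{u}).presheaf.stalk w) (M.presheaf.stalk w) := QuasiFlat.finite_stalk M hMc w
    haveI : Module.Finite ((O : Scheme.{u}).presheaf.stalk w) (((Scheme.Modules.pullback O.ι).obj G).presheaf.stalk w) :=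
      QuasiFlat.finite_stalk _ (ModDesc.isCoh_pullback O.ι _ hGc) w
    rw [show LocCoh.depth ((O : Scheme.{u}).presheaf.stalk w) (M.presheaf.stalk w) = _ from
        GrothLib.Depth.idealDepth_eq_of_equiv _ (stalkIso ((Scheme.Modules.restrictFunctorIsoPullback O.ι).app G) w)]
    refine le_trans ?_ (GrothLib.DepthAlong.depth_pullback_stalk O.ι G hGc w).ge
    exact (hd _ w.2 hw).trans le_self_add
  have key : ∀ (T W : X.Opens), T ≤ O → ∀ (h : W ≤ T), W = T ⊓ Yo →
      Function.Bijective (G.presheaf.map (homOfLE h).op) := by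
    intro T W hT h hW
    subst hW
    obtain ⟨T', rfl⟩ : ∃ T' : (O : Scheme.{u}).Opens, O.ι ''ᵁ T' = T :=
      ⟨O.ι ⁻¹ᵁ T, by rw [Depth.image_preimage_eq_inf]; exact inf_eq_left.2 hT⟩
    have e : O.ι ''ᵁ (T' ⊓ O.ι ⁻¹ᵁ Yo) = O.ι ''ᵁ T' ⊓ Yo := by
      rw [show T' ⊓ O.ι ⁻¹ᵁ Yo = O.ι ⁻¹ᵁ (O.ι ''ᵁ T' ⊓ Yo) by
        rw [Scheme.Hom.preimage_inf, Scheme.Hom.preimage_image_eq], Depth.image_preimage_eq_inf]
      exact inf_eq_left.2 (inf_le_left.trans hT)
    have hb := Depth.mres_bijective (M := M) (U := O.ι ⁻¹ᵁ Yo) hM2 T'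
    have gen : ∀ (W : X.Opens) (h : W ≤ O.ι ''ᵁ T'), O.ι ''ᵁ (T' ⊓ O.ι ⁻¹ᵁ Yo) = W →
        Function.Bijective (G.presheaf.map (homOfLE h).op) := by
      intro W h hW
      subst hW
      exact hb
    exact gen _ h e
  refine InvTriv26.isIso_of_app_bijective _ fun T => ?_
  show Function.Bijective (((Scheme.Modules.restrictAdjunction Yo.ι).unit.app G).app (O.ι ''ᵁ T))
  rw [Scheme.Modules.restrictAdjunction_unit_app_app]
  exact key _ _ (O.ι_image_le T) _ (Depth.image_preimage_eq_inf Yo _)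

/-- Reflexive powers as direct images from the Gorenstein locus, near points where it is big. -/
theorem nonempty_restrict_refPow_push (d : ℕ)
    (hS : RelCanon.IsSkMor (Y ↘ Spec (CommRingCat.of A)) 2) (hd : Cyc.HasRelDim (Y ↘ Spec (CommRingCat.of A)) d)
    (ω : Y.Modules) (hω : RelCanon.IsDualizingSheaf A Y d ω) (Yo : Y.Opens)
    (hYo : (Yo : Set Y) = RelCanon.gorLocus (Y ↘ Spec (CommRingCat.of A))) (O : Y.Opens)
    (hO : ∀ z, z ∈ O → z ∉ Yo → (2 : WithBot ℕ∞) ≤ ringKrullDim (((Y ↘ Spec (CommRingCat.of A)).fiber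
      ((Y ↘ Spec (CommRingCat.of A)) z)).presheaf.stalk ((Y ↘ Spec (CommRingCat.of A)).asFiber z))) (r : ℕ) :
    Nonempty ((RelCanon.refPowZ ω r).restrict O.ι ≅
      ((Scheme.Modules.pushforward Yo.ι).obj (CohB1.tensorPow (ω.restrict Yo.ι) r)).restrict O.ι) := by
  let f := Y ↘ Spec (CommRingCat.of A)
  haveI : IsLocallyNoetherian Y := LocallyOfFiniteType.isLocallyNoetherian f
  haveI : IsIso (Spec.map (CommRingCat.ofHom (RingHom.id A))) := by rw [CommRingCat.ofHom_id, Spec.map_id]; infer_instance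
  obtain ⟨hωc, -, U, hbc, hU⟩ := exists_bcOn_gor d hS hd ω hω A (RingHom.id A) Y (𝟙 Y)
    (IsPullback.of_horiz_isIso ⟨by simp⟩) ω hω
  have hYoi : PicF.IsInvertible (ω.restrict Yo.ι) := isInvertible_restrict_of_invertibleAt Yo fun x hx =>
    invertibleAt_of_restrict U hbc.1 x (hU x (by rw [← SetLike.mem_coe, hYo] at hx; exact hx))
  obtain ⟨eT⟩ := nonempty_refPow_restrict Yo hYoi r
  let G := RelCanon.refPowZ ω (r : ℤ)
  have hGc : Coh.IsCoh G := isCoh_refPowZ hωc _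
  obtain ⟨H, hH, he⟩ := exists_ddual_refPowZ hωc (r : ℤ)
  have key₂ : ∀ N : Y.Modules, N = RefHull.ddual H → ∀ x, x ∈ O → x ∉ Yo →
      (2 : ℕ∞) ≤ LocCoh.depth (Y.presheaf.stalk x) (N.presheaf.stalk x) := by
    intro N hN x hx hx'
    subst hN
    exact two_le_depth_ddual hH _ (two_le_depth_of_fibre f hS x (hO _ hx hx'))
  haveI := isIso_unit_restrict hGc Yo O (key₂ _ he)
  exact ⟨asIso ((Scheme.Modules.restrictFunctor O.ι).map ((Scheme.Modules.restrictAdjunction Yo.ι).unit.app G)) ≪≫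
    (Scheme.Modules.restrictFunctor O.ι).mapIso ((Scheme.Modules.pushforward Yo.ι).mapIso eT)⟩

end GrothLib.DualFree20

end
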