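import Groth.Agent.Lib.DualFree20.BCTools
import Groth.Agent.Lib.AlmostAmple24.Basic
import Groth.Agent.Lib.ModDesc.Approx

/-!
# Base change of the relative canonical sheaf
-/

set_option autoImplicit false
set_option linter.all false
set_option backward.isDefEq.respectTransparency false
set_option maxHeartbeats 1600000

universe u

open CategoryTheory CategoryTheory.Limits AlgebraicGeometry TopologicalSpace
attribute [local instance] HasDerivedCategory.standard

noncomputable section

namespace GrothLib.DualFree20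

open GrothLib.OX GrothLib.RightAdj22

/-- An isomorphism on an open gives bijections on the stalks there. -/
theorem bijective_stalkLin_of_restrict {X : Scheme.{u}} {M N : X.Modules} (b : M ⟶ N) (U : X.Opens)
    [IsIso ((Scheme.Modules.restrictFunctor U.ι).map b)] (y : X) (hy : y ∈ U) :
    Function.Bijective (QCoh.stalkLin b y) := by
  let z : (U : Scheme.{u}) := ⟨y, hy⟩
  have h1 := (Scheme.Modules.restrictStalkNatIso U.ι z).hom.naturality b
  haveI : IsIso ((Scheme.Modules.restrictFunctor U.ι ⋙ Scheme.Modules.toPresheaf _ ⋙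
      TopCat.Presheaf.stalkFunctor AddCommGrpCat.{u} z).map b) :=
    inferInstanceAs (IsIso ((Scheme.Modules.toPresheaf _ ⋙ TopCat.Presheaf.stalkFunctor AddCommGrpCat.{u} z).map
      ((Scheme.Modules.restrictFunctor U.ι).map b)))
  haveI : IsIso ((Scheme.Modules.toPresheaf X ⋙ TopCat.Presheaf.stalkFunctor AddCommGrpCat.{u} (U.ι z)).map b) :=
    IsIso.of_isIso_fac_left h1.symm
  exact ConcreteCategory.bijective_of_isIso
    ((Scheme.Modules.toPresheaf X ⋙ TopCat.Presheaf.stalkFunctor AddCommGrpCat.{u} (U.ι z)).map b)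

variable {A : Type u} [CommRing A] [IsNoetherianRing A] {Y : Scheme.{u}} [Y.Over (Spec (CommRingCat.of A))]
  [IsProper (Y ↘ Spec (CommRingCat.of A))]

/-- The relative canonical sheaf has no extension across a closed subset of codimension two. -/
theorem isIso_of_dualizing_extension (d : ℕ)
    (hd' : ∀ t, topologicalKrullDim ↥((Y ↘ Spec (CommRingCat.of A)).fiber t) ≤ (d : WithBot ℕ∞)) (U : Y.Opens)
    (hU2 : ∀ y, y ∉ U → (2 : WithBot ℕ∞) ≤ ringKrullDim (((Y ↘ Spec (CommRingCat.of A)).fiber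
      ((Y ↘ Spec (CommRingCat.of A)) y)).presheaf.stalk ((Y ↘ Spec (CommRingCat.of A)).asFiber y)))
    {ω : Y.Modules} (hω : RelCanon.IsDualizingSheaf A Y d ω) (hωc : Coh.IsCoh ω) {H : Y.Modules}
    (hHc : Coh.IsCoh H) (hH : ∀ y, y ∉ U → (2 : ℕ∞) ≤ LocCoh.depth (Y.presheaf.stalk y) (H.presheaf.stalk y))
    (b : ω ⟶ H) (hbU : ∀ y ∈ U, Function.Bijective (QCoh.stalkLin b y)) : IsIso b := by
  let f := Y ↘ Spec (CommRingCat.of A)
  haveI : IsLocallyNoetherian Y := LocallyOfFiniteType.isLocallyNoetherian f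
  haveI := hωc.1
  haveI := hHc.1
  haveI : H.IsFiniteType := hHc.2
  haveI : Mono b := by
    refine Preadditive.mono_of_kernel_iso_zero (IsZero.iso ?_ (isZero_zero _))
    refine OX.isZero_of_subsingleton_stalks _ fun y => ?_
    refine subsingleton_of_forall_eq 0 fun w => ?_
    obtain ⟨W, hyW, s, rfl⟩ := TopCat.Presheaf.exists_germ_eq (kernel b).presheaf w
    have hs : (kernel.ι b).app W s = 0 := by
      refine app_eq_zero_of_thin d hd' U (fun t η hη => ?_) hω hωc W _ fun z hz hzU => ?_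
      · refine not_not.1 fun h => ?_
        have h2 := hU2 _ h
        rw [← ringKrullDim_fiber_congr f t η _ rfl, GrothLib.AlgSp.ringKrullDim_stalk_eq_zero_of_component hη] at h2
        exact absurd h2 (not_le.2 (WithBot.coe_lt_coe.2 (by norm_num : (0 : ℕ∞) < 2)))
      · refine (hbU z hzU).1 ?_
        rw [map_zero, QCoh.stalkLin_germ]
        have h0 : ((kernel.ι b) ≫ b).app W s = 0 := by rw [kernel.condition]; rfl
        exact (congrArg (H.presheaf.germ W z hz) h0).trans (map_zero _)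
    rw [show s = 0 from ModDesc.app_injective_of_mono (kernel.ι b) W (hs.trans (map_zero _).symm), map_zero]
  let C := cokernel b
  have hCc : Coh.IsCoh C := QCoh.isCoh_cokernel b hωc hHc
  have hCs : CohB1.support C ⊆ ((U : Set Y)ᶜ) := fun y hy hyU =>
    QCoh.notMem_support_cokernel_of_surjective b (hbU y hyU).2 hy
  rcases Set.eq_empty_or_nonempty ((U : Set Y)ᶜ) with he | hne
  · refine (OX.isIso_iff b).2 fun y => (ConcreteCategory.isIso_iff_bijective _).2 (hbU y ?_)
    exact not_not.1 fun h => (he ▸ (h : y ∈ (U : Set Y)ᶜ) : y ∈ (∅ : Set Y))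
  obtain ⟨hd2, hvan⟩ := subsingleton_HH_of_codim_two (A := A) d hd' ⟨(U : Set Y)ᶜ, U.isOpen.isClosed_compl⟩
    (fun y hy => hU2 y hy) hne hCc hCs
  let S : ShortComplex Y.Modules := ShortComplex.mk b (cokernel.π b) (cokernel.condition b)
  have hSe : S.ShortExact := { exact := ShortComplex.exact_of_g_is_cokernel _ (cokernelIsCokernel b) }
  obtain ⟨d', rfl⟩ : ∃ d', d = d' + 1 := ⟨d - 1, by omega⟩
  haveI : Subsingleton (Coh.HH Y C (d' + 1)) := hvan _ (by omega)
  haveI : Subsingleton (Coh.HH Y C d') := hvan _ (by omega)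
  have hinj : Function.Injective (Cohom.hhMap A S.f (d' + 1)) := fun x₁ x₂ h => by
    obtain ⟨z, hz⟩ := (Cohom.exact₁ (A := A) hSe d' (x₁ - x₂)).1 (by rw [map_sub, h, sub_self])
    rw [← sub_eq_zero, ← hz]
    haveI : Subsingleton (Coh.HH Y S.X₃ d') := ‹Subsingleton (Coh.HH Y C d')›
    rw [Subsingleton.elim z 0, map_zero]
  have hsur : Function.Surjective (Cohom.hhMap A S.f (d' + 1)) := fun y => by
    haveI : Subsingleton (Coh.HH Y S.X₃ (d' + 1)) := ‹Subsingleton (Coh.HH Y C (d' + 1))›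
    exact (Cohom.exact₂ (A := A) hSe (d' + 1) y).1 (Subsingleton.elim _ _)
  obtain ⟨tr, -, htr⟩ := hω
  let E := LinearEquiv.ofBijective (Cohom.hhMap A b (d' + 1)) ⟨hinj, hsur⟩
  obtain ⟨r, hr⟩ := (htr H hHc.1).2 (tr ∘ₗ E.symm.toLinearMap)
  have hbr : b ≫ r = 𝟙 ω := (htr ω hωc.1).1 (LinearMap.ext fun x => by
    show tr (Cohom.hhMap A (b ≫ r) (d' + 1) x) = tr (Cohom.hhMap A (𝟙 ω) (d' + 1) x)
    rw [Euler.hhMap_comp, Euler.hhMap_id]
    refine (LinearMap.congr_fun hr (E x)).trans ?_
    show tr (E.symm (E x)) = tr x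
    rw [LinearEquiv.symm_apply_apply])
  have hp : r ≫ b = 𝟙 H := by
    have hb0 : b ≫ (𝟙 H - r ≫ b) = 0 := by rw [Preadditive.comp_sub, Category.comp_id, reassoc_of% hbr, sub_self]
    rw [← sub_eq_zero]
    refine (neg_sub _ _).symm.trans (neg_eq_zero.2 ?_)
    refine Scheme.Modules.hom_ext _ _ fun W => ?_
    ext s
    let q : H ⟶ H := 𝟙 H - r ≫ b
    show q.app W s = (0 : Γ(H, W))
    refine (Depth.mres_bijective_of_eq (M := H) hH (inf_le_left : W ⊓ U ≤ W) rfl).1 ?_
    show H.presheaf.map (homOfLE (inf_le_left : W ⊓ U ≤ W)).op (q.app W s) =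
      H.presheaf.map (homOfLE (inf_le_left : W ⊓ U ≤ W)).op 0
    rw [map_zero]
    refine TopCat.Presheaf.section_ext ⟨H.presheaf, H.isSheaf⟩ _ _ 0 fun y hy => ?_
    rw [map_zero]
    refine (TopCat.Presheaf.germ_res_apply H.presheaf _ _ _ (q.app W s)).trans ?_
    obtain ⟨v, hv⟩ := (hbU y hy.2).2 (H.presheaf.germ W y hy.1 s)
    rw [← QCoh.stalkLin_germ q hy.1 s, ← hv]
    obtain ⟨W', hyW', w, rfl⟩ := TopCat.Presheaf.exists_germ_eq ω.presheaf v
    rw [QCoh.stalkLin_germ, QCoh.stalkLin_germ]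
    show H.presheaf.germ W' y hyW' ((b ≫ q).app W' w) = 0
    rw [hb0]
    exact map_zero _
  exact ⟨r, hbr, hp⟩

/-- **Relative canonical sheaves satisfying relative `S₂` commute with base change.** -/
theorem isDualizingSheaf_pullback_of_relS2 (d : ℕ)
    (hS : RelCanon.IsSkMor (Y ↘ Spec (CommRingCat.of A)) 2) (hd : Cyc.HasRelDim (Y ↘ Spec (CommRingCat.of A)) d)
    (ω : Y.Modules) (hω : RelCanon.IsDualizingSheaf A Y d ω)
    (h2 : RelCanon.RelSk (Y ↘ Spec (CommRingCat.of A)) 2 ω)
    (B : Type u) [CommRing B] [IsNoetherianRing B] (φ : A →+* B) (Y' : Scheme.{u})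
    [Y'.Over (Spec (CommRingCat.of B))] (p : Y' ⟶ Y)
    (hp : IsPullback p (Y' ↘ Spec (CommRingCat.of B)) (Y ↘ Spec (CommRingCat.of A)) (Spec.map (CommRingCat.ofHom φ))) :
    RelCanon.IsDualizingSheaf B Y' d ((Scheme.Modules.pullback p).obj ω) := by
  let f := Y ↘ Spec (CommRingCat.of A)
  let f' := Y' ↘ Spec (CommRingCat.of B)
  haveI : Flat f := hS.1
  haveI : LocallyOfFiniteType f := hS.2.1
  haveI : LocallyOfFinitePresentation f := GrothLib.LocProp.locallyOfFinitePresentation_of_isLocallyNoetherian f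
  haveI : IsLocallyNoetherian Y := LocallyOfFiniteType.isLocallyNoetherian f
  haveI : IsProper f' := MorphismProperty.of_isPullback (P := @IsProper) hp inferInstance
  haveI : Flat f' := MorphismProperty.of_isPullback (P := @Flat) hp inferInstance
  haveI : IsLocallyNoetherian Y' := LocallyOfFiniteType.isLocallyNoetherian f'
  have hdim : ∀ x : Y, FlatMor.fibreDimAt f x = (d : WithBot ℕ∞) := fun x => by
    haveI : LocallyOfFiniteType (f.fiberToSpecResidueField (f x)) :=
      MorphismProperty.pullback_snd _ _ (inferInstance : LocallyOfFiniteType f)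
    exact GrothLib.CodimExt27.localDim_eq_of_pure (k := (Spec (CommRingCat.of A)).residueField (f x))
      (f.fiberToSpecResidueField (f x)) (hd (f x)) (f.asFiber x)
  have hd' : ∀ s, topologicalKrullDim ↥(f.fiber s) ≤ (d : WithBot ℕ∞) :=
    fun s => GrothLib.FibPd.topologicalKrullDim_le_of_components fun Z hZ => (hd s Z hZ).le
  have hd'' : ∀ s, topologicalKrullDim ↥(f'.fiber s) ≤ (d : WithBot ℕ∞) :=
    fun s => (GrothLib.FibreBC.topologicalKrullDim_fiber hp s).le.trans (hd' _)
  haveI : CompactSpace Y := QuasiCompact.compactSpace_of_compactSpace f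
  haveI : QuasiSeparatedSpace Y := quasiSeparatedSpace_of_quasiSeparated f
  haveI : CompactSpace Y' := QuasiCompact.compactSpace_of_compactSpace f'
  haveI : QuasiSeparatedSpace Y' := quasiSeparatedSpace_of_quasiSeparated f'
  haveI : DCoh.HasRpush f := KInj.hasRightDerivedFunctor _
  haveI : DCoh.HasRpush f' := KInj.hasRightDerivedFunctor _
  have hf : DCoh.RpushPreservesQCoh f := fun K hK =>
    GrothLib.KSix19.BettiExact.isQCohD_of_iso' ((rpushIsoRres f).app K).symm (isQCohD_Rres f K hK)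
  have hf' : DCoh.RpushPreservesQCoh f' := fun K hK =>
    GrothLib.KSix19.BettiExact.isQCohD_of_iso' ((rpushIsoRres f').app K).symm (isQCohD_Rres f' K hK)
  haveI : (DCoh.RpushQ f hf).IsLeftAdjoint := OX.isLeftAdjoint_lift_Rpush f hf
  haveI : (DCoh.RpushQ f' hf').IsLeftAdjoint := OX.isLeftAdjoint_lift_Rpush f' hf'
  let adj := Adjunction.ofIsLeftAdjoint (DCoh.RpushQ f hf)
  let adj' := Adjunction.ofIsLeftAdjoint (DCoh.RpushQ f' hf')
  let W₀ : DCoh.DQCoh (Spec (CommRingCat.of A)) := ⟨DCoh.inD _ (Coh.structureModule _),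
    KSix19.RpushAmp.isQCohD_inD _ (inferInstanceAs (Coh.structureModule (Spec (CommRingCat.of A))).IsQuasicoherent)⟩
  let W₁ : DCoh.DQCoh (Spec (CommRingCat.of B)) := ⟨DCoh.inD _ (Coh.structureModule _),
    KSix19.RpushAmp.isQCohD_inD _ (inferInstanceAs (Coh.structureModule (Spec (CommRingCat.of B))).IsQuasicoherent)⟩
  let K := ((DCoh.RpushQ f hf).rightAdjoint.obj W₀).obj
  let K' := ((DCoh.RpushQ f' hf').rightAdjoint.obj W₁).obj
  obtain ⟨u⟩ := nonempty_iso_of_isDualizingSheaf (isDualizingSheaf_adjoint f rfl d hd' hf adj W₀ ⟨Iso.refl _⟩) hω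
  let u' : DCoh.HD K (-(d : ℤ)) ≅ ω := eqToIso (by rw [zero_sub]) ≪≫ u
  let ω' := DCoh.HD K' (-(d : ℤ))
  have hω' : RelCanon.IsDualizingSheaf B Y' d ω' :=
    isDualizingSheaf_of_iso (eqToIso (by rw [zero_sub])) (isDualizingSheaf_adjoint f' rfl d hd'' hf' adj' W₁ ⟨Iso.refl _⟩)
  let c : DEt.Compactification f := ⟨Y, 𝟙 Y, f, inferInstance, inferInstance, Category.id_comp f⟩
  haveI : DCoh.HasRpush c.fbar := ‹DCoh.HasRpush f›
  haveI : PreservesFiniteLimits (Scheme.Modules.restrictFunctor c.j) := inferInstance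
  let η₀ : ∀ i, DCoh.HD ((Dual3.shriekC c (DCoh.RpushQ f hf).rightAdjoint).obj W₀) i ≅ DCoh.HD K i := fun i =>
    (DerivedCategory.homologyFunctor _ i).mapIso ((RightAdj22.resDIdIso Y).app K)
  have hωc : Coh.IsCoh ω := GrothLib.QCoh.isCoh_of_iso u'
    (GrothLib.QCoh.isCoh_of_iso (η₀ _) (GrothLib.ShriekBridge22.isCoh_HD_shriekC_O f c hf adj W₀ ⟨Iso.refl _⟩ _))
  let c' : DEt.Compactification f' := ⟨Y', 𝟙 Y', f', inferInstance, inferInstance, Category.id_comp f'⟩
  haveI : DCoh.HasRpush c'.fbar := ‹DCoh.HasRpush f'›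
  haveI : PreservesFiniteLimits (Scheme.Modules.restrictFunctor c'.j) := inferInstance
  have hω'c : Coh.IsCoh ω' := GrothLib.QCoh.isCoh_of_iso
    ((DerivedCategory.homologyFunctor _ _).mapIso ((RightAdj22.resDIdIso Y').app K'))
    (GrothLib.ShriekBridge22.isCoh_HD_shriekC_O f' c' hf' adj' W₁ ⟨Iso.refl _⟩ _)
  haveI := hωc.1
  let P := (Scheme.Modules.pullback p).obj ω
  have hPc : Coh.IsCoh P := ModDesc.isCoh_pullback p _ hωc
  let U : Y.Opens := ⟨{y | MoreMor.IsCMAt f y}, Groth.Agent.S4961.result f⟩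
  let V : Y'.Opens := p ⁻¹ᵁ U
  -- the isomorphism on the Cohen–Macaulay locus
  haveI := OX.hasLpull p
  haveI := OX.hasLpull (p ∣_ U)
  obtain ⟨eL⟩ := RightAdj20.nonempty_lpull_adjoint φ hp hf adj W₀ ⟨Iso.refl _⟩ hf' adj' W₁ ⟨Iso.refl _⟩
  obtain ⟨sq⟩ := RightAdj20.nonempty_resD_lpull_square p V.ι U.ι (p ∣_ U) (morphismRestrict_ι p U)
  have hle : ((resD U.ι).obj K).IsLE (-(d : ℤ)) := (DerivedCategory.isLE_iff _ _).2 fun i hi => by
    refine IsZero.of_iso ?_ (HDResIso U.ι K i)
    refine OX.isZero_of_subsingleton_stalks _ fun z => ?_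
    refine @Equiv.subsingleton _ _
      ((Scheme.Modules.restrictStalkNatIso U.ι z).app _).addCommGroupIsoToAddEquiv.toEquiv ?_
    refine not_nontrivial_iff_subsingleton.1 fun hn => (ne_of_gt hi) ?_
    exact (GrothLib.ShriekBridge22.stalk_of_isCMAt f c hf adj W₀ ⟨Iso.refl _⟩ z.2 (hdim _) i).1
      ((nontrivial_stalk_of_iso (η₀ i) _).2 hn)
  obtain ⟨top⟩ := GrothLib.ThickDesc6.nonempty_hd_lpull_top (p ∣_ U) ((resD U.ι).obj K) (-(d : ℤ)) hle
  obtain ⟨pr⟩ := AlmostAmple24.nonempty_pullback_restrict p U ω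
  let eV : ω'.restrict V.ι ≅ P.restrict V.ι :=
    (HDResIso V.ι K' _).symm ≪≫
      (DerivedCategory.homologyFunctor _ _).mapIso ((resD V.ι).mapIso eL.symm ≪≫ sq.app _) ≪≫ top ≪≫
      (Scheme.Modules.pullback (p ∣_ U)).mapIso (HDResIso U.ι K _ ≪≫ (Scheme.Modules.restrictFunctor U.ι).mapIso u') ≪≫
      pr.symm
  -- codimension and depth off that locus
  have hU2 : ∀ y, y ∉ U → (2 : WithBot ℕ∞) ≤ ringKrullDim ((f.fiber (f y)).presheaf.stalk (f.asFiber y)) := by
    intro y hy
    let F := (f.fiber (f y)).presheaf.stalk (f.asFiber y)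
    haveI : IsNoetherianRing F := GrothLib.DimCut.isNoetherianRing_stalk_fiber f _ _
    haveI : Module.Finite F ((Coh.structureModule (f.fiber (f y))).presheaf.stalk (f.asFiber y)) :=
      Module.Finite.equiv (HomSh.unitStalk (X := f.fiber (f y)) (f.asFiber y))
    have hb : GrothLib.SyntLoc.SkBound 2 F := GrothLib.SyntLoc.skBound_of_hasSk
      (GrothLib.SkExt.hasSk_congr (HomSh.unitStalk (X := f.fiber (f y)) (f.asFiber y)).symm (hS.2.2 y))
    by_contra hlt
    refine hy ⟨Flat.stalkMap f y, (GrothLib.CMMor6.cm_iff F).2 (le_antisymm ?_ (GrothLib.CMMor6.depth_le_dim F))⟩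
    unfold GrothLib.SyntLoc.SkBound at hb
    rwa [min_eq_right (by exact_mod_cast (not_le.1 hlt).le)] at hb
  have hV2 : ∀ y', y' ∉ V → (2 : WithBot ℕ∞) ≤ ringKrullDim ((f'.fiber (f' y')).presheaf.stalk (f'.asFiber y')) :=
    fun y' hy' => (hU2 (p y') hy').trans (ringKrullDim_fibre_le hp y')
  have hgen : ∀ (t : ↥(Spec (CommRingCat.of A))) (η : f.fiber t),
      closure {η} ∈ irreducibleComponents ↥(f.fiber t) → f.fiberι t η ∈ U := by
    intro t η hη
    refine not_not.1 fun h => ?_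
    have h2 := hU2 _ h
    rw [← ringKrullDim_fiber_congr f t η _ rfl, GrothLib.AlgSp.ringKrullDim_stalk_eq_zero_of_component hη] at h2
    exact absurd h2 (not_le.2 (WithBot.coe_lt_coe.2 (by norm_num : (0 : ℕ∞) < 2)))
  have hsupp : ∀ y : Y, y ∈ CohB1.support ω := by
    intro y
    obtain ⟨T, hT, hsub⟩ := exists_mem_irreducibleComponents_subset_of_isIrreducible _
      (isIrreducible_singleton (x := f.asFiber y))
    obtain ⟨η, hη⟩ := QuasiSober.sober hT.1 (isClosed_of_mem_irreducibleComponents T hT)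
    have hsp : η ⤳ f.asFiber y := hη.specializes (hsub rfl)
    have h2 : f.fiberι (f y) η ⤳ y := by
      have := hsp.map (f.fiberι (f y)).continuous
      rwa [Scheme.Hom.fiberι_asFiber] at this
    have hηU : f.fiberι (f y) η ∈ U := hgen _ η (by rw [hη.def]; exact hT)
    have h3 : f.fiberι (f y) η ∈ CohB1.support ω := not_subsingleton_iff_nontrivial.2
      ((nontrivial_stalk_of_iso u' _).1 ((nontrivial_stalk_of_iso (η₀ _) _).1
        ((GrothLib.ShriekBridge22.stalk_of_isCMAt f c hf adj W₀ ⟨Iso.refl _⟩ hηU (hdim _) _).2 rfl)))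
    exact h2.mem_closed (GrothLib.QCoh.isClosed_support_of_isCoh hωc) h3
  have hPdepth : ∀ y', y' ∉ V → (2 : ℕ∞) ≤ LocCoh.depth (Y'.presheaf.stalk y') (P.presheaf.stalk y') := by
    intro y' hy'
    obtain ⟨g, hg, hgι⟩ := exists_fibreBC hp (f' y')
    haveI := hg
    let q := Spec.map (CommRingCat.ofHom φ)
    let w := g (f'.asFiber y')
    have hw : f.fiberι (q (f' y')) w = p y' := by
      rw [← Scheme.Hom.comp_apply, hgι, Scheme.Hom.comp_apply, Scheme.Hom.fiberι_asFiber]
    haveI : IsLocallyNoetherian (f.fiber (q (f' y'))) := by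
      haveI : LocallyOfFiniteType (f.fiberToSpecResidueField (q (f' y'))) :=
        MorphismProperty.pullback_snd _ _ (inferInstance : LocallyOfFiniteType f)
      exact LocallyOfFiniteType.isLocallyNoetherian (f.fiberToSpecResidueField (q (f' y')))
    haveI : IsLocallyNoetherian (f'.fiber (f' y')) := by
      haveI : LocallyOfFiniteType (f'.fiberToSpecResidueField (f' y')) :=
        MorphismProperty.pullback_snd _ _ (inferInstance : LocallyOfFiniteType f')
      exact LocallyOfFiniteType.isLocallyNoetherian (f'.fiberToSpecResidueField (f' y'))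
    let G := (Scheme.Modules.pullback (f.fiberι (q (f' y')))).obj ω
    have hGc : Coh.IsCoh G := ModDesc.isCoh_pullback _ _ hωc
    have hGs : ∀ z, Nontrivial (G.presheaf.stalk z) := fun z => by
      refine not_subsingleton_iff_nontrivial.1 ?_
      show z ∈ CohB1.support G
      rw [GrothLib.QCoh.support_pullback _ ω hωc]
      exact hsupp _
    have hsk : RelCanon.SkAt 2 G w := by
      have key : ∀ (x : Y) (s : ↥(Spec (CommRingCat.of A))) (z : f.fiber s), f.fiberι s z = x →
          RelCanon.SkAt 2 ((Scheme.Modules.pullback (f.fiberι s)).obj ω) z := by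
        intro x s z hx
        have hs : f x = s := by rw [← hx]; exact GrothLib.DimCut.apply_fiberι f s z
        subst hs
        rw [GrothLib.DimCut.eq_asFiber f x z hx]
        exact (h2 x).2
      exact key _ _ w rfl
    haveI : Module.Finite ((f.fiber (q (f' y'))).presheaf.stalk w) (G.presheaf.stalk w) :=
      QuasiFlat.finite_stalk G hGc w
    have hGd : (2 : ℕ∞) ≤ LocCoh.depth ((f.fiber (q (f' y'))).presheaf.stalk w) (G.presheaf.stalk w) := by
      refine two_le_depth_of_hasSk (support_stalk_eq_univ hGc hGs w) ?_ hsk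
      rw [ringKrullDim_fiber_congr f (q (f' y')) w (p y') hw]
      exact hU2 _ hy'
    let G' := (Scheme.Modules.pullback g).obj G
    have hG'd : (2 : ℕ∞) ≤ LocCoh.depth ((f'.fiber (f' y')).presheaf.stalk (f'.asFiber y'))
        (G'.presheaf.stalk (f'.asFiber y')) := by
      letI := (g.stalkMap (f'.asFiber y')).hom.toAlgebra
      rw [GrothLib.DepthAlong.depth_pullback_stalk g G hGc (f'.asFiber y')]
      exact hGd.trans le_self_add
    let P' := (Scheme.Modules.pullback (f'.fiberι (f' y'))).obj P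
    let eP : G' ≅ P' := (Scheme.Modules.pullbackComp g (f.fiberι (q (f' y')))).app ω ≪≫
      (Scheme.Modules.pullbackCongr hgι).app ω ≪≫
      ((Scheme.Modules.pullbackComp (f'.fiberι (f' y')) p).app ω).symm
    haveI : Module.Finite ((f'.fiber (f' y')).presheaf.stalk (f'.asFiber y')) (G'.presheaf.stalk (f'.asFiber y')) :=
      QuasiFlat.finite_stalk G' (ModDesc.isCoh_pullback _ _ hGc) _
    haveI : Module.Finite ((f'.fiber (f' y')).presheaf.stalk (f'.asFiber y')) (P'.presheaf.stalk (f'.asFiber y')) :=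
      QuasiFlat.finite_stalk P' (ModDesc.isCoh_pullback _ _ hPc) _
    have hP'd : (2 : ℕ∞) ≤ LocCoh.depth ((f'.fiber (f' y')).presheaf.stalk (f'.asFiber y'))
        (P'.presheaf.stalk (f'.asFiber y')) := by
      haveI := GrothLib.DimCut.isNoetherianRing_stalk_fiber f' (f' y') (f'.asFiber y')
      refine hG'd.trans (le_of_eq ?_)
      exact GrothLib.Depth.idealDepth_eq_of_equiv _ (stalkIso eP _)
    have hflat : FlatMod.IsFlatOverAt f' P (f'.fiberι (f' y') (f'.asFiber y')) := by
      rw [Scheme.Hom.fiberι_asFiber]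
      exact GrothLib.FlatFP.isFlatOverAt_baseChange f f' p _ hp ω y' (h2 (p y')).1
    have hne : Nontrivial (P'.presheaf.stalk (f'.asFiber y')) := by
      refine not_subsingleton_iff_nontrivial.1 ?_
      show f'.asFiber y' ∈ CohB1.support P'
      rw [GrothLib.QCoh.support_pullback _ P hPc, Set.mem_preimage, GrothLib.QCoh.support_pullback _ ω hωc]
      exact hsupp _
    have := two_le_depth_of_flat_fibre f' hPc (f' y') (f'.asFiber y') hflat hP'd hne
    rwa [Scheme.Hom.fiberι_asFiber] at this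
  haveI := hPc.1
  haveI : P.IsFiniteType := hPc.2
  obtain ⟨b, hb⟩ := (Depth.restrict_map_bijective (E := P) (F := ω') hPdepth).2 eV.hom
  simp only at hb
  haveI : IsIso ((Scheme.Modules.restrictFunctor V.ι).map b) := by rw [hb]; infer_instance
  haveI := isIso_of_dualizing_extension (A := B) d hd'' V hV2 hω' hω'c hPc hPdepth b
    fun y hy => bijective_stalkLin_of_restrict b V y hy
  exact isDualizingSheaf_of_iso (asIso b) hω'

end GrothLib.DualFree20

end
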