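import Groth.Agent.Lib.DualFree20.Pair
import Groth.Agent.Lib.AlmostAmple24.Basic
import Groth.Agent.Lib.RhoShBig.DDual
import Groth.Agent.Lib.DualTensor11.Basic
import Groth.Agent.Lib.CurveSerre11.Balanced
import Groth.Agent.Lib.InvDual.Basic
import Groth.Agent.Lib.PBDeg17.OfUniv
import Groth.Agent.Lib.PBDeg17.DualRoots
import Groth.Agent.Lib.ParaPair.Basic
import Groth.Agent.Lib.RelProjK.Local
import Groth.Agent.Lib.PerfLim10.Main

/-!
# Reflexive powers over an open where the module is invertible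
-/

set_option autoImplicit false
set_option linter.all false
set_option backward.isDefEq.respectTransparency false
set_option maxHeartbeats 1600000

universe u

open CategoryTheory CategoryTheory.Limits AlgebraicGeometry TopologicalSpace

noncomputable section

namespace GrothLib.DualFree20

open GrothLib

attribute [local instance] LocFreeHom.hasSheafHom

variable {X Y : Scheme.{u}} [IsLocallyNoetherian X] [IsLocallyNoetherian Y]

omit [IsLocallyNoetherian X] in
/-- A module invertible on an open agrees there with its double dual. -/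
theorem nonempty_ddual_restrict {M : X.Modules} (U : X.Opens) (hM : PicF.IsInvertible (M.restrict U.ι)) :
    Nonempty ((RefHull.ddual M).restrict U.ι ≅ M.restrict U.ι) := by
  have h : ∀ x ∈ U, ∃ (V : X.Opens) (e : Γ(M, V)), x ∈ V ∧ InvExt.IsGen M V e := fun x hx => by
    obtain ⟨T, e, hT, he⟩ := FinCov.exists_frame_nhd_of_rank (PBDeg.rankOne_iff.2 hM) (⟨x, hx⟩ : (U : Scheme.{u}))
    have hg := (InvExt.isGen_iff_isFrame _).1 (RhoShBig.isFrame_of_restrict he)
    exact ⟨U.ι ''ᵁ T, _, ⟨⟨x, hx⟩, hT, rfl⟩, hg⟩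
  haveI := RhoShBig.isIso_restrict_bidual (M := M) U h
  exact ⟨(asIso ((Scheme.Modules.restrictFunctor U.ι).map (RefHull.bidualMap M))).symm⟩

/-- Duals commute with restriction to an open on which the module is invertible. -/
theorem nonempty_dual_restrict {M : X.Modules} (hM : Coh.IsCoh M) (U : X.Opens)
    (hU : PicF.IsInvertible (M.restrict U.ι)) :
    Nonempty ((RefHull.dual M).restrict U.ι ≅ RefHull.dual (M.restrict U.ι)) := by
  have hl := LocFreeHom.isFinLocFree_of_isInvertible hU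
  obtain ⟨a⟩ := nonempty_homSh_restrict U.ι hM (HomSh.isCoh_structureModule X)
  obtain ⟨b⟩ := LM28.nonempty_homSh_iso (M.restrict U.ι) ((Coh.structureModule X).restrict U.ι) hl
    (Cohom.isCoh_restrict _ (HomSh.isCoh_structureModule X) U.ι)
  obtain ⟨c⟩ := DualTensor11.nonempty_dual_iso_iHom hl
  exact ⟨(Scheme.Modules.restrictFunctorIsoPullback U.ι).app _ ≪≫ a ≪≫ b ≪≫
    LocFreeHom.iHomCongr (Iso.refl _) (DualRing.restrictStructureIso U.ι) ≪≫ c.symm⟩

omit [IsLocallyNoetherian X] in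
/-- Isomorphic invertible modules have isomorphic duals. -/
theorem nonempty_dual_congr_inv [IsLocallyNoetherian X] {L M : X.Modules} (e : L ≅ M) (hM : PicF.IsInvertible M) :
    Nonempty (RefHull.dual L ≅ RefHull.dual M) := by
  obtain ⟨a⟩ := DualTensor11.nonempty_dual_iso_iHom
    (LocFreeHom.isFinLocFree_of_isInvertible (ParaPair.isInvertible_of_iso e hM))
  obtain ⟨b⟩ := DualTensor11.nonempty_dual_iso_iHom (LocFreeHom.isFinLocFree_of_isInvertible hM)
  exact ⟨a ≪≫ LocFreeHom.iHomCongr e.symm (Iso.refl _) ≪≫ b.symm⟩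

theorem isInvertible_dual_of {L : X.Modules} (hL : PicF.IsInvertible L) : PicF.IsInvertible (RefHull.dual L) := by
  obtain ⟨e⟩ := DualTensor11.nonempty_dual_iso_iHom (LocFreeHom.isFinLocFree_of_isInvertible hL)
  exact ParaPair.isInvertible_of_iso e (PBDeg.exists_dual_inverse hL).1

omit [IsLocallyNoetherian X] [IsLocallyNoetherian Y] in
theorem nonempty_tensorPow_restrict {M : X.Modules} (U : X.Opens) (hM : PicF.IsInvertible (M.restrict U.ι)) (m : ℕ) :
    Nonempty ((CohB1.tensorPow M m).restrict U.ι ≅ CohB1.tensorPow (M.restrict U.ι) m) := by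
  obtain ⟨a⟩ := CurveSerre11.pullback_tensorPow U.ι M m
  obtain ⟨b⟩ := PerfLim10.nonempty_tensorPow_congr hM ((Scheme.Modules.restrictFunctorIsoPullback U.ι).app M).symm m
  exact ⟨(Scheme.Modules.restrictFunctorIsoPullback U.ι).app _ ≪≫ a ≪≫ b⟩

/-- `G'` is over `V = g⁻¹U` the inverse image of what the invertible module `G` is over `U`. -/
def BCOn (g : Y ⟶ X) (U : X.Opens) (G : X.Modules) (G' : Y.Modules) : Prop :=
  PicF.IsInvertible (G.restrict U.ι) ∧
    Nonempty (G'.restrict (g ⁻¹ᵁ U).ι ≅ (Scheme.Modules.pullback (g ∣_ U)).obj (G.restrict U.ι))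

omit [IsLocallyNoetherian X] [IsLocallyNoetherian Y] in
theorem BCOn.invertible {g : Y ⟶ X} {U : X.Opens} {G : X.Modules} {G' : Y.Modules} (h : BCOn g U G G') :
    PicF.IsInvertible (G'.restrict (g ⁻¹ᵁ U).ι) := by
  obtain ⟨hG, ⟨e⟩⟩ := h
  exact ParaPair.isInvertible_of_iso e (RelProjK.isInvertible_pullback _ hG)

theorem BCOn.dual {g : Y ⟶ X} {U : X.Opens} {G : X.Modules} {G' : Y.Modules} (h : BCOn g U G G')
    (hG : Coh.IsCoh G) (hG' : Coh.IsCoh G') : BCOn g U (RefHull.dual G) (RefHull.dual G') := by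
  have h' := h.invertible
  obtain ⟨hi, ⟨e⟩⟩ := h
  obtain ⟨a⟩ := nonempty_dual_restrict hG U hi
  obtain ⟨a'⟩ := nonempty_dual_restrict hG' _ h'
  obtain ⟨b⟩ := nonempty_dual_congr_inv e (RelProjK.isInvertible_pullback (g ∣_ U) hi)
  obtain ⟨c⟩ := InvDual.nonempty_dual_pullback_iso (g ∣_ U) hi
  exact ⟨ParaPair.isInvertible_of_iso a (isInvertible_dual_of hi),
    ⟨a' ≪≫ b ≪≫ c ≪≫ (Scheme.Modules.pullback (g ∣_ U)).mapIso a.symm⟩⟩

theorem BCOn.tensorPow {g : Y ⟶ X} {U : X.Opens} {G : X.Modules} {G' : Y.Modules} (h : BCOn g U G G') (m : ℕ) :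
    BCOn g U (CohB1.tensorPow G m) (CohB1.tensorPow G' m) := by
  have h' := h.invertible
  obtain ⟨hi, ⟨e⟩⟩ := h
  obtain ⟨a⟩ := nonempty_tensorPow_restrict U hi m
  obtain ⟨a'⟩ := nonempty_tensorPow_restrict _ h' m
  obtain ⟨b⟩ := PerfLim10.nonempty_tensorPow_congr (RelProjK.isInvertible_pullback (g ∣_ U) hi) e m
  obtain ⟨c⟩ := CurveSerre11.pullback_tensorPow (g ∣_ U) (G.restrict U.ι) m
  exact ⟨ParaPair.isInvertible_of_iso a (PerfLim10.isInvertible_tensorPow hi m),
    ⟨a' ≪≫ b ≪≫ c.symm ≪≫ (Scheme.Modules.pullback (g ∣_ U)).mapIso a.symm⟩⟩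

theorem BCOn.ddual {g : Y ⟶ X} {U : X.Opens} {G : X.Modules} {G' : Y.Modules} (h : BCOn g U G G') :
    BCOn g U (RefHull.ddual G) (RefHull.ddual G') := by
  have h' := h.invertible
  obtain ⟨hi, ⟨e⟩⟩ := h
  obtain ⟨a⟩ := nonempty_ddual_restrict U hi
  obtain ⟨a'⟩ := nonempty_ddual_restrict _ h'
  exact ⟨ParaPair.isInvertible_of_iso a hi, ⟨a' ≪≫ e ≪≫ (Scheme.Modules.pullback (g ∣_ U)).mapIso a.symm⟩⟩

theorem BCOn.refPowZ {g : Y ⟶ X} {U : X.Opens} {G : X.Modules} {G' : Y.Modules} (h : BCOn g U G G')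
    (hG : Coh.IsCoh G) (hG' : Coh.IsCoh G') :
    ∀ m : ℤ, BCOn g U (RelCanon.refPowZ G m) (RelCanon.refPowZ G' m)
  | Int.ofNat m => (h.tensorPow m).ddual
  | Int.negSucc n => ((h.dual hG hG').tensorPow (n + 1)).ddual

omit [IsLocallyNoetherian X] [IsLocallyNoetherian Y] in
/-- The inverse image itself, restricted over `U`. -/
theorem BCOn.pullback_iso {g : Y ⟶ X} {U : X.Opens} {G : X.Modules} {G' : Y.Modules} (h : BCOn g U G G') :
    Nonempty (((Scheme.Modules.pullback g).obj G).restrict (g ⁻¹ᵁ U).ι ≅ G'.restrict (g ⁻¹ᵁ U).ι) := by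
  obtain ⟨-, ⟨e⟩⟩ := h
  obtain ⟨pr⟩ := AlmostAmple24.nonempty_pullback_restrict g U G
  exact ⟨pr ≪≫ e.symm⟩

end GrothLib.DualFree20

end
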