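import Groth.Agent.Lib.SkFlat5.Basic
import Groth.Agent.Lib.CMMor6.Algebra
import Groth.Agent.Lib.SkExt.Localized

/-!
# `(S_2)` of a flat base change of a module supported everywhere
-/

set_option autoImplicit false
set_option linter.all false
set_option backward.isDefEq.respectTransparency false
set_option maxHeartbeats 1600000

universe u

open TensorProduct IsLocalRing GrothLib.DepthAlong5

namespace GrothLib.DualFree20

variable {A B : Type u} [CommRing A] [CommRing B] [IsNoetherianRing A] [IsNoetherianRing B] [Algebra A B]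
  [Module.Flat A B] (E : Type u) [AddCommGroup E] [Module A E] [Module.Finite A E]

theorem min_le_aux {k : WithBot ℕ∞} {dE dA dF : ℕ∞} {a b : WithBot ℕ∞} (ha : 0 ≤ a) (hb : 0 ≤ b)
    (hk : 0 ≤ k) (hE : min k a ≤ (dE : WithBot ℕ∞)) (hA : (dA : WithBot ℕ∞) ≤ a)
    (hB : min k (a + b) ≤ ((dA + dF : ℕ∞) : WithBot ℕ∞)) : min k (a + b) ≤ ((dE + dF : ℕ∞) : WithBot ℕ∞) := by
  rcases le_total k a with h | h
  · rw [min_eq_left h] at hE
    exact (min_le_left _ _).trans (hE.trans (WithBot.coe_le_coe.2 le_self_add))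
  · rw [min_eq_right h] at hE
    exact hB.trans (WithBot.coe_le_coe.2 (add_le_add (WithBot.coe_le_coe.1 (hA.trans hE)) le_rfl))

/-- `(S_2)` ascends along a flat map to a ring satisfying `(S_2)`. -/
theorem hasSk_tensor {k : ℕ} (hsupp : Module.support A E = Set.univ) (hE : LocCoh.HasSk k A E)
    (hB : LocCoh.HasSk k B B) : LocCoh.HasSk k B (B ⊗[A] E) := by
  intro q _
  let p := q.comap (algebraMap A B)
  haveI : Nontrivial B := ⟨⟨0, 1, fun h => ‹q.IsPrime›.ne_top (Ideal.eq_top_of_isUnit_mem _ (by rw [← h]; exact q.zero_mem) isUnit_one)⟩⟩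
  have memSupp : ∀ {R : Type u} [CommRing R] (M : Type u) [AddCommGroup M] [Module R M] (r : Ideal R) [r.IsPrime],
      (⟨r, inferInstance⟩ : PrimeSpectrum R) ∈ Module.support R M → Nontrivial (LocalizedModule r.primeCompl M) :=
    fun M _ _ r _ h => Module.mem_support_iff.1 h
  haveI : Nontrivial (LocalizedModule q.primeCompl B) := memSupp B q (by
    rw [Module.mem_support_iff_of_finite, Module.annihilator_eq_bot.2 inferInstance]; exact bot_le)
  haveI : Nontrivial (LocalizedModule p.primeCompl E) := memSupp E p (by rw [hsupp]; trivial)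
  haveI : Nontrivial A := (algebraMap A B).domain_nontrivial
  haveI : Nontrivial (LocalizedModule p.primeCompl A) := memSupp A p (by
    rw [Module.mem_support_iff_of_finite, Module.annihilator_eq_bot.2 inferInstance]; exact bot_le)
  obtain ⟨h1, h2, h3⟩ := GrothLib.SkFlat5.dep_sdim_tensor (A := A) E B q
  obtain ⟨g1, g2, -⟩ := GrothLib.SkFlat5.dep_sdim_tensor (A := A) A B q
  let e : B ⊗[A] A ≃ₗ[B] B := AlgebraTensorModule.rid A B B
  let el : LocalizedModule q.primeCompl (B ⊗[A] A) ≃ₗ[Localization.AtPrime q] LocalizedModule q.primeCompl B :=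
    (LocalizedModule.equivTensorProduct q.primeCompl _).trans
      ((LinearEquiv.baseChange B (Localization.AtPrime q) _ _ e).trans
        (LocalizedModule.equivTensorProduct q.primeCompl B).symm)
  haveI : Module.Finite B (B ⊗[A] A) := Module.Finite.equiv e.symm
  haveI : Module.Finite (Localization.AtPrime q) (LocalizedModule q.primeCompl (B ⊗[A] A)) :=
    Module.Finite.of_isLocalizedModule q.primeCompl (LocalizedModule.mkLinearMap q.primeCompl _)
  have gd : dep q (B ⊗[A] A) = dep q B := GrothLib.Depth.idealDepth_eq_of_equiv _ el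
  have gs : sdim q (B ⊗[A] A) = sdim q B := Module.supportDim_eq_of_equiv el
  let Ap := Localization.AtPrime p
  let la : Ap ≃ₗ[Ap] LocalizedModule p.primeCompl A :=
    (((LocalizedModule.equivTensorProduct p.primeCompl A).trans (AlgebraTensorModule.rid A Ap Ap))).symm
  haveI : IsNoetherianRing Ap := IsLocalization.isNoetherianRing p.primeCompl _ inferInstance
  have hA1 : dep p A = LocCoh.depth Ap Ap := (GrothLib.Depth.idealDepth_eq_of_equiv _ la).symm
  have hA2 : sdim p A = ringKrullDim Ap :=
    (Module.supportDim_eq_of_equiv la).symm.trans (Module.supportDim_self_eq_ringKrullDim _)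
  have hs : sdim p E = sdim p A := by
    rw [hA2]
    haveI : Module.Finite Ap (LocalizedModule p.primeCompl E) :=
      Module.Finite.of_isLocalizedModule p.primeCompl (LocalizedModule.mkLinearMap p.primeCompl E)
    show Module.supportDim Ap (LocalizedModule p.primeCompl E) = _
    rw [GrothLib.SkExt.supportDim_localized_eq_height hsupp p, IsLocalization.AtPrime.ringKrullDim_eq_height p Ap]
  have hEp := hE p
  have hBq := hB q
  show min (k : WithBot ℕ∞) (sdim q (B ⊗[A] E)) ≤ ((dep q (B ⊗[A] E) : ℕ∞) : WithBot ℕ∞)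
  rw [h2, h1]
  change min (k : WithBot ℕ∞) (sdim q B) ≤ ((dep q B : ℕ∞) : WithBot ℕ∞) at hBq
  rw [← gs, ← gd, g1, g2] at hBq
  rw [hs]
  change min (k : WithBot ℕ∞) (sdim p E) ≤ ((dep p E : ℕ∞) : WithBot ℕ∞) at hEp
  rw [hs] at hEp
  refine min_le_aux ?_ h3 (Nat.cast_nonneg k) hEp ?_ hBq
  · rw [hA2]; exact ringKrullDim_nonneg_of_nontrivial
  · rw [hA1, hA2]; exact GrothLib.CMMor6.depth_le_dim Ap

end GrothLib.DualFree20
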