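import Groth.Agent.Lib.DualFree20.BCCanon
import Groth.Agent.Lib.DualFree20.RefLocal
import Groth.Agent.Lib.DualFree20.SkBC
import Groth.Agent.Lib.DualFree20.SkTensor
import Groth.Agent.Lib.FlatOff.DoubleDual
import Groth.Agent.Lib.TensorPerf20.FlatKernel
import Groth.Agent.Lib.DualTF27.Bridge
import Groth.Agent.Lib.Seesaw26.Functions

/-!
# Base change of the reflexive powers of a relative canonical sheaf
-/

set_option autoImplicit false
set_option linter.all false
set_option backward.isDefEq.respectTransparency false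
set_option maxHeartbeats 1600000

universe u

open CategoryTheory CategoryTheory.Limits AlgebraicGeometry TopologicalSpace
attribute [local instance] HasDerivedCategory.standard

noncomputable section

namespace GrothLib.DualFree20

open GrothLib.OX GrothLib.RightAdj22

section General

variable {X S : Scheme.{u}} [IsLocallyNoetherian X]

omit [IsLocallyNoetherian X] in
theorem isInvertible_structureModule (X : Scheme.{u}) : PicF.IsInvertible (Coh.structureModule X) := fun x =>
  ⟨⊤, trivial, ⟨DualRing.restrictStructureIso (⊤ : X.Opens).ι⟩⟩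

omit [IsLocallyNoetherian X] in
/-- Invertibility at each point of an open is invertibility on it. -/
theorem isInvertible_restrict_of_invertibleAt {M : X.Modules} (U : X.Opens)
    (h : ∀ x ∈ U, RelCanon.InvertibleAt M x) : PicF.IsInvertible (M.restrict U.ι) := by
  refine RelProjK.isInvertible_restrict_of_le U (fun x : U => (h x.1 x.2).choose) (fun x hx => ?_) fun x => ?_
  · exact Opens.mem_iSup.2 ⟨⟨x, hx⟩, (h x hx).choose_spec.1⟩
  · obtain ⟨e⟩ := (h x.1 x.2).choose_spec.2
    exact ParaPair.isInvertible_of_iso e (isInvertible_structureModule _)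

omit [IsLocallyNoetherian X] in
/-- Invertibility on an open gives invertibility at its points. -/
theorem invertibleAt_of_restrict {M : X.Modules} (U : X.Opens) (h : PicF.IsInvertible (M.restrict U.ι)) (x : X)
    (hx : x ∈ U) : RelCanon.InvertibleAt M x := by
  obtain ⟨W, hW, ⟨e⟩⟩ := h ⟨x, hx⟩
  let j := W.ι ≫ U.ι
  refine ⟨j.opensRange, ⟨⟨⟨x, hx⟩, hW⟩, rfl⟩, ⟨?_⟩⟩
  exact (Scheme.Modules.restrictFunctorCongr j.isoOpensRange_inv_comp.symm).app M ≪≫
    (Scheme.Modules.restrictFunctorComp j.isoOpensRange.inv j).app M ≪≫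
    (Scheme.Modules.restrictFunctor j.isoOpensRange.inv).mapIso
      ((Scheme.Modules.restrictFunctorComp W.ι U.ι).app M ≪≫ e) ≪≫ DualRing.restrictStructureIso _

omit [IsLocallyNoetherian X] in
/-- An invertible module has nonzero stalks. -/
theorem nontrivial_stalk_of_restrict {M : X.Modules} (U : X.Opens) (h : PicF.IsInvertible (M.restrict U.ι)) (x : X)
    (hx : x ∈ U) : Nontrivial (M.presheaf.stalk x) := by
  obtain ⟨e⟩ := DualTF27.nonempty_stalk_iso_of_rank_one (PBDeg.rankOne_iff.2 h) (⟨x, hx⟩ : (U : Scheme.{u}))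
  have hn : Nontrivial ((M.restrict U.ι).presheaf.stalk ⟨x, hx⟩) := e.toLinearEquiv.toEquiv.nontrivial
  exact (((Scheme.Modules.restrictStalkNatIso U.ι ⟨x, hx⟩).app M).addCommGroupIsoToAddEquiv.toEquiv.nontrivial_congr).1 hn

/-- A coherent module invertible at the generic points of the fibres is supported everywhere. -/
theorem support_eq_univ_of_generic (f : X ⟶ S) {G : X.Modules} (hG : Coh.IsCoh G) (U : X.Opens)
    (hgen : ∀ (t : S) (η : f.fiber t), closure {η} ∈ irreducibleComponents ↥(f.fiber t) → f.fiberι t η ∈ U)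
    (hi : PicF.IsInvertible (G.restrict U.ι)) (y : X) : y ∈ CohB1.support G := by
  obtain ⟨T, hT, hsub⟩ := exists_mem_irreducibleComponents_subset_of_isIrreducible _
    (isIrreducible_singleton (x := f.asFiber y))
  obtain ⟨η, hη⟩ := QuasiSober.sober hT.1 (isClosed_of_mem_irreducibleComponents T hT)
  have h2 : f.fiberι (f y) η ⤳ y := by
    have := (hη.specializes (hsub rfl)).map (f.fiberι (f y)).continuous
    rwa [Scheme.Hom.fiberι_asFiber] at this
  have hηU : f.fiberι (f y) η ∈ U := hgen _ η (by rw [hη.def]; exact hT)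
  exact h2.mem_closed (GrothLib.QCoh.isClosed_support_of_isCoh hG)
    (not_subsingleton_iff_nontrivial.2 (nontrivial_stalk_of_restrict U hi _ hηU))

/-- Duals have depth two where the structure sheaf has. -/
theorem two_le_depth_ddual {F : X.Modules} (hF : Coh.IsCoh F) (x : X)
    (hx : (2 : ℕ∞) ≤ LocCoh.depth (X.presheaf.stalk x) (X.presheaf.stalk x)) :
    (2 : ℕ∞) ≤ LocCoh.depth (X.presheaf.stalk x) ((RefHull.ddual F).presheaf.stalk x) := by
  let O := Coh.structureModule X
  have hrel := HomSh.hasRel_dual (HomSh.hasRel_of_isCoh hF)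
  haveI : Module.Finite (X.presheaf.stalk x) ((RefHull.dual F).presheaf.stalk x) := hrel.span_stalk x
  haveI : Module.Finite (X.presheaf.stalk x) ((RefHull.ddual F).presheaf.stalk x) :=
    (HomSh.hasRel_dual hrel).span_stalk x
  let e : (RefHull.ddual F).presheaf.stalk x ≃ₗ[X.presheaf.stalk x]
      Module.Dual (X.presheaf.stalk x) ((RefHull.dual F).presheaf.stalk x) :=
    (LinearEquiv.ofBijective _ (hrel.evalStalk_bijective O x)).trans (LinearEquiv.congrRight (HomSh.unitStalk x).symm)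
  haveI : Module.Finite (X.presheaf.stalk x)
      (Module.Dual (X.presheaf.stalk x) ((RefHull.dual F).presheaf.stalk x)) := Module.Finite.equiv e
  rw [show LocCoh.depth (X.presheaf.stalk x) ((RefHull.ddual F).presheaf.stalk x) = _ from
    GrothLib.Depth.idealDepth_eq_of_equiv _ e]
  exact GrothLib.FlatOff.two_le_depth_dual _ hx _

/-- Coherent modules of depth two off an open that agree on it are isomorphic. -/
theorem nonempty_iso_of_restrict {M N : X.Modules} (hM : Coh.IsCoh M) (hN : Coh.IsCoh N) (V : X.Opens)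
    (dM : ∀ x, x ∉ V → (2 : ℕ∞) ≤ LocCoh.depth (X.presheaf.stalk x) (M.presheaf.stalk x))
    (dN : ∀ x, x ∉ V → (2 : ℕ∞) ≤ LocCoh.depth (X.presheaf.stalk x) (N.presheaf.stalk x))
    (e : M.restrict V.ι ≅ N.restrict V.ι) : Nonempty (M ≅ N) := by
  haveI := hM.1
  haveI := hN.1
  haveI : M.IsFiniteType := hM.2
  haveI : N.IsFiniteType := hN.2
  obtain ⟨a, ha⟩ := (Depth.restrict_map_bijective (E := N) (F := M) dN).2 e.hom
  obtain ⟨b, hb⟩ := (Depth.restrict_map_bijective (E := M) (F := N) dM).2 e.inv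
  refine ⟨⟨a, b, (Depth.restrict_map_bijective (E := M) (F := M) dM).1 ?_,
    (Depth.restrict_map_bijective (E := N) (F := N) dN).1 ?_⟩⟩
  · simp only at ha hb ⊢
    rw [Functor.map_comp, ha, hb, CategoryTheory.Functor.map_id]
    exact e.hom_inv_id
  · simp only at ha hb ⊢
    rw [Functor.map_comp, ha, hb, CategoryTheory.Functor.map_id]
    exact e.inv_hom_id

theorem isCoh_dual' {F : X.Modules} (hF : Coh.IsCoh F) : Coh.IsCoh (RefHull.dual F) :=
  HomSh.isCoh_homSh (HomSh.hasRel_of_isCoh hF) (HomSh.isCoh_structureModule X)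

theorem isCoh_ddual' {F : X.Modules} (hF : Coh.IsCoh F) : Coh.IsCoh (RefHull.ddual F) := isCoh_dual' (isCoh_dual' hF)

theorem isCoh_tensorPow' {F : X.Modules} (hF : Coh.IsCoh F) : ∀ m, Coh.IsCoh (CohB1.tensorPow F m)
  | 0 => HomSh.isCoh_structureModule X
  | m + 1 => TensorPerf20.isCoh_tensor (isCoh_tensorPow' hF m) hF

theorem isCoh_refPowZ {F : X.Modules} (hF : Coh.IsCoh F) : ∀ m : ℤ, Coh.IsCoh (RelCanon.refPowZ F m)
  | Int.ofNat m => isCoh_ddual' (isCoh_tensorPow' hF m)
  | Int.negSucc n => isCoh_ddual' (isCoh_tensorPow' (isCoh_dual' hF) (n + 1))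

/-- A reflexive power is a double dual. -/
theorem exists_ddual_refPowZ {F : X.Modules} (hF : Coh.IsCoh F) :
    ∀ m : ℤ, ∃ G : X.Modules, Coh.IsCoh G ∧ RelCanon.refPowZ F m = RefHull.ddual G
  | Int.ofNat m => ⟨_, isCoh_tensorPow' hF m, rfl⟩
  | Int.negSucc n => ⟨_, isCoh_tensorPow' (isCoh_dual' hF) (n + 1), rfl⟩

/-- A module satisfying relative `(S_2)` has depth two where the fibres have dimension two. -/
theorem two_le_depth_of_relSk (f : X ⟶ S) [LocallyOfFiniteType f] {G : X.Modules} (hG : Coh.IsCoh G)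
    (hs : ∀ y, y ∈ CohB1.support G) (h : RelCanon.RelSk f 2 G) (x : X)
    (hx : (2 : WithBot ℕ∞) ≤ ringKrullDim ((f.fiber (f x)).presheaf.stalk (f.asFiber x))) :
    (2 : ℕ∞) ≤ LocCoh.depth (X.presheaf.stalk x) (G.presheaf.stalk x) := by
  haveI : LocallyOfFiniteType (f.fiberToSpecResidueField (f x)) :=
    MorphismProperty.pullback_snd _ _ (inferInstance : LocallyOfFiniteType f)
  haveI : IsLocallyNoetherian (f.fiber (f x)) :=
    LocallyOfFiniteType.isLocallyNoetherian (f.fiberToSpecResidueField (f x))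
  let P := (Scheme.Modules.pullback (f.fiberι (f x))).obj G
  have hP : Coh.IsCoh P := ModDesc.isCoh_pullback _ _ hG
  have hn : ∀ z, Nontrivial (P.presheaf.stalk z) := fun z => by
    refine not_subsingleton_iff_nontrivial.1 ?_
    show z ∈ CohB1.support P
    rw [GrothLib.QCoh.support_pullback _ G hG]
    exact hs _
  haveI : Module.Finite ((f.fiber (f x)).presheaf.stalk (f.asFiber x)) (P.presheaf.stalk (f.asFiber x)) :=
    QuasiFlat.finite_stalk P hP _
  have hd := two_le_depth_of_hasSk (support_stalk_eq_univ hP hn (f.asFiber x)) hx (h x).2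
  have hfl : FlatMod.IsFlatOverAt f G (f.fiberι (f x) (f.asFiber x)) := by
    rw [Scheme.Hom.fiberι_asFiber]; exact (h x).1
  have := two_le_depth_of_flat_fibre f hG (f x) (f.asFiber x) hfl hd (hn _)
  rwa [Scheme.Hom.fiberι_asFiber] at this

/-- Relative `(S_2)` is stable under base change, for modules supported everywhere. -/
theorem relSk_pullback {X' S' : Scheme.{u}} [IsLocallyNoetherian X'] {p : X' ⟶ X} {f' : X' ⟶ S'} {f : X ⟶ S}
    {q : S' ⟶ S} (hp : IsPullback p f' f q) [LocallyOfFinitePresentation f] (hS : RelCanon.IsSkMor f 2)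
    {G : X.Modules} (hG : Coh.IsCoh G) (hs : ∀ y, y ∈ CohB1.support G) (h : RelCanon.RelSk f 2 G) :
    RelCanon.RelSk f' 2 ((Scheme.Modules.pullback p).obj G) := by
  haveI := hG.1
  have hS' := isSkMor_of_isPullback hp hS
  haveI : LocallyOfFiniteType f := hS.2.1
  haveI : LocallyOfFiniteType f' := hS'.2.1
  intro y'
  refine ⟨GrothLib.FlatFP.isFlatOverAt_baseChange f f' p _ hp G y' (h (p y')).1, ?_⟩
  obtain ⟨g, hg, hgι⟩ := exists_fibreBC hp (f' y')
  haveI := hg
  haveI : LocallyOfFiniteType (f.fiberToSpecResidueField (q (f' y'))) :=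
    MorphismProperty.pullback_snd _ _ (inferInstance : LocallyOfFiniteType f)
  haveI : IsLocallyNoetherian (f.fiber (q (f' y'))) :=
    LocallyOfFiniteType.isLocallyNoetherian (f.fiberToSpecResidueField (q (f' y')))
  haveI : LocallyOfFiniteType (f'.fiberToSpecResidueField (f' y')) :=
    MorphismProperty.pullback_snd _ _ (inferInstance : LocallyOfFiniteType f')
  haveI : IsLocallyNoetherian (f'.fiber (f' y')) :=
    LocallyOfFiniteType.isLocallyNoetherian (f'.fiberToSpecResidueField (f' y'))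
  let z := f'.asFiber y'
  let P := (Scheme.Modules.pullback (f.fiberι (q (f' y')))).obj G
  have hP : Coh.IsCoh P := ModDesc.isCoh_pullback _ _ hG
  have hn : ∀ z, Nontrivial (P.presheaf.stalk z) := fun z => by
    refine not_subsingleton_iff_nontrivial.1 ?_
    show z ∈ CohB1.support P
    rw [GrothLib.QCoh.support_pullback _ G hG]
    exact hs _
  have key : ∀ (x : X) (t : S) (w : f.fiber t), f.fiberι t w = x →
      RelCanon.SkAt 2 ((Scheme.Modules.pullback (f.fiberι t)).obj G) w := by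
    intro x t w hx
    have ht : f x = t := by rw [← hx]; exact GrothLib.DimCut.apply_fiberι f t w
    subst ht
    rw [GrothLib.DimCut.eq_asFiber f x w hx]
    exact (h x).2
  let R := (f.fiber (q (f' y'))).presheaf.stalk (g z)
  let R' := (f'.fiber (f' y')).presheaf.stalk z
  letI : Algebra R R' := (g.stalkMap z).hom.toAlgebra
  haveI : Module.Flat R R' := Flat.stalkMap g z
  haveI : IsNoetherianRing R := GrothLib.DimCut.isNoetherianRing_stalk_fiber f _ _
  haveI : IsNoetherianRing R' := GrothLib.DimCut.isNoetherianRing_stalk_fiber f' _ _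
  haveI : Module.Finite R (P.presheaf.stalk (g z)) := QuasiFlat.finite_stalk P hP _
  haveI : Module.Finite R' ((Coh.structureModule (f'.fiber (f' y'))).presheaf.stalk z) :=
    Module.Finite.equiv (HomSh.unitStalk (X := f'.fiber (f' y')) z)
  have h1 : LocCoh.HasSk 2 R' (TensorProduct R R' (P.presheaf.stalk (g z))) :=
    hasSk_tensor _ (support_stalk_eq_univ hP hn (g z)) (key _ _ (g z) rfl)
      (GrothLib.SkExt.hasSk_congr (HomSh.unitStalk (X := f'.fiber (f' y')) z).symm (hS'.2.2 y'))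
  haveI : Module.Finite R' (TensorProduct R R' (P.presheaf.stalk (g z))) := inferInstance
  let el : ((Scheme.Modules.pullback g).obj P).presheaf.stalk z ≃ₗ[R'] TensorProduct R R' (P.presheaf.stalk (g z)) :=
    ((QCoh.stalkPullbackIso g z).app P).toLinearEquiv
  let eP : (Scheme.Modules.pullback g).obj P ≅
      (Scheme.Modules.pullback (f'.fiberι (f' y'))).obj ((Scheme.Modules.pullback p).obj G) :=
    (Scheme.Modules.pullbackComp g (f.fiberι (q (f' y')))).app G ≪≫ (Scheme.Modules.pullbackCongr hgι).app G ≪≫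
      ((Scheme.Modules.pullbackComp (f'.fiberι (f' y')) p).app G).symm
  exact GrothLib.SkExt.hasSk_congr (el.symm.trans (stalkIso eP z)) h1

end General

variable {A : Type u} [CommRing A] [IsNoetherianRing A] {Y : Scheme.{u}} [Y.Over (Spec (CommRingCat.of A))]
  [IsProper (Y ↘ Spec (CommRingCat.of A))]

/-- The open over which the base change of the relative canonical sheaf is an invertible one. -/
theorem exists_bcOn (d : ℕ)
    (hS : RelCanon.IsSkMor (Y ↘ Spec (CommRingCat.of A)) 2) (hd : Cyc.HasRelDim (Y ↘ Spec (CommRingCat.of A)) d)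
    (ω : Y.Modules) (hω : RelCanon.IsDualizingSheaf A Y d ω)
    (hG : ∀ y : Y, y ∉ RelCanon.gorLocus (Y ↘ Spec (CommRingCat.of A)) →
      (2 : WithBot ℕ∞) ≤ ringKrullDim (((Y ↘ Spec (CommRingCat.of A)).fiber
        ((Y ↘ Spec (CommRingCat.of A)) y)).presheaf.stalk ((Y ↘ Spec (CommRingCat.of A)).asFiber y)))
    (B : Type u) [CommRing B] [IsNoetherianRing B] (φ : A →+* B) (Y' : Scheme.{u})
    [Y'.Over (Spec (CommRingCat.of B))] (p : Y' ⟶ Y)
    (hp : IsPullback p (Y' ↘ Spec (CommRingCat.of B)) (Y ↘ Spec (CommRingCat.of A)) (Spec.map (CommRingCat.ofHom φ)))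
    (ω' : Y'.Modules) (hω' : RelCanon.IsDualizingSheaf B Y' d ω') :
    Coh.IsCoh ω ∧ Coh.IsCoh ω' ∧ ∃ U : Y.Opens, BCOn p U ω ω' ∧
      (∀ y, y ∉ U → (2 : WithBot ℕ∞) ≤ ringKrullDim (((Y ↘ Spec (CommRingCat.of A)).fiber
        ((Y ↘ Spec (CommRingCat.of A)) y)).presheaf.stalk ((Y ↘ Spec (CommRingCat.of A)).asFiber y))) := by
  let f := Y ↘ Spec (CommRingCat.of A)
  let f' := Y' ↘ Spec (CommRingCat.of B)
  haveI : Flat f := hS.1
  haveI : LocallyOfFiniteType f := hS.2.1
  haveI : LocallyOfFinitePresentation f := GrothLib.LocProp.locallyOfFinitePresentation_of_isLocallyNoetherian f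
  haveI : IsLocallyNoetherian Y := LocallyOfFiniteType.isLocallyNoetherian f
  haveI : IsProper f' := MorphismProperty.of_isPullback (P := @IsProper) hp inferInstance
  haveI : Flat f' := MorphismProperty.of_isPullback (P := @Flat) hp inferInstance
  haveI : IsLocallyNoetherian Y' := LocallyOfFiniteType.isLocallyNoetherian f'
  have hdim : ∀ x : Y, FlatMor.fibreDimAt f x = (d : WithBot ℕ∞) := fun x => by
    haveI : LocallyOfFiniteType (f.fiberToSpecResidueField (f x)) :=
      MorphismProperty.pullback_snd _ _ (inferInstance : LocallyOfFiniteType f)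
    exact GrothLib.CodimExt27.localDim_eq_of_pure (k := (Spec (CommRingCat.of A)).residueField (f x))
      (f.fiberToSpecResidueField (f x)) (hd (f x)) (f.asFiber x)
  have hd' : ∀ s, topologicalKrullDim ↥(f.fiber s) ≤ (d : WithBot ℕ∞) :=
    fun s => GrothLib.FibPd.topologicalKrullDim_le_of_components fun Z hZ => (hd s Z hZ).le
  have hd'' : ∀ s, topologicalKrullDim ↥(f'.fiber s) ≤ (d : WithBot ℕ∞) :=
    fun s => (GrothLib.FibreBC.topologicalKrullDim_fiber hp s).le.trans (hd' _)
  haveI : CompactSpace Y := QuasiCompact.compactSpace_of_compactSpace f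
  haveI : QuasiSeparatedSpace Y := quasiSeparatedSpace_of_quasiSeparated f
  haveI : CompactSpace Y' := QuasiCompact.compactSpace_of_compactSpace f'
  haveI : QuasiSeparatedSpace Y' := quasiSeparatedSpace_of_quasiSeparated f'
  haveI : DCoh.HasRpush f := KInj.hasRightDerivedFunctor _
  haveI : DCoh.HasRpush f' := KInj.hasRightDerivedFunctor _
  have hf : DCoh.RpushPreservesQCoh f := fun K hK =>
    GrothLib.KSix19.BettiExact.isQCohD_of_iso' ((rpushIsoRres f).app K).symm (isQCohD_Rres f K hK)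
  have hf' : DCoh.RpushPreservesQCoh f' := fun K hK =>
    GrothLib.KSix19.BettiExact.isQCohD_of_iso' ((rpushIsoRres f').app K).symm (isQCohD_Rres f' K hK)
  haveI : (DCoh.RpushQ f hf).IsLeftAdjoint := OX.isLeftAdjoint_lift_Rpush f hf
  haveI : (DCoh.RpushQ f' hf').IsLeftAdjoint := OX.isLeftAdjoint_lift_Rpush f' hf'
  let adj := Adjunction.ofIsLeftAdjoint (DCoh.RpushQ f hf)
  let adj' := Adjunction.ofIsLeftAdjoint (DCoh.RpushQ f' hf')
  let W₀ : DCoh.DQCoh (Spec (CommRingCat.of A)) := ⟨DCoh.inD _ (Coh.structureModule _),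
    KSix19.RpushAmp.isQCohD_inD _ (inferInstanceAs (Coh.structureModule (Spec (CommRingCat.of A))).IsQuasicoherent)⟩
  let W₁ : DCoh.DQCoh (Spec (CommRingCat.of B)) := ⟨DCoh.inD _ (Coh.structureModule _),
    KSix19.RpushAmp.isQCohD_inD _ (inferInstanceAs (Coh.structureModule (Spec (CommRingCat.of B))).IsQuasicoherent)⟩
  let K := ((DCoh.RpushQ f hf).rightAdjoint.obj W₀).obj
  let K' := ((DCoh.RpushQ f' hf').rightAdjoint.obj W₁).obj
  obtain ⟨u⟩ := nonempty_iso_of_isDualizingSheaf (isDualizingSheaf_adjoint f rfl d hd' hf adj W₀ ⟨Iso.refl _⟩) hω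
  let u' : DCoh.HD K (-(d : ℤ)) ≅ ω := eqToIso (by rw [zero_sub]) ≪≫ u
  let ω'' := DCoh.HD K' (-(d : ℤ))
  have hω'' : RelCanon.IsDualizingSheaf B Y' d ω'' :=
    isDualizingSheaf_of_iso (eqToIso (by rw [zero_sub])) (isDualizingSheaf_adjoint f' rfl d hd'' hf' adj' W₁ ⟨Iso.refl _⟩)
  let c : DEt.Compactification f := ⟨Y, 𝟙 Y, f, inferInstance, inferInstance, Category.id_comp f⟩
  haveI : DCoh.HasRpush c.fbar := ‹DCoh.HasRpush f›
  haveI : PreservesFiniteLimits (Scheme.Modules.restrictFunctor c.j) := inferInstance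
  let η₀ : ∀ i, DCoh.HD ((Dual3.shriekC c (DCoh.RpushQ f hf).rightAdjoint).obj W₀) i ≅ DCoh.HD K i := fun i =>
    (DerivedCategory.homologyFunctor _ i).mapIso ((RightAdj22.resDIdIso Y).app K)
  have hωc : Coh.IsCoh ω := GrothLib.QCoh.isCoh_of_iso u'
    (GrothLib.QCoh.isCoh_of_iso (η₀ _) (GrothLib.ShriekBridge22.isCoh_HD_shriekC_O f c hf adj W₀ ⟨Iso.refl _⟩ _))
  let c' : DEt.Compactification f' := ⟨Y', 𝟙 Y', f', inferInstance, inferInstance, Category.id_comp f'⟩
  haveI : DCoh.HasRpush c'.fbar := ‹DCoh.HasRpush f'›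
  haveI : PreservesFiniteLimits (Scheme.Modules.restrictFunctor c'.j) := inferInstance
  have hω''c : Coh.IsCoh ω'' := GrothLib.QCoh.isCoh_of_iso
    ((DerivedCategory.homologyFunctor _ _).mapIso ((RightAdj22.resDIdIso Y').app K'))
    (GrothLib.ShriekBridge22.isCoh_HD_shriekC_O f' c' hf' adj' W₁ ⟨Iso.refl _⟩ _)
  haveI := hωc.1
  obtain ⟨v⟩ := nonempty_iso_of_isDualizingSheaf hω'' hω'
  have hgor : ∀ y : Y, Dual3.IsGorensteinAt f y → RelCanon.InvertibleAt ω y := by
    intro y hy
    obtain ⟨V, g, _, m, ⟨v, rfl⟩, ⟨e⟩⟩ :=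
      (GrothLib.ShriekBridge22.isGorensteinAt_iff_exists_chart f c hf adj W₀ ⟨Iso.refl _⟩ y).1 hy
    let S := DerivedCategory.singleFunctor V.Modules
    let e₁ : (resD g).obj K ≅ (S (-m)).obj (Coh.structureModule V) :=
      (resD g).mapIso ((RightAdj22.resDIdIso Y).app K).symm ≪≫ e ≪≫
        ((DerivedCategory.singleFunctors V.Modules).shiftIso m (-m) 0 (by omega)).app (Coh.structureModule V)
    obtain rfl : m = (d : ℤ) := by
      by_contra hne'
      have h0 : IsZero ((Scheme.Modules.restrictFunctor g).obj (DCoh.HD K (-(d : ℤ)))) := by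
        refine IsZero.of_iso ?_ ((HDResIso g K _).symm ≪≫ (DerivedCategory.homologyFunctor _ _).mapIso e₁)
        rcases lt_or_gt_of_ne (show -(d : ℤ) ≠ -m by omega) with hlt | hgt
        · exact (DerivedCategory.isGE_iff _ (-m)).1 inferInstance _ hlt
        · exact (DerivedCategory.isLE_iff _ (-m)).1 inferInstance _ hgt
      have h1 := (OX.isZero_iff _).1 h0 v
      have hn : Nontrivial ((DCoh.HD K (-(d : ℤ))).presheaf.stalk (g v)) :=
        (nontrivial_stalk_of_iso (η₀ _) _).1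
          ((GrothLib.ShriekBridge22.stalk_of_isCMAt f c hf adj W₀ ⟨Iso.refl _⟩
            (GrothLib.CurveStk.isCMAt_of_gorAt hy) (hdim _) _).2 rfl)
      have h2 : Nontrivial (((Scheme.Modules.restrictFunctor g).obj (DCoh.HD K (-(d : ℤ)))).presheaf.stalk v) :=
        (((Scheme.Modules.restrictStalkNatIso g v).app _).addCommGroupIsoToAddEquiv.toEquiv.nontrivial_congr).2 hn
      exact not_nontrivial_iff_subsingleton.2 (ModuleCat.subsingleton_of_isZero h1) h2
    let e₂ : (Scheme.Modules.restrictFunctor g).obj ω ≅ Coh.structureModule V :=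
      (Scheme.Modules.restrictFunctor g).mapIso u'.symm ≪≫ (HDResIso g K _).symm ≪≫
        (DerivedCategory.homologyFunctor _ _).mapIso e₁ ≪≫
        (DerivedCategory.singleFunctorCompHomologyFunctorIso V.Modules _).app _
    let e₃ : ω.restrict g.opensRange.ι ≅ Coh.structureModule (g.opensRange : Scheme.{u}) :=
      (Scheme.Modules.restrictFunctorCongr g.isoOpensRange_inv_comp.symm).app ω ≪≫
        (Scheme.Modules.restrictFunctorComp g.isoOpensRange.inv g).app ω ≪≫
        (Scheme.Modules.restrictFunctor g.isoOpensRange.inv).mapIso e₂ ≪≫ DualRing.restrictStructureIso _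
    exact ⟨g.opensRange, ⟨v, rfl⟩, ⟨e₃⟩⟩
  refine ⟨hωc, GrothLib.QCoh.isCoh_of_iso v hω''c, ?_⟩
  let U : Y.Opens := ⟨{y | MoreMor.IsCMAt f y}, Groth.Agent.S4961.result f⟩ ⊓
    ⟨{y | RelCanon.InvertibleAt ω y}, isOpen_iff_mem_nhds.2 fun y ⟨W, hy, e⟩ =>
      Filter.mem_of_superset (W.isOpen.mem_nhds hy) fun z hz => ⟨W, hz, e⟩⟩
  let V : Y'.Opens := p ⁻¹ᵁ U
  haveI := OX.hasLpull p
  haveI := OX.hasLpull (p ∣_ U)
  obtain ⟨eL⟩ := RightAdj20.nonempty_lpull_adjoint φ hp hf adj W₀ ⟨Iso.refl _⟩ hf' adj' W₁ ⟨Iso.refl _⟩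
  obtain ⟨sq⟩ := RightAdj20.nonempty_resD_lpull_square p V.ι U.ι (p ∣_ U) (morphismRestrict_ι p U)
  have hle : ((resD U.ι).obj K).IsLE (-(d : ℤ)) := (DerivedCategory.isLE_iff _ _).2 fun i hi => by
    refine IsZero.of_iso ?_ (HDResIso U.ι K i)
    refine OX.isZero_of_subsingleton_stalks _ fun z => ?_
    refine @Equiv.subsingleton _ _
      ((Scheme.Modules.restrictStalkNatIso U.ι z).app _).addCommGroupIsoToAddEquiv.toEquiv ?_
    refine not_nontrivial_iff_subsingleton.1 fun hn => (ne_of_gt hi) ?_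
    exact (GrothLib.ShriekBridge22.stalk_of_isCMAt f c hf adj W₀ ⟨Iso.refl _⟩ z.2.1 (hdim _) i).1
      ((nontrivial_stalk_of_iso (η₀ i) _).2 hn)
  obtain ⟨top⟩ := GrothLib.ThickDesc6.nonempty_hd_lpull_top (p ∣_ U) ((resD U.ι).obj K) (-(d : ℤ)) hle
  let eV : ω''.restrict V.ι ≅ (Scheme.Modules.pullback (p ∣_ U)).obj (ω.restrict U.ι) :=
    (HDResIso V.ι K' _).symm ≪≫
      (DerivedCategory.homologyFunctor _ _).mapIso ((resD V.ι).mapIso eL.symm ≪≫ sq.app _) ≪≫ top ≪≫
      (Scheme.Modules.pullback (p ∣_ U)).mapIso (HDResIso U.ι K _ ≪≫ (Scheme.Modules.restrictFunctor U.ι).mapIso u')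
  refine ⟨U, ⟨isInvertible_restrict_of_invertibleAt U fun y hy => hy.2,
    ⟨(Scheme.Modules.restrictFunctor V.ι).mapIso v.symm ≪≫ eV⟩⟩, fun y hy => ?_⟩
  exact hG y fun h => hy ⟨GrothLib.CurveStk.isCMAt_of_gorAt h, hgor y h⟩

/-- **Base change of reflexive powers of the relative canonical sheaf.** -/
theorem refPowZ_baseChange (d : ℕ)
    (hS : RelCanon.IsSkMor (Y ↘ Spec (CommRingCat.of A)) 2) (hd : Cyc.HasRelDim (Y ↘ Spec (CommRingCat.of A)) d)
    (ω : Y.Modules) (hω : RelCanon.IsDualizingSheaf A Y d ω)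
    (hG : ∀ y : Y, y ∉ RelCanon.gorLocus (Y ↘ Spec (CommRingCat.of A)) →
      (2 : WithBot ℕ∞) ≤ ringKrullDim (((Y ↘ Spec (CommRingCat.of A)).fiber
        ((Y ↘ Spec (CommRingCat.of A)) y)).presheaf.stalk ((Y ↘ Spec (CommRingCat.of A)).asFiber y)))
    (B : Type u) [CommRing B] [IsNoetherianRing B] (φ : A →+* B) (Y' : Scheme.{u})
    [Y'.Over (Spec (CommRingCat.of B))] (p : Y' ⟶ Y)
    (hp : IsPullback p (Y' ↘ Spec (CommRingCat.of B)) (Y ↘ Spec (CommRingCat.of A)) (Spec.map (CommRingCat.ofHom φ)))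
    (ω' : Y'.Modules) (hω' : RelCanon.IsDualizingSheaf B Y' d ω') (m : ℤ) :
    Nonempty (RefHull.ddual ((Scheme.Modules.pullback p).obj (RelCanon.refPowZ ω m)) ≅ RelCanon.refPowZ ω' m) ∧
    (RelCanon.RelSk (Y ↘ Spec (CommRingCat.of A)) 2 (RelCanon.refPowZ ω m) →
      Nonempty ((Scheme.Modules.pullback p).obj (RelCanon.refPowZ ω m) ≅ RelCanon.refPowZ ω' m) ∧
      RelCanon.RelSk (Y' ↘ Spec (CommRingCat.of B)) 2 ((Scheme.Modules.pullback p).obj (RelCanon.refPowZ ω m))) := by
  let f := Y ↘ Spec (CommRingCat.of A)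
  let f' := Y' ↘ Spec (CommRingCat.of B)
  haveI : Flat f := hS.1
  haveI : LocallyOfFiniteType f := hS.2.1
  haveI : LocallyOfFinitePresentation f := GrothLib.LocProp.locallyOfFinitePresentation_of_isLocallyNoetherian f
  haveI : IsLocallyNoetherian Y := LocallyOfFiniteType.isLocallyNoetherian f
  haveI : IsProper f' := MorphismProperty.of_isPullback (P := @IsProper) hp inferInstance
  haveI : IsLocallyNoetherian Y' := LocallyOfFiniteType.isLocallyNoetherian f'
  have hS' := isSkMor_of_isPullback hp hS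
  obtain ⟨hωc, hω'c, U, hbc, hU2⟩ := exists_bcOn d hS hd ω hω hG B φ Y' p hp ω' hω'
  let V : Y'.Opens := p ⁻¹ᵁ U
  have hV2 : ∀ y', y' ∉ V → (2 : WithBot ℕ∞) ≤ ringKrullDim ((f'.fiber (f' y')).presheaf.stalk (f'.asFiber y')) :=
    fun y' hy' => (hU2 (p y') hy').trans (ringKrullDim_fibre_le hp y')
  have hO : ∀ y', y' ∉ V → (2 : ℕ∞) ≤ LocCoh.depth (Y'.presheaf.stalk y') (Y'.presheaf.stalk y') :=
    fun y' hy' => two_le_depth_of_fibre f' hS' y' (hV2 y' hy')
  let G := RelCanon.refPowZ ω m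
  have hGc : Coh.IsCoh G := isCoh_refPowZ hωc m
  let P := (Scheme.Modules.pullback p).obj G
  have hPc : Coh.IsCoh P := ModDesc.isCoh_pullback p _ hGc
  have hb := hbc.refPowZ hωc hω'c m
  obtain ⟨eP⟩ := hb.pullback_iso
  obtain ⟨ed⟩ := nonempty_ddual_restrict V (ParaPair.isInvertible_of_iso eP hb.invertible)
  have d' : ∀ y', y' ∉ V → (2 : ℕ∞) ≤ LocCoh.depth (Y'.presheaf.stalk y') ((RelCanon.refPowZ ω' m).presheaf.stalk y') := by
    obtain ⟨H, hH, he⟩ := exists_ddual_refPowZ hω'c m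
    intro y' hy'
    rw [he]
    exact two_le_depth_ddual hH y' (hO y' hy')
  refine ⟨nonempty_iso_of_restrict (isCoh_ddual' hPc) (isCoh_refPowZ hω'c m) V
    (fun y' hy' => two_le_depth_ddual hPc y' (hO y' hy')) d' (ed ≪≫ eP), fun h => ?_⟩
  have hgen : ∀ (t : ↥(Spec (CommRingCat.of A))) (η : f.fiber t),
      closure {η} ∈ irreducibleComponents ↥(f.fiber t) → f.fiberι t η ∈ U := by
    intro t η hη
    refine not_not.1 fun h => ?_
    have h2 := hU2 _ h
    rw [← ringKrullDim_fiber_congr f t η _ rfl, GrothLib.AlgSp.ringKrullDim_stalk_eq_zero_of_component hη] at h2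
    exact absurd h2 (not_le.2 (WithBot.coe_lt_coe.2 (by norm_num : (0 : ℕ∞) < 2)))
  have hs := support_eq_univ_of_generic f hGc U hgen hb.1
  have hr := relSk_pullback hp hS hGc hs h
  have hPs : ∀ y', y' ∈ CohB1.support P := fun y' => by
    rw [GrothLib.QCoh.support_pullback _ G hGc]
    exact hs _
  exact ⟨nonempty_iso_of_restrict hPc (isCoh_refPowZ hω'c m) V
    (fun y' hy' => two_le_depth_of_relSk f' hPc hPs hr y' (hV2 y' hy')) d' eP, hr⟩

end GrothLib.DualFree20

end
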