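import Groth.Agent.Lib.DualFree20.ReflMain
import Groth.Agent.Lib.FlatFP.BaseChangeAt
import Groth.Agent.Lib.FibreFlat.Stalk
import Groth.Agent.Lib.QCoh.ClosedImmersion
import Groth.Agent.Lib.DepthAlong.Flat

/-!
# Base change of fibres, and depth along them
-/

set_option autoImplicit false
set_option linter.all false
set_option backward.isDefEq.respectTransparency false
set_option maxHeartbeats 1600000

universe u

open CategoryTheory CategoryTheory.Limits AlgebraicGeometry TopologicalSpace IsLocalRing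
open scoped TensorProduct
attribute [local instance] HasDerivedCategory.standard

noncomputable section

namespace GrothLib.DualFree20

variable {X S X' S' : Scheme.{u}}

/-- The map between fibres along a cartesian square is flat. -/
theorem exists_fibreBC {p : X' ⟶ X} {f' : X' ⟶ S'} {f : X ⟶ S} {q : S' ⟶ S} (hp : IsPullback p f' f q) (s' : S') :
    ∃ g : f'.fiber s' ⟶ f.fiber (q s'), Flat g ∧ g ≫ f.fiberι (q s') = f'.fiberι s' ≫ p := by
  let r := Spec.map (q.residueFieldMap s')
  have hr : r ≫ S.fromSpecResidueField (q s') = S'.fromSpecResidueField s' ≫ q :=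
    Scheme.Hom.SpecMap_residueFieldMap_fromSpecResidueField q s'
  let g : f'.fiber s' ⟶ f.fiber (q s') := pullback.lift (f'.fiberι s' ≫ p) (f'.fiberToSpecResidueField s' ≫ r) (by
    rw [Category.assoc, Category.assoc, hr, hp.w, ← Category.assoc, ← Category.assoc, Scheme.Hom.fiber_fac])
  have hg : g ≫ f.fiberι (q s') = f'.fiberι s' ≫ p := pullback.lift_fst _ _ _
  have hg' : g ≫ f.fiberToSpecResidueField (q s') = f'.fiberToSpecResidueField s' ≫ r := pullback.lift_snd _ _ _
  have hbig : IsPullback (g ≫ f.fiberι (q s')) (f'.fiberToSpecResidueField s') f (r ≫ S.fromSpecResidueField (q s')) := by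
    rw [hg, hr]
    exact (IsPullback.of_hasPullback f' (S'.fromSpecResidueField s')).paste_horiz hp
  have hsq : IsPullback g (f'.fiberToSpecResidueField s') (f.fiberToSpecResidueField (q s')) r :=
    IsPullback.of_right hbig hg' (IsPullback.of_hasPullback f (S.fromSpecResidueField (q s')))
  haveI : Flat r := by
    refine Flat.SpecMap_iff.mpr ?_
    letI := (q.residueFieldMap s').hom.toAlgebra
    exact (inferInstance : Module.Flat (S.residueField (q s')) (S'.residueField s'))
  exact ⟨g, MorphismProperty.of_isPullback (P := @Flat) hsq.flip ‹_›, hg⟩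

/-- A flat module whose restriction to the fibre has depth two has depth two. -/
theorem two_le_depth_of_flat_fibre (f : X ⟶ S) [IsLocallyNoetherian X] {F : X.Modules} (hF : Coh.IsCoh F)
    (s : S) (z : f.fiber s) (hflat : FlatMod.IsFlatOverAt f F (f.fiberι s z))
    (hd : (2 : ℕ∞) ≤ LocCoh.depth ((f.fiber s).presheaf.stalk z)
      (((Scheme.Modules.pullback (f.fiberι s)).obj F).presheaf.stalk z))
    (hne : Nontrivial (((Scheme.Modules.pullback (f.fiberι s)).obj F).presheaf.stalk z)) :
    (2 : ℕ∞) ≤ LocCoh.depth (X.presheaf.stalk (f.fiberι s z)) (F.presheaf.stalk (f.fiberι s z)) := by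
  let ι := f.fiberι s
  let x := ι z
  let A := S.presheaf.stalk (f x)
  let R := X.presheaf.stalk x
  let Q := (f.fiber s).presheaf.stalk z
  let M := F.presheaf.stalk x
  letI : Algebra A R := (f.stalkMap x).hom.toAlgebra
  letI : Algebra R Q := (ι.stalkMap z).hom.toAlgebra
  haveI : IsLocalHom (algebraMap A R) := inferInstanceAs (IsLocalHom (f.stalkMap x).hom)
  letI : Module A M := FlatMod.moduleStalkOver f F x
  haveI : IsScalarTower A R M := IsScalarTower.of_algebraMap_smul fun _ _ => rfl
  haveI : Module.Flat A M := hflat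
  haveI : Module.Finite R M := QuasiFlat.finite_stalk F hF x
  haveI : IsNoetherianRing Q := GrothLib.DimCut.isNoetherianRing_stalk_fiber f _ _
  obtain ⟨hsurj, hker⟩ := GrothLib.FibreFlat.fiberι_stalkMap f s z
  let J : Ideal R := (maximalIdeal A).map (algebraMap A R)
  let el : ((Scheme.Modules.pullback ι).obj F).presheaf.stalk z ≃ₗ[Q] Q ⊗[R] M :=
    ((QCoh.stalkPullbackIso ι z).app F).toLinearEquiv
  let e₁ : (R ⧸ J) ≃ₗ[R] Q :=
    (Submodule.quotEquivOfEq J (LinearMap.ker (Algebra.linearMap R Q))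
      (Submodule.ext fun a => (SetLike.ext_iff.1 hker a).symm)).trans
      ((Algebra.linearMap R Q).quotKerEquivOfSurjective hsurj)
  let e₂ : (M ⧸ (J • ⊤ : Submodule R M)) ≃ₗ[R] Q ⊗[R] M :=
    (TensorProduct.quotTensorEquivQuotSMul M J).symm.trans (TensorProduct.congr e₁ (LinearEquiv.refl R M))
  have h1 : (2 : ℕ∞) ≤ LocCoh.depth Q (Q ⊗[R] M) := by
    refine hd.trans (le_of_eq ?_)
    haveI : Module.Finite Q (Q ⊗[R] M) := inferInstance
    haveI : Module.Finite Q (((Scheme.Modules.pullback ι).obj F).presheaf.stalk z) := Module.Finite.equiv el.symm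
    exact GrothLib.Depth.idealDepth_eq_of_equiv _ el
  haveI : IsLocalHom (algebraMap R Q) := inferInstanceAs (IsLocalHom (ι.stalkMap z).hom)
  haveI : Module.Finite R Q := Module.Finite.equiv e₁
  haveI : Module.Finite R (Q ⊗[R] M) := inferInstance
  have hmax : (maximalIdeal R).map (algebraMap R Q) = maximalIdeal Q := IsLocalRing.map_maximalIdeal_of_surjective _ hsurj
  have h2 : (2 : ℕ∞) ≤ LocCoh.idealDepth (maximalIdeal R) (Q ⊗[R] M) := by
    rw [← GrothLib.Depth.idealDepth_map_eq (B := Q), hmax]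
    exact h1
  haveI : Nontrivial (Q ⊗[R] M) := el.toEquiv.nontrivial_congr.1 hne
  have hne' : maximalIdeal R • (⊤ : Submodule R (Q ⊗[R] M)) ≠ ⊤ :=
    (Submodule.top_ne_ideal_smul_of_le_jacobson_annihilator (IsLocalRing.maximalIdeal_le_jacobson _)).symm
  obtain ⟨rs, hlen, hmem, hreg⟩ := (GrothLib.Depth.le_idealDepth_iff_exists _ hne' 2).1 h2
  have hreg' : RingTheory.Sequence.IsWeaklyRegular M rs :=
    GrothLib.DimCut.isWeaklyRegular_of_fibre (A := A) rs M ((e₂.isWeaklyRegular_congr rs).2 hreg)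
  haveI : Nontrivial M := by
    by_contra hM
    haveI := not_nontrivial_iff_subsingleton.1 hM
    exact not_nontrivial (Q ⊗[R] M) inferInstance
  exact (GrothLib.Depth.le_idealDepth_iff_exists (maximalIdeal R)
    (Submodule.top_ne_ideal_smul_of_le_jacobson_annihilator (IsLocalRing.maximalIdeal_le_jacobson _)).symm 2).2
    ⟨rs, hlen, hmem, hreg'⟩

/-- The dimension of the fibres does not drop under base change. -/
theorem ringKrullDim_fibre_le [IsLocallyNoetherian X] [IsLocallyNoetherian X'] {p : X' ⟶ X} {f' : X' ⟶ S'}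
    {f : X ⟶ S} {q : S' ⟶ S} (hp : IsPullback p f' f q) (x' : X') :
    ringKrullDim ((f.fiber (f (p x'))).presheaf.stalk (f.asFiber (p x'))) ≤
      ringKrullDim ((f'.fiber (f' x')).presheaf.stalk (f'.asFiber x')) := by
  obtain ⟨g, hg, hgι⟩ := exists_fibreBC hp (f' x')
  haveI := hg
  have hz : f.fiberι (q (f' x')) (g (f'.asFiber x')) = p x' := by
    rw [← Scheme.Hom.comp_apply, hgι, Scheme.Hom.comp_apply, Scheme.Hom.fiberι_asFiber]
  rw [← ringKrullDim_fiber_congr f (q (f' x')) (g (f'.asFiber x')) (p x') hz]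
  haveI := GrothLib.DimCut.isNoetherianRing_stalk_fiber f' (f' x') (f'.asFiber x')
  haveI := GrothLib.DimCut.isNoetherianRing_stalk_fiber f (q (f' x')) (g (f'.asFiber x'))
  exact GrothLib.DimCut.dim_stalk_le_of_flat g (f'.asFiber x')

/-- A module with nonzero stalks is supported everywhere in each local ring. -/
theorem support_stalk_eq_univ [IsLocallyNoetherian X] {G : X.Modules} (hG : Coh.IsCoh G)
    (h : ∀ y : X, Nontrivial (G.presheaf.stalk y)) (x : X) :
    Module.support (X.presheaf.stalk x) (G.presheaf.stalk x) = Set.univ := by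
  haveI := hG.1
  obtain ⟨W, hW', hxW, -⟩ := exists_isAffineOpen_mem_and_subset (x := x) (U := ⊤) trivial
  have hW : IsAffineOpen W := hW'
  letI := X.presheaf.algebra_section_stalk ⟨x, hxW⟩
  haveI := FlatFP.isLocalization_stalk_primeAt hW hxW
  letI : Module Γ(X, W) (G.presheaf.stalk x) := Module.compHom _ (X.presheaf.germ W x hxW).hom
  haveI : IsScalarTower Γ(X, W) (X.presheaf.stalk x) (G.presheaf.stalk x) :=
    IsScalarTower.of_algebraMap_smul fun _ _ => rfl
  obtain ⟨g, hg, -⟩ := FlatFP.isLocalizedModule_germ (F := G) hW hxW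
  refine Set.eq_univ_of_forall fun P => ?_
  let q : PrimeSpectrum Γ(X, W) := ⟨P.asIdeal.comap (algebraMap Γ(X, W) (X.presheaf.stalk x)), inferInstance⟩
  have hy : hW.fromSpec q ∈ W := by
    have : hW.fromSpec q ∈ Set.range hW.fromSpec := ⟨q, rfl⟩
    rwa [hW.range_fromSpec] at this
  have hq : q ∈ Module.support Γ(X, W) Γ(G, W) := by
    letI := X.presheaf.algebra_section_stalk ⟨hW.fromSpec q, hy⟩
    letI : Module Γ(X, W) (G.presheaf.stalk (hW.fromSpec q)) :=
      Module.compHom _ (X.presheaf.germ W (hW.fromSpec q) hy).hom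
    obtain ⟨g', hg', -⟩ := FlatFP.isLocalizedModule_germ (F := G) hW hy
    have hp : WeakAss.primeAt (hW.fromSpec q) hy = q.asIdeal := by
      have h1 : hW.primeIdealOf ⟨hW.fromSpec q, hy⟩ = q :=
        hW.fromSpec.isOpenEmbedding.injective (hW.fromSpec_primeIdealOf ⟨hW.fromSpec q, hy⟩)
      exact (congrArg PrimeSpectrum.asIdeal (QCoh.primeAt_eq_primeIdealOf hW hy)).trans (congrArg _ h1)
    haveI := hg'
    haveI := (IsLocalizedModule.iso (WeakAss.primeAt (hW.fromSpec q) hy).primeCompl g').toEquiv.nontrivial_congr.2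
      (h (hW.fromSpec q))
    rw [show q = ⟨WeakAss.primeAt (hW.fromSpec q) hy, inferInstance⟩ from PrimeSpectrum.ext hp.symm]
    exact Module.mem_support_iff.2 inferInstance
  obtain ⟨z, hz⟩ := Module.mem_support_iff'.1 hq
  refine Module.mem_support_iff'.2 ⟨g z, fun r hr h0 => ?_⟩
  obtain ⟨⟨b, s⟩, hb⟩ := IsLocalization.surj (WeakAss.primeAt x hxW).primeCompl r
  have hbq : b ∉ q.asIdeal := fun hb' => by
    have h1 : r * algebraMap Γ(X, W) (X.presheaf.stalk x) s ∈ P.asIdeal := hb ▸ hb'
    rcases P.isPrime.mem_or_mem h1 with h1 | h1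
    · exact hr h1
    · exact P.isPrime.ne_top (Ideal.eq_top_of_isUnit_mem _ h1 (IsLocalization.map_units _ s))
  have h1 : g (b • z) = 0 := by
    rw [map_smul, ← algebraMap_smul (X.presheaf.stalk x) b, ← hb, mul_comm, mul_smul, h0, smul_zero]
  obtain ⟨u, hu⟩ := (IsLocalizedModule.eq_zero_iff (WeakAss.primeAt x hxW).primeCompl g).1 h1
  refine hz ((u : Γ(X, W)) * b) (fun h2 => ?_) (by rw [mul_smul]; exact hu)
  rcases q.isPrime.mem_or_mem h2 with h2 | h2
  · exact P.isPrime.ne_top (Ideal.eq_top_of_isUnit_mem _ h2 (IsLocalization.map_units _ u))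
  · exact hbq h2

/-- `(S_2)` gives depth two where a module supported everywhere lives in dimension two. -/
theorem two_le_depth_of_hasSk {R : Type u} [CommRing R] [IsLocalRing R] [IsNoetherianRing R] {M : Type u}
    [AddCommGroup M] [Module R M] [Module.Finite R M] (hsupp : Module.support R M = Set.univ)
    (hdim : (2 : WithBot ℕ∞) ≤ ringKrullDim R) (h : LocCoh.HasSk 2 R M) : (2 : ℕ∞) ≤ LocCoh.depth R M := by
  let m := maximalIdeal R
  let T := Localization.AtPrime m
  let Mm := LocalizedModule m.primeCompl M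
  have hu : ∀ s : m.primeCompl, IsUnit (s : R) := fun s => notMem_maximalIdeal.1 s.2
  haveI : Module.Finite R Mm := Module.Finite.of_surjective (LocalizedModule.mkLinearMap m.primeCompl M) fun v => by
    obtain ⟨⟨z, s⟩, hz⟩ := IsLocalizedModule.surj m.primeCompl (LocalizedModule.mkLinearMap m.primeCompl M) v
    refine ⟨(↑(hu s).unit⁻¹ : R) • z, ?_⟩
    rw [map_smul, ← hz]
    show (↑(hu s).unit⁻¹ : R) • (s : R) • v = v
    rw [smul_smul, (hu s).val_inv_mul, one_smul]
  haveI : Module.Finite T Mm := Module.Finite.of_isLocalizedModule m.primeCompl (LocalizedModule.mkLinearMap m.primeCompl M)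
  let e : M ≃ₗ[R] Mm := LinearEquiv.ofBijective (LocalizedModule.mkLinearMap m.primeCompl M) ⟨fun a b hab => by
      obtain ⟨s, hs⟩ := IsLocalizedModule.exists_of_eq (S := m.primeCompl) hab
      exact (hu s).smul_left_cancel.1 hs, fun v => by
      obtain ⟨⟨z, s⟩, hz⟩ := IsLocalizedModule.surj m.primeCompl (LocalizedModule.mkLinearMap m.primeCompl M) v
      refine ⟨(↑(hu s).unit⁻¹ : R) • z, ?_⟩
      rw [map_smul, ← hz]
      show (↑(hu s).unit⁻¹ : R) • (s : R) • v = v
      rw [smul_smul, (hu s).val_inv_mul, one_smul]⟩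
  have h1 := h m
  rw [GrothLib.SkExt.supportDim_localized_eq_height hsupp m, maximalIdeal_height_eq_ringKrullDim] at h1
  rw [min_eq_left (by exact_mod_cast hdim)] at h1
  have h2 : (2 : ℕ∞) ≤ LocCoh.depth T Mm := WithBot.coe_le_coe.1 h1
  refine h2.trans (le_of_eq ?_)
  show LocCoh.idealDepth (maximalIdeal T) Mm = LocCoh.idealDepth m M
  rw [← Localization.AtPrime.map_eq_maximalIdeal, GrothLib.Depth.idealDepth_map_eq]
  exact (GrothLib.Depth.idealDepth_eq_of_equiv _ e).symm

end GrothLib.DualFree20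

end
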