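import Groth.Agent.Lib.DualFree20.CMSheaf

/-!
# The dualizing sheaf of a proper Cohen–Macaulay family on the fibres
-/

set_option autoImplicit false
set_option linter.all false
set_option backward.isDefEq.respectTransparency false
set_option maxHeartbeats 1600000

universe u

open CategoryTheory CategoryTheory.Limits AlgebraicGeometry
attribute [local instance] HasDerivedCategory.standard

noncomputable section

namespace GrothLib.DualFree20

open GrothLib.OX GrothLib.RightAdj22 GrothLib.ShriekBridge22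

/-- Everything about the dualizing sheaf of a proper Cohen–Macaulay morphism of pure relative dimension. -/
theorem cm_dualizing {A : Type u} [CommRing A] [IsNoetherianRing A] {Y : Scheme.{u}}
    [Y.Over (Spec (CommRingCat.of A))] [IsProper (Y ↘ Spec (CommRingCat.of A))] (d : ℕ)
    (hCM : ∀ y : Y, MoreMor.IsCMAt (Y ↘ Spec (CommRingCat.of A)) y)
    (hd : Cyc.HasRelDim (Y ↘ Spec (CommRingCat.of A)) d)
    (ω : Y.Modules) (hω : RelCanon.IsDualizingSheaf A Y d ω) :
    FlatMod.IsFlatOver (Y ↘ Spec (CommRingCat.of A)) ω ∧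
    (∀ t : Spec (CommRingCat.of A), RelCanon.IsDualizingSheafFib (Y ↘ Spec (CommRingCat.of A)) d ω t) ∧
    (∀ y : Y, Dual3.IsGorensteinAt (Y ↘ Spec (CommRingCat.of A)) y ↔ RelCanon.InvertibleAt ω y) ∧
    (∀ (y : Y) (k : ℕ), RelCanon.SkAt k
      ((Scheme.Modules.pullback ((Y ↘ Spec (CommRingCat.of A)).fiberι ((Y ↘ Spec (CommRingCat.of A)) y))).obj ω)
      ((Y ↘ Spec (CommRingCat.of A)).asFiber y)) ∧
    CohB1.support ω = Set.univ := by
  let f := Y ↘ Spec (CommRingCat.of A)
  haveI : LocallyOfFinitePresentation f := GrothLib.LocProp.locallyOfFinitePresentation_of_isLocallyNoetherian f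
  haveI : Flat f := (Flat.iff_flat_stalkMap f).2 fun x => (hCM x).1
  have hdim : ∀ x : Y, FlatMor.fibreDimAt f x = (d : WithBot ℕ∞) := fun x => by
    haveI : LocallyOfFiniteType (f.fiberToSpecResidueField (f x)) :=
      MorphismProperty.pullback_snd _ _ (inferInstance : LocallyOfFiniteType f)
    exact GrothLib.CodimExt27.localDim_eq_of_pure (k := (Spec (CommRingCat.of A)).residueField (f x))
      (f.fiberToSpecResidueField (f x)) (hd (f x)) (f.asFiber x)
  have hd' : ∀ s, topologicalKrullDim ↥(f.fiber s) ≤ (d : WithBot ℕ∞) :=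
    fun s => GrothLib.FibPd.topologicalKrullDim_le_of_components fun Z hZ => (hd s Z hZ).le
  haveI : CompactSpace Y := QuasiCompact.compactSpace_of_compactSpace f
  haveI : QuasiSeparatedSpace Y := quasiSeparatedSpace_of_quasiSeparated f
  haveI : DCoh.HasRpush f := KInj.hasRightDerivedFunctor _
  have hf : DCoh.RpushPreservesQCoh f := fun K hK =>
    GrothLib.KSix19.BettiExact.isQCohD_of_iso' ((rpushIsoRres f).app K).symm
      (isQCohD_Rres f K hK)
  haveI : (DCoh.RpushQ f hf).IsLeftAdjoint := OX.isLeftAdjoint_lift_Rpush f hf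
  let adj := Adjunction.ofIsLeftAdjoint (DCoh.RpushQ f hf)
  let W : DCoh.DQCoh (Spec (CommRingCat.of A)) := ⟨DCoh.inD _ (Coh.structureModule _),
    KSix19.RpushAmp.isQCohD_inD _ (inferInstanceAs (Coh.structureModule (Spec (CommRingCat.of A))).IsQuasicoherent)⟩
  let K := ((DCoh.RpushQ f hf).rightAdjoint.obj W).obj
  obtain ⟨hz, hfl, hne⟩ := adjoint_oneDeg f hf adj W ⟨Iso.refl _⟩ hCM d hdim
  obtain ⟨u⟩ := nonempty_iso_of_isDualizingSheaf (isDualizingSheaf_adjoint f rfl d hd' hf adj W ⟨Iso.refl _⟩) hω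
  let u' : DCoh.HD K (-(d : ℤ)) ≅ ω := eqToIso (by rw [zero_sub]) ≪≫ u
  haveI : K.IsLE (-(d : ℤ)) := (DerivedCategory.isLE_iff _ _).2 fun i hi => hz i (ne_of_gt hi)
  have main : ∀ t : Spec (CommRingCat.of A), RelCanon.IsDualizingSheafFib f d ω t ∧
      ∀ (k : ℕ) (z : f.fiber t), RelCanon.SkAt k ((Scheme.Modules.pullback (f.fiberι t)).obj ω) z := by
    intro t
    let κ := (Spec (CommRingCat.of A)).residueField t
    letI : (f.fiber t).Over (Spec (CommRingCat.of κ)) := ⟨f.fiberToSpecResidueField t⟩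
    let f' : f.fiber t ⟶ Spec (CommRingCat.of κ) := f.fiberToSpecResidueField t
    let φ : CommRingCat.of A ⟶ κ := Spec.preimage ((Spec (CommRingCat.of A)).fromSpecResidueField t)
    have hsq : IsPullback (f.fiberι t) f' f (Spec.map (CommRingCat.ofHom φ.hom)) := by
      change IsPullback (f.fiberι t) f' f (Spec.map φ)
      rw [Spec.map_preimage]
      exact IsPullback.of_hasPullback _ _
    haveI : IsProper f' := MorphismProperty.of_isPullback hsq (inferInstance : IsProper f)
    haveI : CompactSpace (f.fiber t) := QuasiCompact.compactSpace_of_compactSpace f'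
    haveI : QuasiSeparatedSpace (f.fiber t) := quasiSeparatedSpace_of_quasiSeparated f'
    haveI : DCoh.HasRpush f' := KInj.hasRightDerivedFunctor _
    have hf' : DCoh.RpushPreservesQCoh f' := fun L hL =>
      GrothLib.KSix19.BettiExact.isQCohD_of_iso' ((rpushIsoRres f').app L).symm
        (isQCohD_Rres f' L hL)
    haveI : (DCoh.RpushQ f' hf').IsLeftAdjoint := OX.isLeftAdjoint_lift_Rpush f' hf'
    let adj' := Adjunction.ofIsLeftAdjoint (DCoh.RpushQ f' hf')
    let W' : DCoh.DQCoh (Spec (CommRingCat.of κ)) := ⟨DCoh.inD _ (Coh.structureModule _),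
      KSix19.RpushAmp.isQCohD_inD _
        (inferInstanceAs (Coh.structureModule (Spec (CommRingCat.of κ))).IsQuasicoherent)⟩
    haveI := OX.hasLpull (f.fiberι t)
    obtain ⟨e⟩ := RightAdj20.nonempty_lpull_adjoint φ.hom hsq hf adj W ⟨Iso.refl _⟩ hf' adj' W' ⟨Iso.refl _⟩
    obtain ⟨l⟩ := GrothLib.ThickDesc6.nonempty_hd_lpull_top (f.fiberι t) K (-(d : ℤ)) inferInstance
    let v : DCoh.HD ((DCoh.RpushQ f' hf').rightAdjoint.obj W').obj (-(d : ℤ)) ≅
        (Scheme.Modules.pullback (f.fiberι t)).obj ω :=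
      ((DerivedCategory.homologyFunctor _ _).mapIso e).symm ≪≫ l ≪≫ (Scheme.Modules.pullback (f.fiberι t)).mapIso u'
    refine ⟨?_, fun k z => ?_⟩
    · refine isDualizingSheaf_of_iso (eqToIso (by rw [zero_sub]) ≪≫ v)
        (isDualizingSheaf_adjoint f' rfl d
          (fun s => (GrothLib.FibreBC.topologicalKrullDim_fiber hsq s).le.trans (hd' _)) hf' adj' W' ⟨Iso.refl _⟩)
    · refine skAt_adjoint_of_cm f' hf' adj' W' ⟨Iso.refl _⟩ (fun z' => ?_) _ v k z
      exact (GrothLib.NodeOpen11.isCMAt_field_iff f' z').1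
        ((GrothLib.CurveStk.ptProp_cm.baseChange hsq z').2 (hCM _))
  refine ⟨isFlatOver_of_iso u' hfl, fun t => (main t).1,
    gor_iff_invertibleAt f hf adj W ⟨Iso.refl _⟩ hCM d hdim u', fun y k => (main _).2 k _, ?_⟩
  refine Set.eq_univ_of_forall fun y => ?_
  exact not_subsingleton_iff_nontrivial.2 ((nontrivial_stalk_of_iso u' y).1 (hne y))

end GrothLib.DualFree20

end
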