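import Groth.Agent.Lib.RightAdj22.TopRepApps
import Groth.Agent.Lib.RightAdj20.ModelAdjoint
import Groth.Agent.Lib.DualRing.SchemePull
import Groth.Agent.Lib.HomBC22.ShriekBC
import Groth.Agent.Lib.FibPd.SuppDimLocal
import Groth.Agent.Lib.FibreBC.Basic
import Groth.Agent.Lib.Euler.Basic
import Groth.Prelude.Def_RelCanon
import Groth.Prelude.Def_Cyc

/-!
# Flat base change of dualizing pairs
-/

set_option autoImplicit false
set_option linter.all false
set_option backward.isDefEq.respectTransparency false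
set_option maxHeartbeats 1000000

universe u

open CategoryTheory CategoryTheory.Limits AlgebraicGeometry
attribute [local instance] HasDerivedCategory.standard

noncomputable section

namespace GrothLib.DualFree20

open GrothLib.OX GrothLib.RightAdj22

section Pair

variable {A : Type u} [CommRing A] {X : Scheme.{u}} [X.Over (Spec (CommRingCat.of A))]

/-- Dualizing pairs transport along isomorphisms. -/
theorem isDualizingSheaf_of_iso {d : ℕ} {ω ω' : X.Modules} (e : ω ≅ ω')
    (h : RelCanon.IsDualizingSheaf A X d ω) : RelCanon.IsDualizingSheaf A X d ω' := by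
  obtain ⟨tr, hq, hb⟩ := h
  haveI := hq
  refine ⟨tr ∘ₗ Cohom.hhMap A e.inv d, GrothLib.QCoh.isQuasicoherent_of_iso e, fun F hF => ?_⟩
  have : Canon.dualityMap A X d ω' (tr ∘ₗ Cohom.hhMap A e.inv d) F =
      Canon.dualityMap A X d ω tr F ∘ (fun φ : F ⟶ ω' => φ ≫ e.inv) := by
    funext φ
    refine LinearMap.ext fun x => ?_
    exact congrArg tr (Euler.hhMap_comp φ e.inv d x).symm
  rw [this]
  exact (hb F hF).comp ⟨fun a b h => (cancel_mono e.inv).1 h, fun φ => ⟨φ ≫ e.hom, by simp⟩⟩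

/-- Two dualizing modules are isomorphic. -/
theorem nonempty_iso_of_isDualizingSheaf {d : ℕ} {ω ω' : X.Modules} (h : RelCanon.IsDualizingSheaf A X d ω)
    (h' : RelCanon.IsDualizingSheaf A X d ω') : Nonempty (ω ≅ ω') := by
  obtain ⟨t, hq, hb⟩ := h
  obtain ⟨t', hq', hb'⟩ := h'
  obtain ⟨a, ha⟩ := (hb' ω hq).2 t
  obtain ⟨b, hb₂⟩ := (hb ω' hq').2 t'
  refine ⟨⟨a, b, (hb ω hq).1 (LinearMap.ext fun x => ?_), (hb' ω' hq').1 (LinearMap.ext fun x => ?_)⟩⟩
  · show t (Cohom.hhMap A (a ≫ b) d x) = t (Cohom.hhMap A (𝟙 ω) d x)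
    rw [Euler.hhMap_comp, Euler.hhMap_id]
    exact (LinearMap.congr_fun hb₂ (Cohom.hhMap A a d x)).trans (LinearMap.congr_fun ha x)
  · show t' (Cohom.hhMap A (b ≫ a) d x) = t' (Cohom.hhMap A (𝟙 ω') d x)
    rw [Euler.hhMap_comp, Euler.hhMap_id]
    exact (LinearMap.congr_fun ha (Cohom.hhMap A b d x)).trans (LinearMap.congr_fun hb₂ x)

/-- The cohomology sheaf of the right adjoint at the structure sheaf is dualizing. -/
theorem isDualizingSheaf_adjoint (f : X ⟶ Spec (CommRingCat.of A)) (hf' : f = X ↘ Spec (CommRingCat.of A))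
    [IsProper f] [DCoh.HasRpush f]
    (d : ℕ) (hd : ∀ s, topologicalKrullDim ↥(f.fiber s) ≤ (d : WithBot ℕ∞))
    (hf : DCoh.RpushPreservesQCoh f) {a : DCoh.DQCoh (Spec (CommRingCat.of A)) ⥤ DCoh.DQCoh X}
    (adj : DCoh.RpushQ f hf ⊣ a) (W : DCoh.DQCoh (Spec (CommRingCat.of A)))
    (hW : Nonempty (W.obj ≅ DCoh.inD _ (Coh.structureModule (Spec (CommRingCat.of A))))) :
    RelCanon.IsDualizingSheaf A X d (DCoh.HD (a.obj W).obj (0 - d)) := by
  subst hf'
  obtain ⟨eO⟩ := hW
  haveI : W.obj.IsGE 0 := ShriekBridge22.isGE_zero_of_iso_structure ⟨eO⟩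
  obtain ⟨t, ht⟩ := exists_topPair (X ↘ Spec (CommRingCat.of A)) hf adj W 0 d
    (fun M hM q hq => isZero_Rpush_of_fibreDim _ d hd M hM q hq) (ModuleCat.of A A)
    ((moduleSpecΓFunctor (R := CommRingCat.of A)).mapIso
      ((DerivedCategory.homologyFunctor _ 0).mapIso eO ≪≫
        (DerivedCategory.singleFunctorCompHomologyFunctorIso (Spec (CommRingCat.of A)).Modules 0).app
          (Coh.structureModule (Spec (CommRingCat.of A)))) ≪≫
      gammaStructureIso (CommRingCat.of A))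
  refine ⟨t, (a.obj W).property _, fun F hF => ⟨fun p q h => ?_, fun ψ => ?_⟩⟩
  · exact (ht F hF (Canon.dualityMap A X d _ t F p)).unique (fun x => rfl) (fun x => LinearMap.congr_fun h x)
  · obtain ⟨φ, hφ, -⟩ := ht F hF ψ
    exact ⟨φ, LinearMap.ext fun x => (hφ x).symm⟩

end Pair

/-- **Flat base change of the dualizing sheaf** of a proper flat scheme over a Noetherian affine base. -/
theorem isDualizingSheaf_pullback {A : Type u} [CommRing A] {Y : Scheme.{u}} [Y.Over (Spec (CommRingCat.of A))]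
    [IsProper (Y ↘ Spec (CommRingCat.of A))] [Flat (Y ↘ Spec (CommRingCat.of A))]
    [LocallyOfFinitePresentation (Y ↘ Spec (CommRingCat.of A))] {d : ℕ}
    (hd : ∀ s, topologicalKrullDim ↥((Y ↘ Spec (CommRingCat.of A)).fiber s) ≤ (d : WithBot ℕ∞))
    {ω : Y.Modules} (hω : RelCanon.IsDualizingSheaf A Y d ω)
    {B : Type u} [CommRing B] (φ : A →+* B) (hφ : φ.Flat) {Y' : Scheme.{u}} [Y'.Over (Spec (CommRingCat.of B))]
    (p : Y' ⟶ Y) (hp : IsPullback p (Y' ↘ Spec (CommRingCat.of B)) (Y ↘ Spec (CommRingCat.of A))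
      (Spec.map (CommRingCat.ofHom φ))) :
    RelCanon.IsDualizingSheaf B Y' d ((Scheme.Modules.pullback p).obj ω) := by
  let f := Y ↘ Spec (CommRingCat.of A)
  let f' := Y' ↘ Spec (CommRingCat.of B)
  haveI : IsProper f' := MorphismProperty.of_isPullback hp (inferInstance : IsProper f)
  have hgfl : Flat (Spec.map (CommRingCat.ofHom φ)) := (HasRingHomProperty.Spec_iff (P := @Flat)).2 hφ
  haveI : Flat p := MorphismProperty.of_isPullback (P := @Flat) hp.flip hgfl
  haveI : CompactSpace Y := QuasiCompact.compactSpace_of_compactSpace f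
  haveI : QuasiSeparatedSpace Y := quasiSeparatedSpace_of_quasiSeparated f
  haveI : CompactSpace Y' := QuasiCompact.compactSpace_of_compactSpace f'
  haveI : QuasiSeparatedSpace Y' := quasiSeparatedSpace_of_quasiSeparated f'
  haveI : DCoh.HasRpush f := KInj.hasRightDerivedFunctor _
  haveI : DCoh.HasRpush f' := KInj.hasRightDerivedFunctor _
  have hf : DCoh.RpushPreservesQCoh f := fun K hK =>
    GrothLib.KSix19.BettiExact.isQCohD_of_iso' ((rpushIsoRres f).app K).symm (isQCohD_Rres f K hK)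
  have hf' : DCoh.RpushPreservesQCoh f' := fun K hK =>
    GrothLib.KSix19.BettiExact.isQCohD_of_iso' ((rpushIsoRres f').app K).symm (isQCohD_Rres f' K hK)
  haveI : (DCoh.RpushQ f hf).IsLeftAdjoint := OX.isLeftAdjoint_lift_Rpush f hf
  haveI : (DCoh.RpushQ f' hf').IsLeftAdjoint := OX.isLeftAdjoint_lift_Rpush f' hf'
  let adj := Adjunction.ofIsLeftAdjoint (DCoh.RpushQ f hf)
  let adj' := Adjunction.ofIsLeftAdjoint (DCoh.RpushQ f' hf')
  let W : DCoh.DQCoh (Spec (CommRingCat.of A)) := ⟨DCoh.inD _ (Coh.structureModule _),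
    KSix19.RpushAmp.isQCohD_inD _ (inferInstanceAs (Coh.structureModule (Spec (CommRingCat.of A))).IsQuasicoherent)⟩
  let W' : DCoh.DQCoh (Spec (CommRingCat.of B)) := ⟨DCoh.inD _ (Coh.structureModule _),
    KSix19.RpushAmp.isQCohD_inD _ (inferInstanceAs (Coh.structureModule (Spec (CommRingCat.of B))).IsQuasicoherent)⟩
  haveI := OX.hasLpull p
  obtain ⟨e⟩ := RightAdj20.nonempty_lpull_adjoint φ hp hf adj W ⟨Iso.refl _⟩ hf' adj' W' ⟨Iso.refl _⟩
  haveI := OX.additive_pullback p
  haveI := OX.preservesFiniteLimits_pullback_of_flat p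
  obtain ⟨l⟩ := DualRing.nonempty_lpull_flat p
  let E := ((DCoh.RpushQ f hf).rightAdjoint.obj W).obj
  let i : ℤ := 0 - d
  let c : DCoh.HD ((DCoh.Lpull p).obj E) i ≅ (Scheme.Modules.pullback p).obj (DCoh.HD E i) :=
    (DerivedCategory.homologyFunctor _ i).mapIso (l.app E) ≪≫ (DerTrunc.homologyMapIso _ i).app E
  have h1 := isDualizingSheaf_adjoint f rfl d hd hf adj W ⟨Iso.refl _⟩
  have h2 := isDualizingSheaf_adjoint f' rfl d
    (fun s => (GrothLib.FibreBC.topologicalKrullDim_fiber hp s).le.trans (hd _)) hf' adj' W' ⟨Iso.refl _⟩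
  obtain ⟨u⟩ := nonempty_iso_of_isDualizingSheaf h1 hω
  exact isDualizingSheaf_of_iso (((DerivedCategory.homologyFunctor _ i).mapIso e).symm ≪≫ c ≪≫
    (Scheme.Modules.pullback p).mapIso u) h2

end GrothLib.DualFree20

end
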