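import Groth.Agent.Lib.ShriekBridge22.FieldPoints2
import Groth.Agent.Lib.ShriekBridge22.FieldCM
import Groth.Agent.Lib.NodeOpen11.Pointwise
import Groth.Agent.Lib.WeakAss.Functorial
import Groth.Agent.Lib.DualFree20.FlatBC
import Groth.Prelude.Def_RelCanon

/-!
# Serre's conditions for the dualizing sheaf of a Cohen–Macaulay scheme over a field
-/

set_option autoImplicit false
set_option linter.all false
set_option backward.isDefEq.respectTransparency false
set_option maxHeartbeats 1000000

universe u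

open CategoryTheory CategoryTheory.Limits AlgebraicGeometry
attribute [local instance] HasDerivedCategory.standard

noncomputable section

namespace GrothLib.DualFree20

open GrothLib.OX GrothLib.ShriekBridge22 GrothLib.DualRing GrothLib.DualRing.Shriek GrothLib.SkExt GrothLib.DualCx22

/-- The linear equivalence of stalks of an isomorphism of modules. -/
def stalkIso {X : Scheme.{u}} {F G : X.Modules} (e : F ≅ G) (x : X) :
    F.presheaf.stalk x ≃ₗ[X.presheaf.stalk x] G.presheaf.stalk x :=
  LinearEquiv.ofBijective (WeakAss.stalkLinear e.hom x)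
    (ConcreteCategory.bijective_of_isIso
      ((TopCat.Presheaf.stalkFunctor AddCommGrpCat.{u} x).map ((Scheme.Modules.toPresheaf X).map e.hom)))

theorem isFlatOver_of_iso {X S : Scheme.{u}} {f : X ⟶ S} {F G : X.Modules} (e : F ≅ G)
    (h : FlatMod.IsFlatOver f F) : FlatMod.IsFlatOver f G := fun x => by
  letI := FlatMod.moduleStalkOver f F x
  letI := FlatMod.moduleStalkOver f G x
  haveI : Module.Flat (S.presheaf.stalk (f.base x)) (F.presheaf.stalk x) := h x
  let l : G.presheaf.stalk x ≃ₗ[S.presheaf.stalk (f.base x)] F.presheaf.stalk x :=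
    { ((stalkIso e x).symm : G.presheaf.stalk x ≃+ F.presheaf.stalk x) with
      map_smul' := fun r m => map_smul (stalkIso e x).symm ((f.stalkMap x).hom r) m }
  exact Module.Flat.of_linearEquiv l

theorem nontrivial_stalk_of_iso {X : Scheme.{u}} {F G : X.Modules} (e : F ≅ G) (x : X) :
    Nontrivial (F.presheaf.stalk x) ↔ Nontrivial (G.presheaf.stalk x) :=
  (stalkIso e x).toEquiv.nontrivial_congr

/-- At a prime with Cohen–Macaulay localisation the cohomology of a dualizing complex satisfies every `(S_k)`. -/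
theorem skCond_cm {B : Type u} [CommRing B] [IsNoetherianRing B] {ω : Dual.D B} (hω : Dual.IsDualizing B ω)
    (j : ℤ) (k : ℕ) (p : Ideal B) [p.IsPrime] (hcm : LocCoh.IsCohenMacaulayLocalRing (Localization.AtPrime p)) :
    SkCond k (Dual.HD B ω j) p := by
  haveI := hcm
  let Bp := Localization.AtPrime p
  haveI : IsNoetherianRing Bp := IsLocalization.isNoetherianRing p.primeCompl _ inferInstance
  haveI := hω.finite_cohomology j
  obtain ⟨ω', hω', he⟩ := DualRing.exists_localized hω ⟨p, inferInstance⟩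
  let M := LocalizedModule p.primeCompl (Dual.HD B ω j)
  let e : Dual.HD Bp ω' j ≃ₗ[Bp] M :=
    (he j).some.trans (IsLocalizedModule.isBaseChange p.primeCompl Bp
      (LocalizedModule.mkLinearMap p.primeCompl _)).equiv
  haveI := hω'.finite_cohomology j
  show min (k : WithBot ℕ∞) (Module.supportDim Bp M) ≤ ((LocCoh.depth Bp M : ℕ∞) : WithBot ℕ∞)
  rcases subsingleton_or_nontrivial (Dual.HD Bp ω' j) with hs | hn
  · rw [← Module.supportDim_eq_of_equiv e, Module.supportDim_eq_bot_of_subsingleton]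
    simp
  · have h : Module.supportDim Bp (Dual.HD Bp ω' j) = ((LocCoh.depth Bp (Dual.HD Bp ω' j) : ℕ∞) : WithBot ℕ∞) :=
      isCM_module_of_isCM hω' j hn
    rw [Module.supportDim_eq_of_equiv e,
      show LocCoh.depth Bp (Dual.HD Bp ω' j) = LocCoh.depth Bp M from GrothLib.Depth.idealDepth_eq_of_equiv _ e] at h
    exact (min_le_right _ _).trans h.le

variable {X : Scheme.{u}} [∀ R : CommRingCat.{u}, PreservesFiniteLimits (tilde.functor R)] {k : Type u} [Field k]
  (f : X ⟶ Spec (CommRingCat.of k)) [IsProper f] [DCoh.HasRpush f] (hf : DCoh.RpushPreservesQCoh f)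
  {a : DCoh.DQCoh (Spec (CommRingCat.of k)) ⥤ DCoh.DQCoh X} (adj : DCoh.RpushQ f hf ⊣ a)
  (O : DCoh.DQCoh (Spec (CommRingCat.of k)))
  (hO : Nonempty (O.obj ≅ DCoh.inD (Spec (CommRingCat.of k)) (Coh.structureModule (Spec (CommRingCat.of k)))))

include adj hO in
theorem skAt_adjoint_of_cm (hcm : ∀ z : X, LocCoh.IsCohenMacaulayLocalRing (X.presheaf.stalk z)) (j : ℤ)
    {ω₀ : X.Modules} (e₀ : DCoh.HD (a.obj O).obj j ≅ ω₀) (n : ℕ) (x : X) : RelCanon.SkAt n ω₀ x := by
  obtain ⟨U, hU', hx, -⟩ := exists_isAffineOpen_mem_and_subset (x := x) (U := ⊤) trivial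
  have hU : IsAffineOpen U := hU'
  obtain ⟨_, m, ψ, hψ, _, ⟨e⟩⟩ := exists_field_chart f hf adj O hO U hU
  let ω := GrothLib.DualRing.Shriek.GP ψ (Dual.inD k k)
  have hω : Dual.IsDualizing Γ(X, U) ω :=
    isDualizing_GP ψ hψ (isDualizing_field k)
  have hcmU : ∀ q : PrimeSpectrum Γ(X, U), LocCoh.IsCohenMacaulayLocalRing (Localization.AtPrime q.asIdeal) :=
    fun q => by
    have hy : hU.fromSpec q ∈ U := by
      have : hU.fromSpec q ∈ Set.range hU.fromSpec := ⟨q, rfl⟩
      rwa [hU.range_fromSpec] at this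
    have hq' : WeakAss.primeAt (hU.fromSpec q) hy = q.asIdeal := by
      have h1 : hU.primeIdealOf ⟨hU.fromSpec q, hy⟩ = q :=
        hU.fromSpec.isOpenEmbedding.injective (hU.fromSpec_primeIdealOf ⟨hU.fromSpec q, hy⟩)
      exact (congrArg PrimeSpectrum.asIdeal (QCoh.primeAt_eq_primeIdealOf hU hy)).trans (congrArg _ h1)
    letI := X.presheaf.algebra_section_stalk ⟨hU.fromSpec q, hy⟩
    haveI : IsLocalization.AtPrime (X.presheaf.stalk (hU.fromSpec q)) q.asIdeal := by
      have := FlatFP.isLocalization_stalk_primeAt hU hy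
      simp only [hq'] at this
      exact this
    haveI := hcm (hU.fromSpec q)
    exact GrothLib.HB26.isCohenMacaulayLocalRing_of_ringEquiv
      (IsLocalization.algEquiv q.asIdeal.primeCompl (X.presheaf.stalk (hU.fromSpec q))
        (Localization.AtPrime q.asIdeal)).toRingEquiv
  letI := X.presheaf.algebra_section_stalk ⟨x, hx⟩
  haveI := FlatFP.isLocalization_stalk_primeAt hU hx
  letI : Module Γ(X, U) ((DCoh.HD (a.obj O).obj j).presheaf.stalk x) :=
    Module.compHom _ (X.presheaf.germ U x hx).hom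
  haveI : IsScalarTower Γ(X, U) (X.presheaf.stalk x) ((DCoh.HD (a.obj O).obj j).presheaf.stalk x) :=
    IsScalarTower.of_algebraMap_smul fun _ _ => rfl
  letI : Module Γ(X, U) (ω₀.presheaf.stalk x) := Module.compHom _ (X.presheaf.germ U x hx).hom
  haveI : IsScalarTower Γ(X, U) (X.presheaf.stalk x) (ω₀.presheaf.stalk x) :=
    IsScalarTower.of_algebraMap_smul fun _ _ => rfl
  obtain ⟨g, hg⟩ := exists_localized hU ω e j ((a.obj O).property _) x hx
  haveI := hg
  haveI := hω.finite_cohomology j
  let E := (stalkIso e₀ x).restrictScalars Γ(X, U)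
  haveI : IsLocalizedModule (WeakAss.primeAt x hx).primeCompl (E.toLinearMap ∘ₗ g) :=
    IsLocalizedModule.of_linearEquiv _ g E
  intro Q _
  exact (DualRing.skCond_iff_of_isLocalizedModule (WeakAss.primeAt x hx).primeCompl (E.toLinearMap ∘ₗ g) n Q).2
    (skCond_cm hω j n (Q.comap (algebraMap Γ(X, U) (X.presheaf.stalk x)))
      (hcmU ⟨Q.comap (algebraMap Γ(X, U) (X.presheaf.stalk x)), inferInstance⟩))

end GrothLib.DualFree20

end
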