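import Groth.Agent.Lib.ShriekBridge22.CMFibre
import Groth.Agent.Lib.ShriekBridge22.Gorenstein
import Groth.Agent.Lib.ThickDesc6.Top
import Groth.Agent.Lib.QCoh.Abelian
import Groth.Agent.Lib.CodimExt27.Basic
import Groth.Agent.Lib.DualFree20.CMStalk

/-!
# The relative dualizing sheaf of a proper Cohen–Macaulay morphism
-/

set_option autoImplicit false
set_option linter.all false
set_option backward.isDefEq.respectTransparency false
set_option maxHeartbeats 1600000

universe u

open CategoryTheory CategoryTheory.Limits AlgebraicGeometry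
attribute [local instance] HasDerivedCategory.standard

noncomputable section

namespace GrothLib.DualFree20

open GrothLib.OX GrothLib.ShriekBridge22

variable {A : Type u} [CommRing A] [IsNoetherianRing A] {Y : Scheme.{u}}
  (f : Y ⟶ Spec (CommRingCat.of A)) [IsProper f] [Flat f] [DCoh.HasRpush f]
  (hf : DCoh.RpushPreservesQCoh f) {a : DCoh.DQCoh (Spec (CommRingCat.of A)) ⥤ DCoh.DQCoh Y}
  (adj : DCoh.RpushQ f hf ⊣ a) (W : DCoh.DQCoh (Spec (CommRingCat.of A)))
  (hW : Nonempty (W.obj ≅ DCoh.inD _ (Coh.structureModule (Spec (CommRingCat.of A)))))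
  (hCM : ∀ y : Y, MoreMor.IsCMAt f y) (d : ℕ) (hdim : ∀ y : Y, FlatMor.fibreDimAt f y = (d : WithBot ℕ∞))

include adj hW hCM hdim in
/-- The right adjoint at the structure sheaf is one flat module, supported everywhere, in degree `-d`. -/
theorem adjoint_oneDeg :
    (∀ i : ℤ, i ≠ -(d : ℤ) → IsZero (DCoh.HD (a.obj W).obj i)) ∧
      FlatMod.IsFlatOver f (DCoh.HD (a.obj W).obj (-(d : ℤ))) ∧
      ∀ y : Y, Nontrivial ((DCoh.HD (a.obj W).obj (-(d : ℤ))).presheaf.stalk y) := by
  let c : DEt.Compactification f := ⟨Y, 𝟙 Y, f, inferInstance, inferInstance, Category.id_comp f⟩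
  haveI : DCoh.HasRpush c.fbar := ‹DCoh.HasRpush f›
  haveI : PreservesFiniteLimits (Scheme.Modules.restrictFunctor c.j) := inferInstance
  let h : ∀ i, DCoh.HD ((Dual3.shriekC c a).obj W) i ≅ DCoh.HD (a.obj W).obj i := fun i =>
    (DerivedCategory.homologyFunctor _ i).mapIso ((RightAdj22.resDIdIso Y).app (a.obj W).obj)
  obtain ⟨hz, hfl⟩ := oneDeg_flat_of_cm f c hf adj W hW hCM d hdim
  refine ⟨fun i hi => (hz i hi).of_iso (h i).symm, isFlatOver_of_iso (h _) hfl, fun y => ?_⟩
  exact (nontrivial_stalk_of_iso (h _) y).1 ((stalk_of_isCMAt f c hf adj W hW (hCM y) (hdim y) _).2 rfl)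

include adj hW hCM hdim in
/-- The Gorenstein points are those near which the dualizing sheaf is invertible. -/
theorem gor_iff_invertibleAt {ω : Y.Modules} (e₀ : DCoh.HD (a.obj W).obj (-(d : ℤ)) ≅ ω) (y : Y) :
    Dual3.IsGorensteinAt f y ↔ RelCanon.InvertibleAt ω y := by
  obtain ⟨hz, -, hne⟩ := adjoint_oneDeg f hf adj W hW hCM d hdim
  let c : DEt.Compactification f := ⟨Y, 𝟙 Y, f, inferInstance, inferInstance, Category.id_comp f⟩
  haveI : DCoh.HasRpush c.fbar := ‹DCoh.HasRpush f›
  haveI : PreservesFiniteLimits (Scheme.Modules.restrictFunctor c.j) := inferInstance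
  let K := (a.obj W).obj
  let η : (Dual3.shriekC c a).obj W ≅ K := (RightAdj22.resDIdIso Y).app K
  rw [isGorensteinAt_iff_exists_chart f c hf adj W hW y]
  constructor
  · rintro ⟨V, g, _, m, ⟨v, hv⟩, ⟨e⟩⟩
    let S := DerivedCategory.singleFunctor V.Modules
    let e₁ : (resD g).obj K ≅ (S (-m)).obj (Coh.structureModule V) :=
      (resD g).mapIso η.symm ≪≫ e ≪≫
        ((DerivedCategory.singleFunctors V.Modules).shiftIso m (-m) 0 (by omega)).app (Coh.structureModule V)
    obtain rfl : m = (d : ℤ) := by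
      by_contra hne'
      have h0 : IsZero ((Scheme.Modules.restrictFunctor g).obj (DCoh.HD K (-(d : ℤ)))) := by
        refine IsZero.of_iso ?_ ((HDResIso g K _).symm ≪≫ (DerivedCategory.homologyFunctor _ _).mapIso e₁)
        rcases lt_or_gt_of_ne (show -(d : ℤ) ≠ -m by omega) with hlt | hgt
        · exact (DerivedCategory.isGE_iff _ (-m)).1 inferInstance _ hlt
        · exact (DerivedCategory.isLE_iff _ (-m)).1 inferInstance _ hgt
      have h1 := (OX.isZero_iff _).1 h0 v
      have h2 : Nontrivial (((Scheme.Modules.restrictFunctor g).obj (DCoh.HD K (-(d : ℤ)))).presheaf.stalk v) :=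
        (((Scheme.Modules.restrictStalkNatIso g v).app _).addCommGroupIsoToAddEquiv.toEquiv.nontrivial_congr).2
          (hne (g v))
      exact not_nontrivial_iff_subsingleton.2 (ModuleCat.subsingleton_of_isZero h1) h2
    let e₂ : (Scheme.Modules.restrictFunctor g).obj ω ≅ Coh.structureModule V :=
      (Scheme.Modules.restrictFunctor g).mapIso e₀.symm ≪≫ (HDResIso g K _).symm ≪≫
        (DerivedCategory.homologyFunctor _ _).mapIso e₁ ≪≫
        (DerivedCategory.singleFunctorCompHomologyFunctorIso V.Modules _).app _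
    refine ⟨g.opensRange, ⟨v, hv⟩, ⟨?_⟩⟩
    exact (Scheme.Modules.restrictFunctorCongr g.isoOpensRange_inv_comp.symm).app ω ≪≫
      (Scheme.Modules.restrictFunctorComp g.isoOpensRange.inv g).app ω ≪≫
      (Scheme.Modules.restrictFunctor g.isoOpensRange.inv).mapIso e₂ ≪≫ DualRing.restrictStructureIso _
  · rintro ⟨U, hyU, ⟨e⟩⟩
    haveI : K.IsGE (-(d : ℤ)) := (DerivedCategory.isGE_iff _ _).2 fun i hi => hz i (ne_of_lt hi)
    haveI : K.IsLE (-(d : ℤ)) := (DerivedCategory.isLE_iff _ _).2 fun i hi => hz i (ne_of_gt hi)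
    obtain ⟨H, ⟨eH⟩⟩ := DerivedCategory.exists_iso_singleFunctor_obj_of_isGE_of_isLE K (-(d : ℤ))
    let eω : ω ≅ H := e₀.symm ≪≫ (DerivedCategory.homologyFunctor _ _).mapIso eH ≪≫
      (DerivedCategory.singleFunctorCompHomologyFunctorIso Y.Modules _).app H
    refine ⟨_, U.ι, inferInstance, (d : ℤ), ⟨⟨y, hyU⟩, rfl⟩, ⟨?_⟩⟩
    exact (resD U.ι).mapIso (η ≪≫ eH) ≪≫
      ((Scheme.Modules.restrictFunctor U.ι).mapDerivedCategorySingleFunctor (-(d : ℤ))).app H ≪≫
      (DerivedCategory.singleFunctor (U : Scheme.{u}).Modules (-(d : ℤ))).mapIso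
        ((Scheme.Modules.restrictFunctor U.ι).mapIso eω.symm ≪≫ e) ≪≫
      (((DerivedCategory.singleFunctors (U : Scheme.{u}).Modules).shiftIso (d : ℤ) (-(d : ℤ)) 0 (by omega)).app
        (Coh.structureModule (U : Scheme.{u}))).symm

end GrothLib.DualFree20

end
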