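import Groth.Agent.Lib.CurveMult.DualDeg
import Groth.Agent.Lib.CurveSerre11.Rank
import Groth.Agent.Lib.LM28.HomIso
import Groth.Agent.Lib.CurveRR.Degree

/-!
# A module representing the dual of `H¹` numerically is invertible

If `W` is coherent on a regular proper curve and `h⁰(ℋom(F, W)) = h¹(F)` for every coherent `F`, then
`h⁰(ℋom(W, W)) = h⁰(O)`.
-/

set_option autoImplicit false
set_option linter.all false
set_option backward.isDefEq.respectTransparency false
set_option maxHeartbeats 1000000

universe u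

open CategoryTheory CategoryTheory.Limits AlgebraicGeometry Opposite TopologicalSpace
open GrothLib.CurveRR (RegCurve oD)
open GrothLib.LocFreeHom GrothLib.LocFreeDual20 GrothLib.OX

noncomputable section

namespace GrothLib.DualFree20

attribute [local instance] LocFreeHom.hasSheafHom

variable (k : Type u) [Field k] {X : Scheme.{u}} [AlgebraicGeometry.IsIntegral X] [RegCurve X]
  [X.Over (Spec (CommRingCat.of k))] [IsProper (X ↘ Spec (CommRingCat.of k))]
  {W : X.Modules} (hW : Coh.IsCoh W)
  (hdual : ∀ F : X.Modules, Coh.IsCoh F →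
    Module.finrank k (Coh.HH X (RefHull.homSh F W) 0) = Module.finrank k (Coh.HH X F 1))

include hW hdual

theorem isTorsionFree : TorSh.IsTorsionFree W := by
  haveI := Euler.isNoetherian_of_proper (X := X) k
  obtain ⟨T, Q, ι, π, w, hS, hT, hQ, hη, hQtf⟩ := Euler.exists_torsion_sequence hW
  obtain ⟨hfin, hcl⟩ := Euler.finite_support_of_notMem_genericPoint k RegCurve.dim.le hT hη
  haveI := hT.1
  haveI := Euler.subsingleton_HH_of_finite_support T hfin hcl 1 le_rfl
  have h0 := hdual T hT
  rw [Module.finrank_zero_of_subsingleton (M := Coh.HH X T 1)] at h0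
  haveI := Euler.finiteDimensional_HH k (HomSh.isCoh_homSh (HomSh.hasRel_of_isCoh hT) hW) 0
  haveI : Subsingleton (Coh.HH X (RefHull.homSh T W) 0) := Module.finrank_zero_iff.1 h0
  haveI : Subsingleton Γ(RefHull.homSh T W, ⊤) :=
    (ProjCoh.H0top (RefHull.homSh T W)).symm.toEquiv.subsingleton
  haveI hι : Mono ι := hS.mono_f
  have hs : ∀ x : X, Subsingleton (T.presheaf.stalk x) := fun x => by
    refine subsingleton_of_forall_eq 0 fun t => QCoh.stalkLin_injective ι x ?_
    rw [map_zero]
    obtain ⟨V, hV, m, rfl⟩ := TopCat.Presheaf.exists_germ_eq T.presheaf t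
    have h1 : RefHull.ofHom ι ⊤ = (0 : Γ(RefHull.homSh T W, ⊤)) := Subsingleton.elim _ _
    have h2 := LinearMap.congr_fun (congrArg (fun g : Γ(RefHull.homSh T W, ⊤) => g.1 ⟨x, trivial⟩) h1)
      (T.presheaf.germ V x hV m)
    rw [RefHull.ofHom_apply, RefHull.stalkMapₗ_germ] at h2
    rw [QCoh.stalkLin_germ]
    exact h2
  have hι0 : ι = 0 := Scheme.Modules.hom_ext _ _ fun V => AddCommGrpCat.ext fun m => by
    have : m = 0 := QCoh.section_eq_zero_of_germ T m fun x _ => @Subsingleton.elim _ (hs x) _ _
    rw [this, map_zero]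
    rfl
  haveI : Mono π := hS.exact.mono_g hι0
  exact CurveSerre11.isTorsionFree_of_mono π hQtf

theorem isFinLocFreeOfRank : FlatMod.IsFinLocFreeOfRank (Euler.grank W) W :=
  haveI := Euler.isNoetherian_of_proper (X := X) k
  Euler.isFinLocFreeOfRank_of_torsionFree CurveRR.pid_stalk hW (isTorsionFree k hW hdual)

theorem grank_eq_one : Euler.grank W = 1 := by
  haveI := Euler.isNoetherian_of_proper (X := X) k
  obtain ⟨P⟩ := GrothLib.FunFld.IsFG.exists_place (CurveRR.isFG k (X := X))
  have hP : 0 < P.deg := GrothLib.FunFld.IsFG.deg_pos (CurveRR.isFG k (X := X)) P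
  have hr := isFinLocFreeOfRank k hW hdual
  set r := Euler.grank W
  let χ := Curv2.euler k X (Coh.structureModule X)
  -- test with line bundles of negative degree
  have key : ∀ n : ℕ, 0 < n → ((r : ℤ) * (n * P.deg) + Curv2.euler k X W ≤ n * P.deg - χ) ∧
      (r = 0 → (n : ℤ) * P.deg - χ ≤ 0) := by
    intro n hn
    let D : _root_.FunFld.Divisor k X.functionField := Finsupp.single P (-(n : ℤ))
    let E := oD k D
    have hD : D.deg < 0 := by
      have : (0 : ℤ) < (n : ℤ) * (P.deg : ℤ) := by positivity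
      simp only [D, GrothLib.FunFld.deg_single]
      linarith
    have hE : PicF.IsInvertible E := CurveRR.isInvertible_oD k D
    have hEc : Coh.IsCoh E := CurveRR.isCoh_oD k D
    haveI := hEc.1
    haveI := hW.1
    have hE0 : Module.finrank k (Coh.HH X E 0) = 0 := by
      rw [CurveRR.finrank_H0_oD k D]
      exact GrothLib.FunFld.IsFG.ell_eq_zero_of_deg_neg (CurveRR.isFG k (X := X)) hD
    have hdegE : Curv2.deg k X E 1 = -((n : ℤ) * P.deg) := by
      rw [CurveRR.deg_oD D]
      simp [D, GrothLib.FunFld.deg_single]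
    obtain ⟨hd1, hd2⟩ := CurveMult.dual_line k hE
    have hdinv : PicF.IsInvertible (LocFreeDual20.dual E) := CurveMult.isInvertible_of_rank_one hd1
    -- `ℋom(E, W) = W ⊗ E^∨`
    have hEl := FinCov.isFinLocFree_of_rank (Euler.isFinLocFreeOfRank_one_of_invertible hE)
    haveI := LocFreeDual20.isIso_θ hEl W
    obtain ⟨e₁⟩ := LM28.nonempty_homSh_iso_coh E W hEc hW
    let e : RefHull.homSh E W ≅ (Euler.tF (LocFreeDual20.dual E)).obj W :=
      e₁ ≪≫ (asIso (LocFreeDual20.θ E W)).symm
    have hHc : Coh.IsCoh (RefHull.homSh E W) := HomSh.isCoh_homSh (HomSh.hasRel_of_isCoh hEc) hW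
    haveI := hHc.1
    have h1 := CurveMult.deg_tF k hr hdinv
    rw [Euler.deg_eq_degree k hd1, hd2, ← Euler.deg_eq_degree k (Euler.isFinLocFreeOfRank_one_of_invertible hE),
      hdegE] at h1
    simp only [Curv2.deg] at h1
    have h2 : Curv2.euler k X (RefHull.homSh E W) = (r : ℤ) * (n * P.deg) + Curv2.euler k X W := by
      rw [Euler.euler_of_iso k e]
      linear_combination h1
    rw [Euler.euler_eq_sub k RegCurve.dim.le, hdual E hEc] at h2
    have h3 : Curv2.euler k X E = -((n : ℤ) * P.deg) + χ := by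
      have := hdegE
      simp only [Curv2.deg] at this
      push_cast at this
      linear_combination this
    rw [Euler.euler_eq_sub k RegCurve.dim.le, hE0] at h3
    refine ⟨by push_cast at h3; omega, fun h0 => ?_⟩
    have hz : IsZero (RefHull.homSh E W) := by
      refine ((Euler.tF (LocFreeDual20.dual E)).map_isZero (Euler.isZero_of_rank_zero ?_)).of_iso e
      rw [← h0]; exact hr
    haveI := Cohom.subsingleton_HH_of_isZero hz 0
    have h4 := hdual E hEc
    rw [Module.finrank_zero_of_subsingleton] at h4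
    push_cast at h3
    omega
  rcases lt_trichotomy r 1 with hlt | heq | hgt
  · exfalso
    have := (key (χ.natAbs + 1) (Nat.succ_pos _)).2 (by omega)
    have h5 : ((χ.natAbs + 1 : ℕ) : ℤ) ≤ ((χ.natAbs + 1 : ℕ) : ℤ) * (P.deg : ℤ) :=
      le_mul_of_one_le_right (by positivity) (by exact_mod_cast hP)
    push_cast at this h5
    simp only [χ] at this h5
    have h7 := le_abs_self (Curv2.euler k X (Coh.structureModule X))
    omega
  · exact heq
  · exfalso
    let m := (Curv2.euler k X W + χ).natAbs + 1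
    have := (key m (Nat.succ_pos _)).1
    have h5 : ((m : ℕ) : ℤ) ≤ (m : ℤ) * (P.deg : ℤ) :=
      le_mul_of_one_le_right (by positivity) (by exact_mod_cast hP)
    have h6 : (2 : ℤ) * ((m : ℤ) * (P.deg : ℤ)) ≤ (r : ℤ) * ((m : ℤ) * (P.deg : ℤ)) := by
      refine mul_le_mul_of_nonneg_right (by exact_mod_cast hgt) (by positivity)
    simp only [m] at this h5 h6
    push_cast at this h5 h6
    simp only [χ] at this h5 h6
    have h7 := neg_abs_le (Curv2.euler k X W + Curv2.euler k X (Coh.structureModule X))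
    omega

/-- `h⁰(ℋom(W, W)) = h⁰(O)`. -/
theorem finrank_end_eq : Module.finrank k (Coh.HH X (RefHull.homSh W W) 0) =
    Module.finrank k (Coh.HH X (Coh.structureModule X) 0) := by
  haveI := Euler.isNoetherian_of_proper (X := X) k
  have h := isFinLocFreeOfRank k hW hdual
  rw [grank_eq_one k hW hdual] at h
  have hinv := CurveMult.isInvertible_of_rank_one h
  obtain ⟨e₁⟩ := LM28.nonempty_homSh_iso_coh W W hW hW
  obtain ⟨e₂⟩ := LocFreeHom.nonempty_iHom_self_iso (FinCov.isFinLocFree_of_rank h) fun x =>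
    (hinv x).imp fun U hU => ⟨hU.1, hU.2.map fun e => ((Scheme.Modules.restrictFunctorIsoPullback U.ι).app W).symm ≪≫ e⟩
  exact (Euler.hhEquiv (A := k) (e₁ ≪≫ e₂.symm) 0).finrank_eq

end GrothLib.DualFree20

end
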