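import Mathlib

/-!
# When every endomorphism of a finite module is a scalar
-/

set_option autoImplicit false
set_option linter.all false
set_option backward.isDefEq.respectTransparency false

universe u

open IsLocalRing

namespace GrothLib.DualFree20

/-- Powers of a regular pair form a regular pair. -/
theorem pair_pow {R : Type u} [CommRing R] {x y : R} (hx : IsSMulRegular R x)
    (hy : ∀ a : R, y * a ∈ Ideal.span {x} → a ∈ Ideal.span {x}) (m n : ℕ) :
    IsSMulRegular R (x ^ m) ∧ ∀ a : R, y ^ n * a ∈ Ideal.span {x ^ m} → a ∈ Ideal.span {x ^ m} := by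
  have h1 : ∀ (m : ℕ) (a : R), y * a ∈ Ideal.span {x ^ m} → a ∈ Ideal.span {x ^ m} := by
    intro m
    induction m with
    | zero => intro a _; simp
    | succ m ih =>
      intro a ha
      obtain ⟨b, hb⟩ := Ideal.mem_span_singleton'.1 ha
      obtain ⟨a', rfl⟩ := Ideal.mem_span_singleton'.1
        (hy a (Ideal.mem_span_singleton'.2 ⟨b * x ^ m, by rw [← hb, pow_succ, mul_assoc]⟩))
      have h2 : y * a' = b * x ^ m := hx (by
        show x • (y * a') = x • (b * x ^ m)
        simp only [smul_eq_mul]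
        calc x * (y * a') = y * (a' * x) := by ring
          _ = b * x ^ (m + 1) := hb.symm
          _ = x * (b * x ^ m) := by ring)
      obtain ⟨c, rfl⟩ := Ideal.mem_span_singleton'.1 (ih a' (Ideal.mem_span_singleton'.2 ⟨b, h2.symm⟩))
      exact Ideal.mem_span_singleton'.2 ⟨c, by ring⟩
  refine ⟨hx.pow m, ?_⟩
  induction n with
  | zero => intro a ha; simpa using ha
  | succ n ih =>
    intro a ha
    rw [pow_succ, mul_assoc] at ha
    exact h1 m a (ih _ ha)

/-- An element killed by a power of the maximal ideal is zero if none is killed by it. -/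
theorem eq_zero_of_pow_smul {R : Type u} [CommRing R] [IsLocalRing R] {M : Type u} [AddCommGroup M] [Module R M]
    (hM : ∀ v : M, (∀ r ∈ maximalIdeal R, r • v = 0) → v = 0) :
    ∀ (N : ℕ) (v : M), (∀ z ∈ maximalIdeal R ^ N, z • v = 0) → v = 0 := by
  intro N
  induction N with
  | zero => intro v h; simpa using h 1 (by simp)
  | succ N ih =>
    intro v h
    refine ih v fun z hz => hM _ fun r hr => ?_
    rw [smul_smul]
    exact h _ (by rw [pow_succ, mul_comm r z]; exact Ideal.mul_mem_mul hz hr)

/-- Over a local ring of depth two, scalars are all the endomorphisms of a module without socle as soon as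
this holds up to a power of the maximal ideal. -/
theorem bijective_lsmul_of_punctured {R : Type u} [CommRing R] [IsLocalRing R] [IsNoetherianRing R] {M : Type u}
    [AddCommGroup M] [Module R M] {x y : R} (hxm : x ∈ maximalIdeal R) (hym : y ∈ maximalIdeal R)
    (hx : IsSMulRegular R x) (hy : ∀ a : R, y * a ∈ Ideal.span {x} → a ∈ Ideal.span {x})
    (hM : ∀ v : M, (∀ r ∈ maximalIdeal R, r • v = 0) → v = 0) (J : Ideal R)
    (hJ : maximalIdeal R ≤ J.radical) (hJk : ∀ t ∈ J, ∀ a : R, LinearMap.lsmul R M a = 0 → t * a = 0)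
    (hJc : ∀ t ∈ J, ∀ φ : M →ₗ[R] M, ∃ a : R, t • φ = LinearMap.lsmul R M a) :
    Function.Bijective (LinearMap.lsmul R M) := by
  obtain ⟨m, hm⟩ := hJ hxm
  obtain ⟨n, hn⟩ := hJ hym
  obtain ⟨hxr, hyr⟩ := pair_pow hx hy m n
  have hinj : Function.Injective (LinearMap.lsmul R M) := by
    refine (injective_iff_map_eq_zero _).2 fun a ha => hxr ?_
    show x ^ m • a = x ^ m • 0
    rw [smul_zero, smul_eq_mul]
    exact hJk _ hm a ha
  refine ⟨hinj, fun φ => ?_⟩
  obtain ⟨a, ha⟩ := hJc _ hm φ
  obtain ⟨b, hb⟩ := hJc _ hn φ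
  have hab : y ^ n * a = x ^ m * b := hinj (by
    rw [← smul_eq_mul, ← smul_eq_mul, map_smul, map_smul, ← ha, ← hb, smul_smul, smul_smul, mul_comm])
  obtain ⟨c, hc⟩ := Ideal.mem_span_singleton'.1 (hyr a (Ideal.mem_span_singleton'.2 ⟨b, by rw [hab, mul_comm]⟩))
  refine ⟨c, ?_⟩
  have key : ∀ z ∈ J, z • (φ - LinearMap.lsmul R M c) = 0 := fun z hz => by
    obtain ⟨e, he⟩ := hJc z hz φ
    have h1 : x ^ m * e = x ^ m * (z * c) := hinj (by
      rw [← smul_eq_mul, map_smul, ← he, smul_smul, mul_comm, ← smul_smul, ha, ← map_smul, smul_eq_mul]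
      congr 1
      rw [← hc]; ring)
    have h2 : e = z * c := hxr h1
    rw [smul_sub, he, h2, ← smul_eq_mul, map_smul, sub_self]
  obtain ⟨N, hN⟩ := (maximalIdeal R).exists_pow_le_of_le_radical_of_fg hJ (IsNoetherian.noetherian _)
  have h0 : φ - LinearMap.lsmul R M c = 0 := LinearMap.ext fun v =>
    eq_zero_of_pow_smul hM N _ fun z hz => by
      rw [← LinearMap.smul_apply, key z (hN hz), LinearMap.zero_apply]
  exact (sub_eq_zero.1 h0).symm

/-- Scalars are all the endomorphisms after localisation. -/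
theorem bijective_lsmul_localized {B : Type u} [CommRing B] [IsNoetherianRing B] {N : Type u} [AddCommGroup N]
    [Module B N] [Module.Finite B N] (S : Submonoid B) {R : Type u} [CommRing R] [Algebra B R] [IsLocalization S R]
    {M : Type u} [AddCommGroup M] [Module R M] [Module B M] [IsScalarTower B R M] (g : N →ₗ[B] M)
    [IsLocalizedModule S g] (h : Function.Bijective (LinearMap.lsmul B N)) :
    Function.Bijective (LinearMap.lsmul R M) := by
  haveI : Module.FinitePresentation B N := Module.finitePresentation_of_finite B N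
  haveI : Module.Finite R M := Module.Finite.of_isLocalizedModule S g
  have hext : ∀ (ψ : M →ₗ[R] M) (a : R), (∀ z, ψ (g z) = a • g z) → ψ = LinearMap.lsmul R M a := fun ψ a hψ => by
    refine LinearMap.ext fun v => ?_
    obtain ⟨⟨z, s⟩, hz⟩ := IsLocalizedModule.surj S g v
    have hu : IsUnit (algebraMap B R s) := IsLocalization.map_units R s
    refine hu.smul_left_cancel.1 ?_
    show algebraMap B R s • ψ v = algebraMap B R s • (a • v)
    rw [← map_smul, smul_comm, algebraMap_smul]
    show ψ (s • v) = a • s • v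
    rw [hz]; exact hψ z
  refine ⟨(injective_iff_map_eq_zero _).2 fun a ha => ?_, fun φ => ?_⟩
  · obtain ⟨⟨b, s⟩, hb⟩ := IsLocalization.surj S a
    obtain ⟨gens, hgens⟩ := (Module.Finite.fg_top (R := B) (M := N))
    have hz : ∀ z : N, ∃ t : S, (t : B) • b • z = 0 := fun z => by
      have h1 : g (b • z) = 0 := by
        rw [map_smul, ← algebraMap_smul R b, ← hb, mul_comm, mul_smul,
          show a • g z = 0 from LinearMap.congr_fun ha (g z), smul_zero]
      obtain ⟨t, ht⟩ := (IsLocalizedModule.eq_zero_iff S g).1 h1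
      exact ⟨t, ht⟩
    choose t ht using hz
    let t₀ : S := ∏ z ∈ gens, t z
    have h2 : LinearMap.lsmul B N ((t₀ : B) * b) = 0 := by
      refine LinearMap.ext fun z => ?_
      have : z ∈ Submodule.span B (gens : Set N) := by rw [hgens]; trivial
      induction this using Submodule.span_induction with
      | mem z hz =>
        show ((t₀ : B) * b) • z = 0
        obtain ⟨d, hd⟩ : ((t z : S) : B) ∣ (t₀ : B) := by
          rw [Submonoid.coe_finsetProd]
          exact Finset.dvd_prod_of_mem _ hz
        rw [hd, mul_comm ((t z : S) : B) d, mul_assoc, mul_smul, mul_smul, ht z, smul_zero]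
      | zero => simp
      | add _ _ _ _ h1 h2 => rw [map_add, h1, h2]; simp
      | smul r _ _ h1 => rw [map_smul, h1]; simp
    have h3 : (t₀ : B) * b = 0 := h.1 (h2.trans (map_zero _).symm)
    have h4 : algebraMap B R b = 0 :=
      (IsLocalization.map_eq_zero_iff S R b).2 ⟨t₀, h3⟩
    rw [h4] at hb
    exact (IsLocalization.map_units R s).mul_left_eq_zero.1 hb
  · obtain ⟨⟨e, s⟩, he⟩ := IsLocalizedModule.surj S (IsLocalizedModule.map S g g) (φ.restrictScalars B)
    obtain ⟨b, rfl⟩ := h.2 e
    refine ⟨IsLocalization.mk' R b s, (hext φ _ fun z => ?_).symm⟩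
    have h1 := LinearMap.congr_fun he (g z)
    rw [IsLocalizedModule.map_apply, LinearMap.lsmul_apply, map_smul] at h1
    have hu : IsUnit (algebraMap B R s) := IsLocalization.map_units R s
    refine hu.smul_left_cancel.1 ?_
    rw [smul_smul (algebraMap B R s), mul_comm (algebraMap B R s), IsLocalization.mk'_spec, algebraMap_smul,
      algebraMap_smul]
    exact h1

/-- **Scalars are all the endomorphisms**, given this at each prime or depth two there and no socle. -/
theorem bijective_lsmul_of_primes {B : Type u} [CommRing B] [IsNoetherianRing B] {N : Type u} [AddCommGroup N]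
    [Module B N] [Module.Finite B N]
    (H : ∀ (q : Ideal B) (_ : q.IsPrime), ∃ (R : Type u) (_ : CommRing R) (_ : Algebra B R) (_ : IsLocalization q.primeCompl R)
      (M : Type u) (_ : AddCommGroup M) (_ : Module R M) (_ : Module B M) (_ : IsScalarTower B R M)
      (g : N →ₗ[B] M) (_ : IsLocalizedModule q.primeCompl g),
      Function.Bijective (LinearMap.lsmul R M) ∨
        ((∃ x y : R, ¬ IsUnit x ∧ ¬ IsUnit y ∧ IsSMulRegular R x ∧
            ∀ a : R, y * a ∈ Ideal.span {x} → a ∈ Ideal.span {x}) ∧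
          ∀ v : M, (∀ r : R, ¬ IsUnit r → r • v = 0) → v = 0)) :
    Function.Bijective (LinearMap.lsmul B N) := by
  haveI : Module.FinitePresentation B N := Module.finitePresentation_of_finite B N
  let σ := LinearMap.lsmul B N
  let J : Ideal B := Module.annihilator B (LinearMap.ker σ) ⊓ (LinearMap.range σ).colon ⊤
  have hJk : ∀ t ∈ J, ∀ b, σ b = 0 → t * b = 0 := fun t ht b hb =>
    congrArg Subtype.val (Module.mem_annihilator.1 ht.1 (⟨b, hb⟩ : LinearMap.ker σ))
  have hJc : ∀ t ∈ J, ∀ e : N →ₗ[B] N, ∃ b, σ b = t • e := fun t ht e => Submodule.mem_colon.1 ht.2 e trivial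
  by_cases hJ : J = ⊤
  · have h1 : (1 : B) ∈ J := hJ ▸ Submodule.mem_top
    refine ⟨(injective_iff_map_eq_zero _).2 fun b hb => by simpa using hJk 1 h1 b hb, fun e => ?_⟩
    obtain ⟨b, hb⟩ := hJc 1 h1 e
    exact ⟨b, by rw [hb, one_smul]⟩
  exfalso
  obtain ⟨p, hp, hJp⟩ := Ideal.exists_le_maximal J hJ
  haveI := hp.isPrime
  obtain ⟨q, hq, -⟩ := Ideal.exists_minimalPrimes_le hJp
  haveI : q.IsPrime := hq.1.1
  obtain ⟨R, _, _, _, M, _, _, _, _, g, _, hcase⟩ := H q hq.1.1
  haveI : IsLocalRing R := IsLocalization.AtPrime.isLocalRing R q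
  haveI : IsNoetherianRing R := IsLocalization.isNoetherianRing q.primeCompl R inferInstance
  haveI : Module.Finite R M := Module.Finite.of_isLocalizedModule q.primeCompl g
  let G := IsLocalizedModule.map q.primeCompl g g
  have hG : ∀ b : B, G (σ b) = (LinearMap.lsmul R M (algebraMap B R b)).restrictScalars B := fun b => by
    refine IsLocalizedModule.linearMap_ext q.primeCompl g g (LinearMap.ext fun z => ?_)
    show G (σ b) (g z) = algebraMap B R b • g z
    rw [IsLocalizedModule.map_apply, algebraMap_smul]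
    exact map_smul g b z
  have hbij : Function.Bijective (LinearMap.lsmul R M) := hcase.elim id fun ⟨⟨x, y, hx, hy, hxr, hyr⟩, hsoc⟩ => by
    refine bijective_lsmul_of_punctured ((mem_maximalIdeal _).2 hx) ((mem_maximalIdeal _).2 hy) hxr hyr
      (fun v hv => hsoc v fun r hr => hv r ((mem_maximalIdeal _).2 hr)) (J.map (algebraMap B R)) ?_ ?_ ?_
    · rw [IsLocalization.AtPrime.radical_map_of_mem_minimalPrimes (A := R) q J hq,
        IsLocalization.AtPrime.map_eq_maximalIdeal q R]
    · intro t ht
      refine Submodule.span_induction ?_ ?_ ?_ ?_ ht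
      · rintro _ ⟨t', ht', rfl⟩ a ha
        obtain ⟨⟨b, s⟩, hb⟩ := IsLocalization.surj q.primeCompl a
        have h1 : G (σ b) = 0 := by
          rw [hG, ← hb, mul_comm, ← smul_eq_mul, map_smul, ha, smul_zero]; rfl
        obtain ⟨w, hw⟩ := (IsLocalizedModule.eq_zero_iff q.primeCompl G).1 h1
        have h2 := hJk t' ht' ((w : B) * b) (by rw [← smul_eq_mul, map_smul]; exact hw)
        refine ((IsLocalization.map_units R s).mul (IsLocalization.map_units R w)).mul_right_eq_zero.1 ?_
        calc algebraMap B R s * algebraMap B R w * (algebraMap B R t' * a)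
            = algebraMap B R w * algebraMap B R t' * (a * algebraMap B R s) := by ring
          _ = algebraMap B R (t' * (w * b)) := by rw [hb, map_mul, map_mul]; ring
          _ = 0 := by rw [h2, map_zero]
      · intro a _; exact zero_mul a
      · intro t₁ t₂ _ _ h1 h2 a ha; rw [add_mul, h1 a ha, h2 a ha, add_zero]
      · intro r t _ h1 a ha; rw [smul_eq_mul, mul_assoc, h1 a ha, mul_zero]
    · intro t ht φ
      refine Submodule.span_induction ?_ ?_ ?_ ?_ ht
      · rintro _ ⟨t', ht', rfl⟩
        obtain ⟨⟨e, s⟩, he⟩ := IsLocalizedModule.surj q.primeCompl G (φ.restrictScalars B)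
        obtain ⟨b, hb⟩ := hJc t' ht' e
        refine ⟨IsLocalization.mk' R b s, LinearMap.ext fun v => ?_⟩
        have hu : IsUnit (algebraMap B R s) := IsLocalization.map_units R s
        refine hu.smul_left_cancel.1 ?_
        rw [LinearMap.smul_apply, LinearMap.lsmul_apply, smul_smul (algebraMap B R s) (IsLocalization.mk' R b s),
          mul_comm (algebraMap B R s) (IsLocalization.mk' R b s), IsLocalization.mk'_spec, smul_comm]
        have h1 : (s : B) • φ v = G e v := LinearMap.congr_fun he v
        have h2 : G (σ b) v = (t' • G e) v := by rw [hb, map_smul]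
        rw [hG, LinearMap.smul_apply, ← h1] at h2
        rw [algebraMap_smul, algebraMap_smul]
        rw [LinearMap.restrictScalars_apply, LinearMap.lsmul_apply, algebraMap_smul] at h2
        exact h2.symm.trans (algebraMap_smul R b v).symm
      · exact ⟨0, by simp⟩
      · rintro t₁ t₂ _ _ ⟨a₁, h1⟩ ⟨a₂, h2⟩; exact ⟨a₁ + a₂, by rw [add_smul, h1, h2, map_add]⟩
      · rintro r t _ ⟨a, h1⟩; exact ⟨r * a, by rw [smul_eq_mul, mul_smul, h1, ← map_smul, smul_eq_mul]⟩
  obtain ⟨K₁, hK₁⟩ := (IsNoetherian.noetherian (LinearMap.ker σ) : (LinearMap.ker σ).FG)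
  have hk : ∀ b ∈ LinearMap.ker σ, ∃ w : B, w ∉ q ∧ w * b = 0 := fun b hb => by
    have h1 : LinearMap.lsmul R M (algebraMap B R b) = 0 := by
      refine LinearMap.restrictScalars_injective B ?_
      rw [← hG, show σ b = 0 from hb, map_zero]; rfl
    obtain ⟨w, hw⟩ := (IsLocalization.map_eq_zero_iff q.primeCompl R b).1 (hbij.1 (h1.trans (map_zero _).symm))
    exact ⟨w, w.2, hw⟩
  have hc : ∀ e : N →ₗ[B] N, ∃ w : B, w ∉ q ∧ ∃ b, σ b = w • e := fun e => by
    let φ : M →ₗ[R] M := LinearMap.extendScalarsOfIsLocalization q.primeCompl R (G e)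
    obtain ⟨a, ha⟩ := hbij.2 φ
    obtain ⟨⟨b, s⟩, hb⟩ := IsLocalization.surj q.primeCompl a
    have h1 : G (σ b) = G ((s : B) • e) := by
      rw [hG, map_smul]
      refine LinearMap.ext fun v => ?_
      show LinearMap.lsmul R M (algebraMap B R b) v = (s : B) • G e v
      rw [← hb, mul_comm, ← smul_eq_mul, map_smul, ha, LinearMap.smul_apply, algebraMap_smul]
      rfl
    obtain ⟨w, hw⟩ := IsLocalizedModule.exists_of_eq (S := q.primeCompl) (f := G) h1
    exact ⟨(w : B) * s, q.primeCompl.mul_mem w.2 s.2, (w : B) * b, by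
      rw [← smul_eq_mul, map_smul, mul_smul]; exact hw⟩
  choose! wk hwk using hk
  obtain ⟨E₁, hE₁⟩ := (Module.Finite.fg_top (R := B) (M := N →ₗ[B] N))
  choose we hwe using hc
  classical
  let W : B := (∏ b ∈ K₁, wk b) * ∏ e ∈ E₁, we e
  have hW : W ∉ q := fun hW => by
    rcases (Ideal.IsPrime.mem_or_mem inferInstance hW) with h | h
    · obtain ⟨b, hb, hbq⟩ := (Ideal.IsPrime.prod_mem_iff).1 h
      exact (hwk b (hK₁ ▸ Submodule.subset_span hb)).1 hbq
    · obtain ⟨e, he, heq⟩ := (Ideal.IsPrime.prod_mem_iff).1 h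
      exact (hwe e).1 heq
  refine hW (hq.1.2 ⟨Module.mem_annihilator.2 fun ⟨b, hb⟩ => Subtype.ext ?_, Submodule.mem_colon.2 fun e _ => ?_⟩)
  · show W * b = 0
    have : b ∈ Submodule.span B (K₁ : Set B) := hK₁ ▸ hb
    induction this using Submodule.span_induction with
    | mem b hb' =>
      obtain ⟨d, hd⟩ : wk b ∣ W := (Finset.dvd_prod_of_mem _ hb').trans (dvd_mul_right _ _)
      rw [hd, mul_comm (wk b) d, mul_assoc, (hwk b (hK₁ ▸ Submodule.subset_span hb')).2, mul_zero]
    | zero => exact mul_zero _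
    | add a c ha hc h1 h2 => rw [mul_add, h1 (hK₁ ▸ ha), h2 (hK₁ ▸ hc), add_zero]
    | smul r a ha h1 => rw [smul_eq_mul, mul_left_comm, h1 (hK₁ ▸ ha), mul_zero]
  · have : e ∈ Submodule.span B (E₁ : Set (N →ₗ[B] N)) := by rw [hE₁]; trivial
    induction this using Submodule.span_induction with
    | mem e he =>
      obtain ⟨d, hd⟩ : we e ∣ W := (Finset.dvd_prod_of_mem _ he).trans (dvd_mul_left _ _)
      obtain ⟨-, b, hb⟩ := hwe e
      exact ⟨d * b, by rw [← smul_eq_mul, map_smul, hb, smul_smul, hd, mul_comm]⟩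
    | zero => rw [smul_zero]; exact Submodule.zero_mem _
    | add a b _ _ h1 h2 => rw [smul_add]; exact Submodule.add_mem _ (h1 trivial) (h2 trivial)
    | smul r a _ h1 => rw [smul_comm]; exact Submodule.smul_mem _ r (h1 trivial)

end GrothLib.DualFree20
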