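import Groth.Agent.Lib.DualFree20.EndSheaf

/-!
# `End(ω) = O` for an `S₂` morphism
-/

set_option autoImplicit false
set_option linter.all false
set_option backward.isDefEq.respectTransparency false
set_option maxHeartbeats 1600000

universe u

open CategoryTheory CategoryTheory.Limits AlgebraicGeometry
attribute [local instance] HasDerivedCategory.standard

noncomputable section

namespace GrothLib.DualFree20

open GrothLib.OX GrothLib.RightAdj22

/-- **Endomorphisms of the relative canonical sheaf of a proper `S₂` morphism are scalars.** -/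
theorem nonempty_homSh_dualizing_self_iso {A : Type u} [CommRing A] [IsNoetherianRing A] {Y : Scheme.{u}}
    [Y.Over (Spec (CommRingCat.of A))] [IsProper (Y ↘ Spec (CommRingCat.of A))] (d : ℕ)
    (hS : RelCanon.IsSkMor (Y ↘ Spec (CommRingCat.of A)) 2) (hd : Cyc.HasRelDim (Y ↘ Spec (CommRingCat.of A)) d)
    (ω : Y.Modules) (hω : RelCanon.IsDualizingSheaf A Y d ω) :
    Nonempty (RefHull.homSh ω ω ≅ Coh.structureModule Y) := by
  let f := Y ↘ Spec (CommRingCat.of A)
  haveI : Flat f := hS.1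
  haveI : LocallyOfFiniteType f := hS.2.1
  haveI : LocallyOfFinitePresentation f := GrothLib.LocProp.locallyOfFinitePresentation_of_isLocallyNoetherian f
  haveI : IsLocallyNoetherian Y := LocallyOfFiniteType.isLocallyNoetherian f
  have hdim : ∀ x : Y, FlatMor.fibreDimAt f x = (d : WithBot ℕ∞) := fun x => by
    haveI : LocallyOfFiniteType (f.fiberToSpecResidueField (f x)) :=
      MorphismProperty.pullback_snd _ _ (inferInstance : LocallyOfFiniteType f)
    exact GrothLib.CodimExt27.localDim_eq_of_pure (k := (Spec (CommRingCat.of A)).residueField (f x))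
      (f.fiberToSpecResidueField (f x)) (hd (f x)) (f.asFiber x)
  have hd' : ∀ s, topologicalKrullDim ↥(f.fiber s) ≤ (d : WithBot ℕ∞) :=
    fun s => GrothLib.FibPd.topologicalKrullDim_le_of_components fun Z hZ => (hd s Z hZ).le
  haveI : CompactSpace Y := QuasiCompact.compactSpace_of_compactSpace f
  haveI : QuasiSeparatedSpace Y := quasiSeparatedSpace_of_quasiSeparated f
  haveI : DCoh.HasRpush f := KInj.hasRightDerivedFunctor _
  have hf : DCoh.RpushPreservesQCoh f := fun K hK =>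
    GrothLib.KSix19.BettiExact.isQCohD_of_iso' ((rpushIsoRres f).app K).symm (isQCohD_Rres f K hK)
  haveI : (DCoh.RpushQ f hf).IsLeftAdjoint := OX.isLeftAdjoint_lift_Rpush f hf
  let adj := Adjunction.ofIsLeftAdjoint (DCoh.RpushQ f hf)
  let W₀ : DCoh.DQCoh (Spec (CommRingCat.of A)) := ⟨DCoh.inD _ (Coh.structureModule _),
    KSix19.RpushAmp.isQCohD_inD _ (inferInstanceAs (Coh.structureModule (Spec (CommRingCat.of A))).IsQuasicoherent)⟩
  let K := ((DCoh.RpushQ f hf).rightAdjoint.obj W₀).obj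
  obtain ⟨u⟩ := nonempty_iso_of_isDualizingSheaf (isDualizingSheaf_adjoint f rfl d hd' hf adj W₀ ⟨Iso.refl _⟩) hω
  let u' : DCoh.HD K (-(d : ℤ)) ≅ ω := eqToIso (by rw [zero_sub]) ≪≫ u
  let c : DEt.Compactification f := ⟨Y, 𝟙 Y, f, inferInstance, inferInstance, Category.id_comp f⟩
  haveI : DCoh.HasRpush c.fbar := ‹DCoh.HasRpush f›
  haveI : PreservesFiniteLimits (Scheme.Modules.restrictFunctor c.j) := inferInstance
  let η₀ : ∀ i, DCoh.HD ((Dual3.shriekC c (DCoh.RpushQ f hf).rightAdjoint).obj W₀) i ≅ DCoh.HD K i := fun i =>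
    (DerivedCategory.homologyFunctor _ i).mapIso ((RightAdj22.resDIdIso Y).app K)
  have hωc : Coh.IsCoh ω := GrothLib.QCoh.isCoh_of_iso u'
    (GrothLib.QCoh.isCoh_of_iso (η₀ _) (GrothLib.ShriekBridge22.isCoh_HD_shriekC_O f c hf adj W₀ ⟨Iso.refl _⟩ _))
  let U : Y.Opens := ⟨{y | MoreMor.IsCMAt f y}, Groth.Agent.S4961.result f⟩
  have hgen : ∀ (t : ↥(Spec (CommRingCat.of A))) (η : f.fiber t),
      closure {η} ∈ irreducibleComponents ↥(f.fiber t) → f.fiberι t η ∈ U := by
    intro t η hη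
    obtain ⟨x, hx⟩ : ∃ x, f.fiberι t η = x := ⟨_, rfl⟩
    rw [hx]
    refine ⟨Flat.stalkMap f x, ?_⟩
    rw [GrothLib.CMMor6.cm_fiber_stalk_iff f (f x) (f.asFiber x) x (f.fiberι_asFiber x),
      ← GrothLib.CMMor6.cm_fiber_stalk_iff f t η x hx]
    haveI : IsNoetherianRing ((f.fiber t).presheaf.stalk η) := GrothLib.DimCut.isNoetherianRing_stalk_fiber f _ _
    refine (GrothLib.CMMor6.cm_iff _).2 (le_antisymm ?_ (GrothLib.CMMor6.depth_le_dim _))
    rw [GrothLib.AlgSp.ringKrullDim_stalk_eq_zero_of_component hη]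
    exact WithBot.coe_le_coe.2 zero_le'
  have hchart : ∀ y ∈ U, Function.Bijective (LinearMap.lsmul (Y.presheaf.stalk y) (ω.presheaf.stalk y)) := by
    intro y hy
    obtain ⟨-, hch⟩ := RightAdj20.affine_core f hf adj W₀ ⟨Iso.refl _⟩
    obtain ⟨B, _, j, hj, hyj, hjU, M, hb, -, ⟨eM⟩⟩ := hch U y hy
    haveI := hj
    have hz : ∀ i, i ≠ -(d : ℤ) → ∀ q, Subsingleton ((DCoh.HD K i).presheaf.stalk (j q)) := fun i hi q => by
      have hq : j q ∈ U := hjU ⟨q, rfl⟩
      refine not_nontrivial_iff_subsingleton.1 fun hn => hi ?_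
      exact (GrothLib.ShriekBridge22.stalk_of_isCMAt f c hf adj W₀ ⟨Iso.refl _⟩ hq (hdim _) i).1
        ((nontrivial_stalk_of_iso (η₀ i) _).2 hn)
    have h1 := bijective_lsmul_sections_of_chart (B := CommRingCat.of B) j K (-(d : ℤ)) M hb eM hz
    have hyW : y ∈ j ''ᵁ ⊤ := by
      obtain ⟨q, rfl⟩ := hyj
      exact ⟨q, trivial, rfl⟩
    have hKc : Coh.IsCoh (DCoh.HD K (-(d : ℤ))) := GrothLib.QCoh.isCoh_of_iso u'.symm hωc
    exact bijective_lsmul_congr (RingEquiv.refl (Y.presheaf.stalk y)) (stalkIso u' y).toAddEquiv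
      (fun r v => map_smul (stalkIso u' y) r v)
      (bijective_lsmul_stalk hKc ((isAffineOpen_top _).image_of_isOpenImmersion j) h1 hyW)
  refine nonempty_homSh_self_iso hωc fun x => ?_
  obtain ⟨W, hW', hxW, -⟩ := exists_isAffineOpen_mem_and_subset (x := x) (U := ⊤) trivial
  have hW : IsAffineOpen W := hW'
  refine bijective_lsmul_stalk hωc hW ?_ hxW
  haveI := hωc.1
  haveI : IsNoetherianRing Γ(Y, W) := IsLocallyNoetherian.component_noetherian ⟨W, hW⟩
  haveI : Module.Finite Γ(Y, W) Γ(ω, W) := QCoh.moduleFinite_of_isFiniteType ω hωc.2 hW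
  refine bijective_lsmul_of_primes fun q hqp => ?_
  obtain ⟨y, hy, rfl⟩ : ∃ (y : Y) (hy : y ∈ W), WeakAss.primeAt y hy = q := by
    let p : PrimeSpectrum Γ(Y, W) := ⟨q, hqp⟩
    have hy : hW.fromSpec p ∈ W := by
      have : hW.fromSpec p ∈ Set.range hW.fromSpec := ⟨p, rfl⟩
      rwa [hW.range_fromSpec] at this
    have h1 : hW.primeIdealOf ⟨hW.fromSpec p, hy⟩ = p :=
      hW.fromSpec.isOpenEmbedding.injective (hW.fromSpec_primeIdealOf ⟨hW.fromSpec p, hy⟩)
    exact ⟨_, hy, (congrArg PrimeSpectrum.asIdeal (QCoh.primeAt_eq_primeIdealOf hW hy)).trans (congrArg _ h1)⟩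
  letI := Y.presheaf.algebra_section_stalk ⟨y, hy⟩
  haveI := FlatFP.isLocalization_stalk_primeAt hW hy
  letI : Module Γ(Y, W) (ω.presheaf.stalk y) := Module.compHom _ (Y.presheaf.germ W y hy).hom
  haveI : IsScalarTower Γ(Y, W) (Y.presheaf.stalk y) (ω.presheaf.stalk y) :=
    IsScalarTower.of_algebraMap_smul fun _ _ => rfl
  obtain ⟨g, hg, hgg⟩ := FlatFP.isLocalizedModule_germ (F := ω) hW hy
  refine ⟨Y.presheaf.stalk y, inferInstance, inferInstance, inferInstance, ω.presheaf.stalk y, inferInstance,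
    inferInstance, inferInstance, inferInstance, g, hg, ?_⟩
  by_cases hyU : y ∈ U
  · exact Or.inl (hchart y hyU)
  refine Or.inr ⟨exists_regular_pair f hS y hyU, fun v hv => ?_⟩
  haveI := hg
  obtain ⟨⟨z₀, s⟩, hz₀⟩ := IsLocalizedModule.surj (WeakAss.primeAt y hy).primeCompl g v
  obtain ⟨gens, hgens⟩ := (IsNoetherian.noetherian (WeakAss.primeAt y hy) : (WeakAss.primeAt y hy).FG)
  have hkill : ∀ a ∈ WeakAss.primeAt y hy, ∃ t : (WeakAss.primeAt y hy).primeCompl, (t : Γ(Y, W)) • a • z₀ = 0 := by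
    intro a ha
    have hnu : ¬ IsUnit (Y.presheaf.germ W y hy a) := fun h =>
      WeakAss.notMem_primeAt_iff.2 ((Scheme.mem_basicOpen _ a y hy).2 h) ha
    have h1 : g (a • z₀) = 0 := by
      rw [map_smul, ← hz₀]
      show a • (s : Γ(Y, W)) • v = 0
      rw [smul_comm, show a • v = 0 from hv _ hnu, smul_zero]
    obtain ⟨t, ht⟩ := (IsLocalizedModule.eq_zero_iff (WeakAss.primeAt y hy).primeCompl g).1 h1
    exact ⟨t, ht⟩
  choose! t ht using hkill
  classical
  let T : (WeakAss.primeAt y hy).primeCompl := ∏ a ∈ gens, t a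
  let z := (T : Γ(Y, W)) • z₀
  have hpz : ∀ a ∈ WeakAss.primeAt y hy, a • z = 0 := by
    intro a ha
    rw [← hgens] at ha
    induction ha using Submodule.span_induction with
    | mem a ha =>
      obtain ⟨e, he⟩ : ((t a : (WeakAss.primeAt y hy).primeCompl) : Γ(Y, W)) ∣ (T : Γ(Y, W)) := by
        rw [Submonoid.coe_finsetProd]
        exact Finset.dvd_prod_of_mem (fun b => ((t b : (WeakAss.primeAt y hy).primeCompl) : Γ(Y, W))) ha
      show a • (T : Γ(Y, W)) • z₀ = 0
      rw [he, mul_comm _ e, mul_smul, smul_comm a e, smul_comm a ((t a : (WeakAss.primeAt y hy).primeCompl) : Γ(Y, W)),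
        ht a (hgens ▸ Submodule.subset_span ha), smul_zero]
    | zero => exact zero_smul _ _
    | add a b _ _ h1 h2 => rw [add_smul, h1, h2, add_zero]
    | smul r a _ h1 => rw [smul_eq_mul, mul_smul, h1, smul_zero]
  have hz0 : z = 0 := by
    refine app_eq_zero_of_thin d hd' U hgen hω hωc W z fun y' hy' hy'U => ?_
    obtain ⟨a, hle, hay'⟩ := hW.exists_basicOpen_le (V := U) ⟨y', hy'U⟩ hy'
    have ha : a ∈ WeakAss.primeAt y hy := by
      by_contra h
      exact hyU (hle (WeakAss.notMem_primeAt_iff.1 h))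
    have hu : IsUnit (Y.presheaf.germ W y' hy' a) := (Scheme.mem_basicOpen _ a y' hy').1 hay'
    refine hu.smul_left_cancel.1 ?_
    rw [← Mero.germ_smul, hpz a ha, map_zero, smul_zero]
  have h1 : g z = 0 := by rw [hz0, map_zero]
  have hzT : g z = ((T * s : (WeakAss.primeAt y hy).primeCompl) : Γ(Y, W)) • v := by
    show g ((T : Γ(Y, W)) • z₀) = _
    rw [map_smul, ← hz₀]
    show (T : Γ(Y, W)) • (s : Γ(Y, W)) • v = _
    rw [smul_smul]; rfl
  rw [hzT, ← algebraMap_smul (Y.presheaf.stalk y)] at h1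
  exact (IsLocalization.map_units (Y.presheaf.stalk y) (T * s)).smul_eq_zero.1 h1

end GrothLib.DualFree20

end
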