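import Groth.Agent.Lib.SuppIso.Basic
import Groth.Agent.Lib.RightAdj22.TopRepApps
import Groth.Agent.Lib.RightAdj22.GlobalHH
import Groth.Agent.Lib.ModDesc.Basic
import Groth.Agent.Lib.QCoh.Qcqs
import Groth.Agent.Lib.QCoh.SupportExact
import Groth.Agent.Lib.OX.Support
import Groth.Agent.Lib.DualFree20.FlatBC
import Groth.Prelude.Def_RelCanon

/-!
# The dualizing sheaf has no sections supported on a thin closed subset
-/

set_option autoImplicit false
set_option linter.all false
set_option backward.isDefEq.respectTransparency false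
set_option maxHeartbeats 1000000

universe u

open CategoryTheory CategoryTheory.Limits AlgebraicGeometry TopologicalSpace

noncomputable section

namespace GrothLib.DualFree20

/-- A closed subspace avoiding the generic points of the components has smaller dimension. -/
theorem krullDim_le_pred_of_avoid {T C : Type u} [TopologicalSpace T] [QuasiSober T] [TopologicalSpace C]
    {e : C → T} (he : Topology.IsClosedEmbedding e) (d : ℕ) (hT : topologicalKrullDim T ≤ (d : WithBot ℕ∞))
    (h : ∀ η : T, closure {η} ∈ irreducibleComponents T → η ∉ Set.range e) :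
    topologicalKrullDim C ≤ ((d - 1 : ℕ) : WithBot ℕ∞) ∧ (Nonempty C → 1 ≤ d) := by
  let F : IrreducibleCloseds C → IrreducibleCloseds T := fun L =>
    ⟨e '' L, L.isIrreducible.image _ he.continuous.continuousOn, he.isClosedMap _ L.isClosed⟩
  have hF : StrictMono F := fun L M hLM => by
    refine lt_of_le_of_ne (Set.image_mono hLM.le) fun heq => hLM.ne (IrreducibleCloseds.ext ?_)
    exact he.injective.image_injective (congrArg (fun Z : IrreducibleCloseds T => (Z : Set T)) heq)
  have key : ∀ p : LTSeries (IrreducibleCloseds C), ((p.length + 1 : ℕ) : WithBot ℕ∞) ≤ (d : WithBot ℕ∞) := by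
    intro p
    obtain ⟨K, hK, hsub⟩ := exists_mem_irreducibleComponents_subset_of_isIrreducible _ (F p.last).isIrreducible
    let K' : IrreducibleCloseds T := ⟨K, hK.1, isClosed_of_mem_irreducibleComponents K hK⟩
    have hlt : F p.last < K' := by
      refine lt_of_le_of_ne hsub fun heq => ?_
      obtain ⟨η, hη⟩ := QuasiSober.sober hK.1 (isClosed_of_mem_irreducibleComponents K hK)
      have hmem : η ∈ (F p.last : Set T) := by rw [heq]; exact hη.mem
      exact h η (by rw [hη.def]; exact hK) (Set.image_subset_range e _ hmem)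
    refine le_trans ?_ hT
    exact Order.LTSeries.length_le_krullDim ((p.map F hF).snoc K' (by rw [LTSeries.last_map]; exact hlt))
  refine ⟨iSup_le fun p => ?_, fun ⟨c⟩ => ?_⟩
  · have := key p
    rw [Nat.cast_le] at this
    exact_mod_cast Nat.le_sub_one_of_lt this
  · have := key (RelSeries.singleton _ ⟨closure {c}, isIrreducible_singleton.closure, isClosed_closure⟩)
    rw [Nat.cast_le] at this
    simpa using this

variable {A : Type u} [CommRing A] [IsNoetherianRing A] {Y : Scheme.{u}} [Y.Over (Spec (CommRingCat.of A))]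
  [IsProper (Y ↘ Spec (CommRingCat.of A))]

/-- A coherent module supported where no fibre has a component has no cohomology in the top degree. -/
theorem subsingleton_HH_of_thin (d : ℕ)
    (hd : ∀ t, topologicalKrullDim ↥((Y ↘ Spec (CommRingCat.of A)).fiber t) ≤ (d : WithBot ℕ∞))
    (Z : Closeds Y)
    (hZ : ∀ (t : ↥(Spec (CommRingCat.of A))) (η : (Y ↘ Spec (CommRingCat.of A)).fiber t),
      closure {η} ∈ irreducibleComponents ↥((Y ↘ Spec (CommRingCat.of A)).fiber t) →
        (Y ↘ Spec (CommRingCat.of A)).fiberι t η ∉ (Z : Set Y))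
    (hne : (Z : Set Y).Nonempty) {G : Y.Modules} (hG : Coh.IsCoh G) (hs : CohB1.support G ⊆ (Z : Set Y)) :
    Subsingleton (Coh.HH Y G d) := by
  let f := Y ↘ Spec (CommRingCat.of A)
  haveI : IsLocallyNoetherian Y := LocallyOfFiniteType.isLocallyNoetherian f
  haveI : CompactSpace Y := QuasiCompact.compactSpace_of_compactSpace f
  haveI : AlgebraicGeometry.IsNoetherian Y := {}
  let I := Scheme.IdealSheafData.vanishingIdeal Z
  let ι := I.subschemeι
  have hr : Set.range ι = (Z : Set Y) := by
    rw [Scheme.IdealSheafData.range_subschemeι]; rfl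
  let g : I.subscheme ⟶ Spec (CommRingCat.of A) := ι ≫ f
  haveI : IsProper g := inferInstanceAs (IsProper (ι ≫ f))
  have key : ∀ t, topologicalKrullDim ↥(g.fiber t) ≤ ((d - 1 : ℕ) : WithBot ℕ∞) ∧ (Nonempty (g.fiber t) → 1 ≤ d) := by
    intro t
    let r : g ⁻¹' {t} → f ⁻¹' {t} := fun z => ⟨ι z.1, z.2⟩
    have hre : Topology.IsClosedEmbedding r := ι.isClosedEmbedding.restrictPreimage (f ⁻¹' {t})
    let e : g.fiber t → f.fiber t := (f.fiberHomeo t).symm ∘ r ∘ (g.fiberHomeo t)
    have he : Topology.IsClosedEmbedding e :=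
      (f.fiberHomeo t).symm.isClosedEmbedding.comp (hre.comp (g.fiberHomeo t).isClosedEmbedding)
    refine krullDim_le_pred_of_avoid he d (hd t) fun η hη => ?_
    rintro ⟨z, rfl⟩
    refine hZ t _ hη ?_
    have h1 : f.fiberι t (e z) = ι (g.fiberHomeo t z).1 := by
      rw [← Scheme.Hom.fiberHomeo_apply]
      exact congrArg Subtype.val ((f.fiberHomeo t).apply_symm_apply _)
    rw [h1, ← hr]
    exact Set.mem_range_self _
  have hd1 : 1 ≤ d := by
    obtain ⟨y, hy⟩ := hne
    obtain ⟨z, rfl⟩ : y ∈ Set.range ι := hr.ge hy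
    exact (key (g z)).2 ⟨(g.fiberHomeo (g z)).symm ⟨z, rfl⟩⟩
  refine SuppIso.subsingleton_HH_of_supp ι (d - 1) (fun G' hG' i hi => ?_) hG (by rwa [hr]) d (by omega)
  haveI := RpushSupp20.hasInjectiveResolutions I.subscheme
  obtain ⟨e, -, -⟩ := RightAdj22.exists_HH_Rpush g i
  have hz := RightAdj22.isZero_Rpush_of_fibreDim g (d - 1) (fun t => (key t).1) G' hG' i (by omega)
  haveI : Subsingleton Γ((Coh.Rpush g i).obj G', ⊤) :=
    AddCommGrpCat.subsingleton_of_isZero
      ((Functor.isZero_iff _).1 ((Scheme.Modules.toPresheaf _).map_isZero hz) (Opposite.op ⊤))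
  exact (e G' hG').toEquiv.subsingleton

/-- **Sections of the dualizing sheaf vanishing off a thin closed subset vanish.** -/
theorem app_eq_zero_of_thin (d : ℕ)
    (hd : ∀ t, topologicalKrullDim ↥((Y ↘ Spec (CommRingCat.of A)).fiber t) ≤ (d : WithBot ℕ∞))
    (U : Y.Opens)
    (hU : ∀ (t : ↥(Spec (CommRingCat.of A))) (η : (Y ↘ Spec (CommRingCat.of A)).fiber t),
      closure {η} ∈ irreducibleComponents ↥((Y ↘ Spec (CommRingCat.of A)).fiber t) →
        (Y ↘ Spec (CommRingCat.of A)).fiberι t η ∈ U)
    {ω : Y.Modules} (hω : RelCanon.IsDualizingSheaf A Y d ω) (hωc : Coh.IsCoh ω)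
    (W : Y.Opens) (s : Γ(ω, W)) (hs : ∀ (y : Y) (hy : y ∈ W), y ∈ U → ω.presheaf.germ W y hy s = 0) : s = 0 := by
  let f := Y ↘ Spec (CommRingCat.of A)
  haveI : IsLocallyNoetherian Y := LocallyOfFiniteType.isLocallyNoetherian f
  haveI := hωc.1
  obtain ⟨tr, -, htr⟩ := hω
  let η : ω ⟶ (Scheme.Modules.pushforward U.ι).obj ((Scheme.Modules.restrictFunctor U.ι).obj ω) :=
    (Scheme.Modules.restrictAdjunction U.ι).unit.app ω
  haveI : ((Scheme.Modules.restrictFunctor U.ι).obj ω).IsQuasicoherent := inferInstance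
  haveI : ((Scheme.Modules.pushforward U.ι).obj ((Scheme.Modules.restrictFunctor U.ι).obj ω)).IsQuasicoherent :=
    QCoh.isQuasicoherent_pushforward U.ι _
  let G := kernel η
  haveI : G.IsQuasicoherent := QCoh.isQuasicoherent_kernel η
  have hGc : Coh.IsCoh G := ⟨inferInstance, QCoh.isFiniteType_of_mono (kernel.ι η) hωc.2⟩
  haveI : IsIso ((Scheme.Modules.restrictFunctor U.ι).map η) := by
    have h := (Scheme.Modules.restrictAdjunction U.ι).left_triangle_components ω
    exact IsIso.of_isIso_fac_right h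
  haveI : (Scheme.Modules.restrictFunctor U.ι).IsRightAdjoint := inferInstance
  have hGU : IsZero ((Scheme.Modules.restrictFunctor U.ι).obj G) := by
    have h0 : (Scheme.Modules.restrictFunctor U.ι).map (kernel.ι η) = 0 := by
      rw [← cancel_mono ((Scheme.Modules.restrictFunctor U.ι).map η), zero_comp, ← Functor.map_comp,
        kernel.condition, Functor.map_zero]
    haveI : Mono ((Scheme.Modules.restrictFunctor U.ι).map (kernel.ι η)) := inferInstance
    exact IsZero.of_mono_eq_zero _ h0
  have hι : kernel.ι η = 0 := by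
    refine (htr G hGc.1).1 (LinearMap.ext fun x => ?_)
    rcases Set.eq_empty_or_nonempty ((U : Set Y)ᶜ) with he | hne
    · have hz : IsZero G := OX.isZero_of_subsingleton_stalks G fun y => by
        refine not_not.1 fun h => ?_
        have h1 := OX.support_subset_of_isZero_restrict U.ι hGU h
        rw [Scheme.Opens.range_ι, he] at h1
        exact h1
      rw [show kernel.ι η = 0 from hz.eq_of_src _ _]
    · haveI := subsingleton_HH_of_thin (A := A) d hd ⟨(U : Set Y)ᶜ, U.isOpen.isClosed_compl⟩
        (fun t p hp hpZ => hpZ (hU t p hp)) hne hGc (by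
          have h1 := OX.support_subset_of_isZero_restrict U.ι hGU
          rwa [Scheme.Opens.range_ι] at h1)
      rw [Subsingleton.elim x 0, map_zero, map_zero]
  haveI : Mono η := Preadditive.mono_of_kernel_iso_zero
    (IsZero.iso (IsZero.of_mono_eq_zero (kernel.ι η) hι) (isZero_zero _))
  refine ModDesc.app_injective_of_mono η W ?_
  rw [map_zero]
  show ω.presheaf.map (homOfLE (U.ι.image_preimage_le W)).op s = (0 : Γ(ω, U.ι ''ᵁ (U.ι ⁻¹ᵁ W)))
  refine TopCat.Presheaf.section_ext ⟨ω.presheaf, ω.isSheaf⟩ _ _ 0 fun y hy => ?_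
  obtain ⟨z, hz, rfl⟩ := hy
  rw [map_zero]
  refine Eq.trans ?_ (hs (U.ι z) hz z.2)
  exact TopCat.Presheaf.germ_res_apply ω.presheaf _ _ _ s

end GrothLib.DualFree20

end
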