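import Groth.Agent.Lib.DualFree20.EndAlg
import Groth.Agent.Lib.DualFree20.EndSupp
import Groth.Agent.Lib.DualFree20.CMSheaf
import Groth.Agent.Lib.RightAdj20.RelDualFinal
import Groth.Agent.Lib.RightAdj22.CoherentMain
import Groth.Agent.Lib.NormFlat11.Local
import Groth.Agent.Lib.CMMor6.BaseChange
import Groth.Agent.Lib.SyntLoc.Sk
import Groth.Agent.Lib.SkExt.Localized
import Groth.Agent.Lib.HomSh.Criterion
import Groth.Agent.Lib.AlgSp.DimFormulaSpace
import Groth.Agent.S4961

/-!
# Endomorphisms of the relative canonical sheaf of an `S₂` morphism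
-/

set_option autoImplicit false
set_option linter.all false
set_option backward.isDefEq.respectTransparency false
set_option maxHeartbeats 1600000

universe u

open CategoryTheory CategoryTheory.Limits AlgebraicGeometry IsLocalRing
attribute [local instance] HasDerivedCategory.standard

noncomputable section

namespace GrothLib.DualFree20

open GrothLib.OX GrothLib.RightAdj22
open scoped Pointwise

/-- Bijectivity of scalars transports along semilinear isomorphisms. -/
theorem bijective_lsmul_congr {R R' M M' : Type u} [CommRing R] [CommRing R'] [AddCommGroup M] [AddCommGroup M']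
    [Module R M] [Module R' M'] (σ : R ≃+* R') (e : M ≃+ M') (he : ∀ (r : R) (v : M), e (r • v) = σ r • e v)
    (h : Function.Bijective (LinearMap.lsmul R M)) : Function.Bijective (LinearMap.lsmul R' M') := by
  refine ⟨(injective_iff_map_eq_zero _).2 fun r hr => ?_, fun φ => ?_⟩
  · obtain ⟨a, rfl⟩ := σ.surjective r
    have h1 : LinearMap.lsmul R M a = 0 := LinearMap.ext fun v => e.injective (by
      show e (a • v) = e 0
      rw [he, map_zero]
      exact LinearMap.congr_fun hr (e v))
    rw [h.1 (h1.trans (map_zero _).symm), map_zero]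
  · let ψ : M →ₗ[R] M :=
      { toFun := fun v => e.symm (φ (e v))
        map_add' := fun v w => by simp
        map_smul' := fun r v => e.injective (by simp [he]) }
    obtain ⟨a, ha⟩ := h.2 ψ
    refine ⟨σ a, LinearMap.ext fun v' => ?_⟩
    obtain ⟨v, rfl⟩ := e.surjective v'
    show σ a • e v = φ (e v)
    rw [← he, show a • v = ψ v from LinearMap.congr_fun ha v]
    exact e.apply_symm_apply _

/-- At the non-Cohen–Macaulay points of an `S₂` morphism the local ring has depth at least two. -/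
theorem exists_regular_pair {X S : Scheme.{u}} (f : X ⟶ S) [IsLocallyNoetherian X] [IsLocallyNoetherian S]
    (hS : RelCanon.IsSkMor f 2) (x : X) (hx : ¬ MoreMor.IsCMAt f x) :
    ∃ a b : X.presheaf.stalk x, ¬ IsUnit a ∧ ¬ IsUnit b ∧ IsSMulRegular (X.presheaf.stalk x) a ∧
      ∀ c, b * c ∈ Ideal.span {a} → c ∈ Ideal.span {a} := by
  haveI : Flat f := hS.1
  let F := (f.fiber (f x)).presheaf.stalk (f.asFiber x)
  haveI : IsNoetherianRing F := GrothLib.DimCut.isNoetherianRing_stalk_fiber f _ _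
  haveI : Module.Finite F ((Coh.structureModule (f.fiber (f x))).presheaf.stalk (f.asFiber x)) :=
    Module.Finite.equiv (HomSh.unitStalk (X := f.fiber (f x)) (f.asFiber x))
  have hb : GrothLib.SyntLoc.SkBound 2 F := GrothLib.SyntLoc.skBound_of_hasSk
    (GrothLib.SkExt.hasSk_congr (HomSh.unitStalk (X := f.fiber (f x)) (f.asFiber x)).symm (hS.2.2 x))
  have hF : (2 : ℕ∞) ≤ LocCoh.depth F F := by
    by_contra hlt
    refine hx ⟨Flat.stalkMap f x, (GrothLib.CMMor6.cm_iff F).2 (le_antisymm ?_ (GrothLib.CMMor6.depth_le_dim F))⟩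
    unfold GrothLib.SyntLoc.SkBound at hb
    rcases le_total (ringKrullDim F) (2 : WithBot ℕ∞) with h2 | h2
    · rwa [min_eq_right (by exact_mod_cast h2)] at hb
    · rw [min_eq_left (by exact_mod_cast h2)] at hb
      exact absurd (WithBot.coe_le_coe.1 hb) hlt
  letI := (f.stalkMap x).hom.toAlgebra
  haveI : IsLocalHom (algebraMap (S.presheaf.stalk (f x)) (X.presheaf.stalk x)) :=
    inferInstanceAs (IsLocalHom (f.stalkMap x).hom)
  haveI : Module.Flat (S.presheaf.stalk (f x)) (X.presheaf.stalk x) := Flat.stalkMap f x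
  obtain ⟨hsurj, hker⟩ := GrothLib.FibreFlat.fiberι_stalkMap' f (f x) (f.asFiber x) x (f.fiberι_asFiber x)
  let J := (maximalIdeal (S.presheaf.stalk (f x))).map (algebraMap (S.presheaf.stalk (f x)) (X.presheaf.stalk x))
  let e : (X.presheaf.stalk x ⧸ J) ≃+* F :=
    (Ideal.quotEquivOfEq hker.symm).trans (RingHom.quotientKerEquivOfSurjective hsurj)
  haveI : IsLocalRing (X.presheaf.stalk x ⧸ J) := e.symm.isLocalRing
  have hq : (2 : ℕ∞) ≤ LocCoh.depth (X.presheaf.stalk x ⧸ J) (X.presheaf.stalk x ⧸ J) := by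
    refine hF.trans (le_of_eq ?_)
    letI : Algebra (X.presheaf.stalk x ⧸ J) F := e.toRingHom.toAlgebra
    haveI : Module.Finite (X.presheaf.stalk x ⧸ J) F := Module.Finite.of_surjective (Algebra.linearMap _ _) e.surjective
    rw [← GrothLib.Faltings.depth_eq_of_surjective (A := X.presheaf.stalk x ⧸ J) e.surjective F]
    exact (GrothLib.Depth.idealDepth_eq_of_equiv _
      (LinearEquiv.ofBijective (Algebra.linearMap (X.presheaf.stalk x ⧸ J) F) e.bijective)).symm
  have hR : (2 : ℕ∞) ≤ LocCoh.depth (X.presheaf.stalk x) (X.presheaf.stalk x) := by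
    rw [GrothLib.CMMor6.depth_eq_add (A := S.presheaf.stalk (f x))]
    exact hq.trans le_add_self
  obtain ⟨a, b, ha, hb', hreg⟩ := GrothLib.NormFlat11.exists_pair_of_two_le_depth hR
  rw [RingTheory.Sequence.isWeaklyRegular_cons_iff, RingTheory.Sequence.isWeaklyRegular_cons_iff] at hreg
  refine ⟨a, b, ha, hb', hreg.1, fun c hc => ?_⟩
  have hmem : ∀ d : X.presheaf.stalk x, d ∈ a • (⊤ : Submodule (X.presheaf.stalk x) (X.presheaf.stalk x)) ↔
      d ∈ Ideal.span {a} := fun d => by
    rw [Submodule.mem_smul_pointwise_iff_exists, Ideal.mem_span_singleton']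
    exact ⟨fun ⟨r, _, hr⟩ => ⟨r, by rw [← hr, smul_eq_mul, mul_comm]⟩,
      fun ⟨r, hr⟩ => ⟨r, trivial, by rw [← hr, smul_eq_mul, mul_comm]⟩⟩
  refine (hmem c).1 ((Submodule.Quotient.mk_eq_zero _).1 (hreg.2.1.right_eq_zero_of_smul ?_))
  rw [← Submodule.Quotient.mk_smul, Submodule.Quotient.mk_eq_zero, smul_eq_mul]
  exact (hmem _).2 hc

/-- On a chart where a complex is one module with only scalar endomorphisms, so are the stalks of its sheaf. -/
theorem bijective_lsmul_sections_of_chart {X : Scheme.{u}} {B : CommRingCat.{u}}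
    (j : Spec B ⟶ X) [IsOpenImmersion j] (K : DCoh.D X) (m : ℤ) (M : DerivedCategory (ModuleCat.{u} B))
    (hM : Function.Bijective fun b : B => b • 𝟙 M) (e : (resD j).obj K ≅ (DCoh.tildeD B).obj M)
    (hz : ∀ i, i ≠ m → ∀ q, Subsingleton ((DCoh.HD K i).presheaf.stalk (j q))) :
    Function.Bijective (LinearMap.lsmul Γ(X, j ''ᵁ ⊤) Γ(DCoh.HD K m, j ''ᵁ ⊤)) := by
  haveI : PreservesFiniteLimits (tilde.functor B) := OX.preservesFiniteLimits_tildeGen _
  let H := fun i => (DerivedCategory.homologyFunctor (ModuleCat.{u} B) i).obj M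
  let t : ∀ i, (Scheme.Modules.restrictFunctor j).obj (DCoh.HD K i) ≅
      (tilde.functor B).obj (H i) := fun i =>
    (HDResIso j K i).symm ≪≫ (DerivedCategory.homologyFunctor _ i).mapIso e ≪≫ HDTildeIso (R := B) M i
  let Γ' : (Spec B).Modules ⥤ ModuleCat.{u} B := moduleSpecΓFunctor (R := B)
  let L : ∀ i, Γ'.obj ((Scheme.Modules.restrictFunctor j).obj (DCoh.HD K i)) ≅ H i := fun i =>
    Γ'.mapIso (t i) ≪≫ (tilde.toTildeΓNatIso.app (H i)).symm
  have hH : ∀ i, i ≠ m → IsZero (H i) := fun i hi => by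
    refine IsZero.of_iso ?_ (L i).symm
    have hZ : IsZero ((Scheme.Modules.restrictFunctor j).obj (DCoh.HD K i)) :=
      OX.isZero_of_subsingleton_stalks _ fun q => by
        exact @Equiv.subsingleton _ _
          ((Scheme.Modules.restrictStalkNatIso j q).app _).addCommGroupIsoToAddEquiv.toEquiv (hz i hi q)
    haveI : Subsingleton Γ((Scheme.Modules.restrictFunctor j).obj (DCoh.HD K i), ⊤) :=
      AddCommGrpCat.subsingleton_of_isZero
        ((Functor.isZero_iff _).1 ((Scheme.Modules.toPresheaf _).map_isZero hZ) (Opposite.op ⊤))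
    haveI : Subsingleton (Γ'.obj ((Scheme.Modules.restrictFunctor j).obj (DCoh.HD K i))) := this
    exact ModuleCat.isZero_of_subsingleton _
  haveI : M.IsGE m := (DerivedCategory.isGE_iff _ _).2 fun i hi => hH i (ne_of_lt hi)
  haveI : M.IsLE m := (DerivedCategory.isLE_iff _ _).2 fun i hi => hH i (ne_of_gt hi)
  obtain ⟨N, ⟨eN⟩⟩ := DerivedCategory.exists_iso_singleFunctor_obj_of_isGE_of_isLE M m
  let P := DerivedCategory.singleFunctor (ModuleCat.{u} B) m
  have hN : Function.Bijective (LinearMap.lsmul B N) := by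
    have hconj : ∀ b : B, eN.hom ≫ P.map (b • 𝟙 N) ≫ eN.inv = b • 𝟙 M := fun b => by
      rw [P.map_smul, CategoryTheory.Functor.map_id, Linear.smul_comp, Linear.comp_smul, Category.id_comp,
        Iso.hom_inv_id]
    refine ⟨fun a b hab => hM.1 ?_, fun φ => ?_⟩
    · show a • 𝟙 M = b • 𝟙 M
      rw [← hconj, ← hconj, show a • 𝟙 N = b • 𝟙 N from ModuleCat.hom_ext hab]
    · obtain ⟨b, hb⟩ := hM.2 (eN.hom ≫ P.map (ModuleCat.ofHom φ) ≫ eN.inv)
      refine ⟨b, ?_⟩
      have h1 : P.map (b • 𝟙 N) = P.map (ModuleCat.ofHom φ) := by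
        have h2 : b • 𝟙 M = eN.hom ≫ P.map (ModuleCat.ofHom φ) ≫ eN.inv := hb
        rw [← hconj b] at h2
        exact (cancel_mono eN.inv).1 ((cancel_epi eN.hom).1 h2)
      exact congrArg ModuleCat.Hom.hom (P.map_injective h1)
  let l : N ≅ Γ'.obj ((Scheme.Modules.restrictFunctor j).obj (DCoh.HD K m)) :=
    ((DerivedCategory.singleFunctorCompHomologyFunctorIso (ModuleCat.{u} B) m).app N).symm ≪≫
      ((DerivedCategory.homologyFunctor (ModuleCat.{u} B) m).mapIso eN).symm ≪≫ (L m).symm
  let σ : B ≃+* Γ(X, j ''ᵁ ⊤) :=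
    (Scheme.ΓSpecIso B).symm.commRingCatIsoToRingEquiv.trans
      (j.appIso ⊤).symm.commRingCatIsoToRingEquiv
  let ε : N ≃+ Γ(DCoh.HD K m, j ''ᵁ ⊤) := l.toLinearEquiv.toAddEquiv
  refine bijective_lsmul_congr σ ε (fun b v => ?_) hN
  show l.toLinearEquiv (b • v) = _
  rw [map_smul]
  exact InvExt.restrict_smul j (DCoh.HD K m) ((Scheme.ΓSpecIso B).inv b) (l.toLinearEquiv v)

/-- Scalars are all the endomorphisms on the stalks if they are on the sections over an affine open. -/
theorem bijective_lsmul_stalk {X : Scheme.{u}} [IsLocallyNoetherian X] {F : X.Modules} (hF : Coh.IsCoh F)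
    {W : X.Opens} (hW : IsAffineOpen W) (h : Function.Bijective (LinearMap.lsmul Γ(X, W) Γ(F, W)))
    {x : X} (hx : x ∈ W) : Function.Bijective (LinearMap.lsmul (X.presheaf.stalk x) (F.presheaf.stalk x)) := by
  haveI := hF.1
  haveI : IsNoetherianRing Γ(X, W) := IsLocallyNoetherian.component_noetherian ⟨W, hW⟩
  haveI : Module.Finite Γ(X, W) Γ(F, W) := QCoh.moduleFinite_of_isFiniteType F hF.2 hW
  letI := X.presheaf.algebra_section_stalk ⟨x, hx⟩
  haveI := FlatFP.isLocalization_stalk_primeAt hW hx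
  letI : Module Γ(X, W) (F.presheaf.stalk x) := Module.compHom _ (X.presheaf.germ W x hx).hom
  haveI : IsScalarTower Γ(X, W) (X.presheaf.stalk x) (F.presheaf.stalk x) :=
    IsScalarTower.of_algebraMap_smul fun _ _ => rfl
  obtain ⟨g, hg, -⟩ := FlatFP.isLocalizedModule_germ (F := F) hW hx
  haveI := hg
  exact bijective_lsmul_localized (WeakAss.primeAt x hx).primeCompl g h

/-- A module all of whose stalk endomorphisms are scalars has structure sheaf of endomorphisms. -/
theorem nonempty_homSh_self_iso {X : Scheme.{u}} [IsLocallyNoetherian X] {F : X.Modules} (hF : Coh.IsCoh F)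
    (h : ∀ x : X, Function.Bijective (LinearMap.lsmul (X.presheaf.stalk x) (F.presheaf.stalk x))) :
    Nonempty (RefHull.homSh F F ≅ Coh.structureModule X) := by
  let φ : Coh.structureModule X ⟶ RefHull.homSh F F :=
    (RefHull.homSh F F).unitHomEquiv.symm (Ample.globalSection _ (RefHull.ofHom (𝟙 F) ⊤))
  have hφ : φ.app ⊤ (1 : Γ(X, ⊤)) = RefHull.ofHom (𝟙 F) ⊤ := by
    have h1 := congrArg (fun σ : (RefHull.homSh F F).sections => σ.val (Opposite.op ⊤))
      ((RefHull.homSh F F).unitHomEquiv.apply_symm_apply (Ample.globalSection _ (RefHull.ofHom (𝟙 F) ⊤)))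
    refine h1.trans ?_
    exact InvExt.mres_self _ _
  haveI : IsIso φ := by
    refine (OX.isIso_iff φ).2 fun x => (ConcreteCategory.isIso_iff_bijective _).2 ?_
    change Function.Bijective (QCoh.stalkLin φ x)
    refine (Function.Bijective.of_comp_iff _ (HomSh.unitStalk x).bijective).1 ?_
    refine (Function.Bijective.of_comp_iff' ((HomSh.hasRel_of_isCoh hF).evalStalk_bijective F x) _).1 ?_
    convert h x using 1
    refine funext fun c => ?_
    show RefHull.evalStalk F F x (QCoh.stalkLin φ x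
      (c • (Coh.structureModule X).presheaf.germ ⊤ x trivial (1 : Γ(X, ⊤)))) = _
    rw [map_smul, QCoh.stalkLin_germ, hφ, map_smul, RefHull.evalStalk_germ, RefHull.ofHom_apply]
    refine LinearMap.ext fun v => ?_
    obtain ⟨V, hV, s, rfl⟩ := TopCat.Presheaf.exists_germ_eq F.presheaf v
    rw [LinearMap.smul_apply, RefHull.stalkMapₗ_germ]
    rfl
  exact ⟨(asIso φ).symm⟩

end GrothLib.DualFree20

end
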