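import Groth.Agent.Lib.DualFree20.CMFibres
import Groth.Agent.Lib.OX.PCohQCoh
import Groth.Agent.Lib.QCoh.SupportPullback
import Groth.Agent.Lib.RightAdj20.RelDualFinal

/-!
# The relative dualizing complex of a Cohen–Macaulay morphism over an arbitrary affine base
-/

set_option autoImplicit false
set_option linter.all false
set_option backward.isDefEq.respectTransparency false
set_option maxHeartbeats 1600000

universe u

open CategoryTheory CategoryTheory.Limits AlgebraicGeometry TopologicalSpace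
attribute [local instance] HasDerivedCategory.standard

noncomputable section

namespace GrothLib.DualFree20

open GrothLib.OX GrothLib.RightAdj22 GrothLib.ShriekBridge22

variable {A : Type u} [CommRing A] {X : Scheme.{u}} (f : X ⟶ Spec (CommRingCat.of A)) [IsProper f] [Flat f]
  [LocallyOfFinitePresentation f] [DCoh.HasRpush f] (hf : DCoh.RpushPreservesQCoh f)
  {a : DCoh.DQCoh (Spec (CommRingCat.of A)) ⥤ DCoh.DQCoh X} (adj : DCoh.RpushQ f hf ⊣ a)
  (W : DCoh.DQCoh (Spec (CommRingCat.of A)))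
  (hW : Nonempty (W.obj ≅ DCoh.inD _ (Coh.structureModule (Spec (CommRingCat.of A)))))
  (hCM : ∀ x : X, MoreMor.IsCMAt f x) (n : ℕ)
  (hd : ∀ (s : ↥(Spec (CommRingCat.of A))) (Z : Set ↥(f.fiber s)),
    Z ∈ irreducibleComponents ↥(f.fiber s) → topologicalKrullDim ↥Z = (n : WithBot ℕ∞))

omit [Flat f] [DCoh.HasRpush f] [LocallyOfFinitePresentation f] in
include hd in
theorem fibreDimAt_eq (x : X) : FlatMor.fibreDimAt f x = (n : WithBot ℕ∞) := by
  haveI : LocallyOfFiniteType (f.fiberToSpecResidueField (f x)) :=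
    MorphismProperty.pullback_snd _ _ (inferInstance : LocallyOfFiniteType f)
  exact GrothLib.CodimExt27.localDim_eq_of_pure (k := (Spec (CommRingCat.of A)).residueField (f x))
    (f.fiberToSpecResidueField (f x)) (hd (f x)) (f.asFiber x)

/-- The data of a fibre: the dualizing complex of the fibre is the restriction of that of the family, and it is one
module in degree `-n`, nonzero at every point. -/
theorem exists_fibre_data (adj : DCoh.RpushQ f hf ⊣ a)
    (hW : Nonempty (W.obj ≅ DCoh.inD _ (Coh.structureModule (Spec (CommRingCat.of A)))))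
    (hCM : ∀ x : X, MoreMor.IsCMAt f x)
    (hd : ∀ (s : ↥(Spec (CommRingCat.of A))) (Z : Set ↥(f.fiber s)),
      Z ∈ irreducibleComponents ↥(f.fiber s) → topologicalKrullDim ↥Z = (n : WithBot ℕ∞))
    (t : Spec (CommRingCat.of A)) [DCoh.HasLpull (f.fiberι t)] :
    (∀ i : ℤ, i ≠ -(n : ℤ) → IsZero (DCoh.HD ((DCoh.Lpull (f.fiberι t)).obj (a.obj W).obj) i)) ∧
      (∀ z : f.fiber t, Nontrivial
        ((DCoh.HD ((DCoh.Lpull (f.fiberι t)).obj (a.obj W).obj) (-(n : ℤ))).presheaf.stalk z)) ∧
      (Nonempty (f.fiber t) → ∃ G : (f.fiber t).Modules, G.IsQuasicoherent ∧ ¬ Subsingleton (Coh.HH (f.fiber t) G n)) := by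
  let κ := (Spec (CommRingCat.of A)).residueField t
  let f' : f.fiber t ⟶ Spec (CommRingCat.of κ) := f.fiberToSpecResidueField t
  let φ : CommRingCat.of A ⟶ κ := Spec.preimage ((Spec (CommRingCat.of A)).fromSpecResidueField t)
  have hsq : IsPullback (f.fiberι t) f' f (Spec.map (CommRingCat.ofHom φ.hom)) := by
    change IsPullback (f.fiberι t) f' f (Spec.map φ)
    rw [Spec.map_preimage]
    exact IsPullback.of_hasPullback _ _
  haveI : IsProper f' := MorphismProperty.of_isPullback hsq (inferInstance : IsProper f)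
  haveI : Flat f' := MorphismProperty.of_isPullback hsq (inferInstance : Flat f)
  haveI : CompactSpace (f.fiber t) := QuasiCompact.compactSpace_of_compactSpace f'
  haveI : QuasiSeparatedSpace (f.fiber t) := quasiSeparatedSpace_of_quasiSeparated f'
  haveI : DCoh.HasRpush f' := KInj.hasRightDerivedFunctor _
  have hf' : DCoh.RpushPreservesQCoh f' := fun L hL =>
    GrothLib.KSix19.BettiExact.isQCohD_of_iso' ((rpushIsoRres f').app L).symm (isQCohD_Rres f' L hL)
  haveI : (DCoh.RpushQ f' hf').IsLeftAdjoint := OX.isLeftAdjoint_lift_Rpush f' hf'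
  let adj' := Adjunction.ofIsLeftAdjoint (DCoh.RpushQ f' hf')
  let W' : DCoh.DQCoh (Spec (CommRingCat.of κ)) := ⟨DCoh.inD _ (Coh.structureModule _),
    KSix19.RpushAmp.isQCohD_inD _
      (inferInstanceAs (Coh.structureModule (Spec (CommRingCat.of κ))).IsQuasicoherent)⟩
  obtain ⟨e⟩ := RightAdj20.nonempty_lpull_adjoint φ.hom hsq hf adj W hW hf' adj' W' ⟨Iso.refl _⟩
  have hCM' : ∀ z, MoreMor.IsCMAt f' z := fun z => (GrothLib.CurveStk.ptProp_cm.baseChange hsq z).2 (hCM _)
  have hdim' : ∀ z, FlatMor.fibreDimAt f' z = (n : WithBot ℕ∞) := fun z =>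
    (GrothLib.AlgSp.fibreDimAt_of_isPullback hsq z).trans (fibreDimAt_eq f n hd _)
  obtain ⟨h1, -, h2⟩ := adjoint_oneDeg f' hf' adj' W' ⟨Iso.refl _⟩ hCM' n hdim'
  let E := fun i => (DerivedCategory.homologyFunctor (f.fiber t).Modules i).mapIso e
  refine ⟨fun i hi => (h1 i hi).of_iso (E i), fun z => (nontrivial_stalk_of_iso (E _) z).2 (h2 z), fun ⟨z⟩ => ?_⟩
  letI : (f.fiber t).Over (Spec (CommRingCat.of κ)) := ⟨f'⟩
  obtain ⟨tr, hq, hb⟩ := isDualizingSheaf_adjoint f' rfl n
    (fun s => (GrothLib.FibreBC.topologicalKrullDim_fiber hsq s).le.trans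
      (GrothLib.FibPd.topologicalKrullDim_le_of_components fun Z hZ => (hd _ Z hZ).le)) hf' adj' W' ⟨Iso.refl _⟩
  refine ⟨_, hq, fun hs => ?_⟩
  let ω₀ := DCoh.HD ((DCoh.RpushQ f' hf').rightAdjoint.obj W').obj (0 - (n : ℤ))
  have hid : 𝟙 ω₀ = 0 := (hb _ hq).1 (LinearMap.ext fun x => by
    rw [Subsingleton.elim (α := Coh.HH (f.fiber t) ω₀ n) x 0, map_zero, map_zero])
  have h0 : IsZero ω₀ := (IsZero.iff_id_eq_zero _).2 hid
  haveI := ModuleCat.subsingleton_of_isZero ((OX.isZero_iff _).1 h0 z)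
  exact not_nontrivial_iff_subsingleton.2 ‹_› ((nontrivial_stalk_of_iso (eqToIso (by rw [zero_sub])) z).1 (h2 z))

omit [Flat f] in
theorem exists_isLE_of_pseudo {m : ℤ} {K : DCoh.D X} [CompactSpace X] (h : DCoh.IsPseudoCoherentD m K) :
    ∃ b : ℤ, K.IsLE b := by
  choose U j hj hx hU using isPseudoCoherentD_iff.1 h
  choose b hb using fun x => exists_isLE_of_approx (hU x)
  obtain ⟨s, hs⟩ := isCompact_univ.elim_finite_subcover (fun x : X => Set.range (j x))
    (fun x => (hj x).base_open.isOpen_range) (fun x _ => Set.mem_iUnion.2 ⟨x, hx x⟩)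
  rcases s.eq_empty_or_nonempty with rfl | hne
  · exact ⟨0, OX.isLE_of_affines fun x => by simpa using hs (Set.mem_univ x)⟩
  · refine ⟨s.sup' hne b, OX.isLE_of_affines fun x => ?_⟩
    obtain ⟨y, hy, hxy⟩ := Set.mem_iUnion₂.1 (hs (Set.mem_univ x))
    haveI := hj y
    haveI := hb y
    exact ⟨U y, j y, hj y, hxy, DerivedCategory.TStructure.t.isLE_of_le _ (b y) _ (Finset.le_sup' b hy)⟩

include adj hW hCM hd in
/-- **`f^! O` has no cohomology above `-n`.** -/
theorem isLE_adjoint_cm : (a.obj W).obj.IsLE (-(n : ℤ)) := by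
  haveI : CompactSpace X := QuasiCompact.compactSpace_of_compactSpace f
  haveI : QuasiSeparatedSpace X := quasiSeparatedSpace_of_quasiSeparated f
  let K := (a.obj W).obj
  have hpc : ∀ m : ℤ, DCoh.IsPseudoCoherentD m K := (RightAdj20.relPerf_adjoint f hf adj W hW).1
  obtain ⟨b, hb⟩ := exists_isLE_of_pseudo (hpc 0)
  suffices h : ∀ (j : ℕ) (c : ℤ), c = b - j → -(n : ℤ) ≤ c → K.IsLE c by
    rcases le_total b (-(n : ℤ)) with hle | hle
    · exact DerivedCategory.TStructure.t.isLE_of_le _ b _ hle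
    · exact h (b + n).toNat _ (by omega) le_rfl
  intro j
  induction j with
  | zero => intro c hc _; rw [show c = b by simpa using hc]; exact hb
  | succ j ih =>
    intro c hc hn
    haveI : K.IsLE (c + 1) := ih (c + 1) (by omega) (by omega)
    have hz : IsZero (DCoh.HD K (c + 1)) := by
      have hft : CohB1.IsFT (DCoh.HD K (c + 1)) :=
        isFT_HD_top (hpc (c + 1)) fun i hi => DerivedCategory.isZero_of_isLE K (c + 1) i hi
      refine GrothLib.OX.isZero_of_subsingleton_stalks _ fun x => ?_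
      haveI := OX.hasLpull (f.fiberι (f x))
      obtain ⟨h1, -, -⟩ := exists_fibre_data f hf W n adj hW hCM hd (f x)
      obtain ⟨l⟩ := GrothLib.ThickDesc6.nonempty_hd_lpull_top (f.fiberι (f x)) K (c + 1) inferInstance
      have h0 : IsZero ((Scheme.Modules.pullback (f.fiberι (f x))).obj (DCoh.HD K (c + 1))) :=
        (h1 (c + 1) (by omega)).of_iso l.symm
      by_contra hx
      have hmem : f.asFiber x ∈ (f.fiberι (f x)).base ⁻¹' CohB1.support (DCoh.HD K (c + 1)) := by
        show (f.fiberι (f x)) (f.asFiber x) ∈ CohB1.support _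
        rw [Scheme.Hom.fiberι_asFiber]
        exact hx
      rw [← GrothLib.QCoh.support_pullback (f.fiberι (f x)) _ ⟨(a.obj W).property _, hft⟩] at hmem
      exact hmem (ModuleCat.subsingleton_of_isZero ((OX.isZero_iff _).1 h0 (f.asFiber x)))
    refine (DerivedCategory.isLE_iff _ _).2 fun i hi => ?_
    rcases eq_or_lt_of_le (show c + 1 ≤ i by omega) with rfl | hlt
    · exact hz
    · exact DerivedCategory.isZero_of_isLE K (c + 1) i hlt

end GrothLib.DualFree20

end
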