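import Groth.Prelude.Def_Canon
import Groth.Agent.Lib.DualQCoh12.Twists
import Groth.Agent.Lib.RightAdj22.TopRepApps
import Groth.Agent.Lib.LM28.HomIso
import Groth.Agent.Lib.FormalFun.HomComplete
import Groth.Agent.Lib.CurveSerre11.Numbers
import Groth.Agent.Lib.ArSurf29.RankLength
import Groth.Agent.Lib.HomRestrict20.Basic
import Groth.Agent.Lib.LocFreeDual20.Ext
import Groth.Agent.Lib.QCoh.DevissageSummands

/-!
# Dualizing pairs over a discrete valuation ring
-/

set_option autoImplicit false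
set_option linter.all false
set_option backward.isDefEq.respectTransparency false
set_option maxHeartbeats 1000000

universe u

open CategoryTheory CategoryTheory.Limits AlgebraicGeometry Opposite TopologicalSpace

noncomputable section

namespace GrothLib.DualFree20

attribute [local instance] LocFreeHom.hasSheafHom

/-- The dual of a finite module over a principal ideal domain has the same rank. -/
theorem finrank_dual_eq (A : Type u) [CommRing A] [IsDomain A] [IsPrincipalIdealRing A] (M : Type u)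
    [AddCommGroup M] [Module A M] [Module.Finite A M] :
    Module.finrank A (M →ₗ[A] A) = Module.finrank A M := by
  let T := Submodule.torsion A M
  haveI : Module.IsTorsionFree A (M ⧸ T) := inferInstance
  haveI : Module.Free A (M ⧸ T) := Module.free_of_finite_type_torsion_free'
  let e : ((M ⧸ T) →ₗ[A] A) ≃ₗ[A] (M →ₗ[A] A) := LinearEquiv.ofBijective (LinearMap.lcomp A A T.mkQ) (by
    refine ⟨fun a b h => LinearMap.ext fun x => ?_, fun ψ => ⟨T.liftQ ψ fun x hx => ?_, LinearMap.ext fun x => rfl⟩⟩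
    · obtain ⟨m, rfl⟩ := T.mkQ_surjective x
      exact LinearMap.congr_fun h m
    · obtain ⟨⟨a, ha⟩, h⟩ := (Submodule.mem_torsion_iff x).1 hx
      have h' : a * ψ x = 0 := by
        have := congrArg ψ h
        rw [Submonoid.mk_smul, map_smul, map_zero, smul_eq_mul] at this
        exact this
      exact LinearMap.mem_ker.2 ((mul_eq_zero.1 h').resolve_left (nonZeroDivisors.ne_zero ha)))
  rw [← e.finrank_eq, Module.finrank_linearMap, Module.finrank_self, mul_one,
    finrank_quotient_eq_of_le_torsion le_rfl]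

variable {A : Type u} [CommRing A] {X : Scheme.{u}} [X.Over (Spec (CommRingCat.of A))]
  {ω : X.Modules} {tr : Coh.HH X ω 1 →ₗ[A] A} (hω : Canon.IsRDualOver A X 1 ω tr)

local notation "π" => (X ↘ Spec (CommRingCat.of A))

theorem hhMap_add {M N : X.Modules} (φ φ' : M ⟶ N) (n : ℕ) (x : Coh.HH X M n) :
    Cohom.hhMap A (φ + φ') n x = Cohom.hhMap A φ n x + Cohom.hhMap A φ' n x := by
  show Sheaf.H.map ((SheafOfModules.toSheaf X.ringCatSheaf).map (φ + φ')) n x = _
  rw [Functor.map_add]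
  exact Sheaf.H.map_add_apply _ _ x

theorem hhMap_zero {M N : X.Modules} (n : ℕ) (x : Coh.HH X M n) :
    Cohom.hhMap A (0 : M ⟶ N) n x = 0 :=
  left_eq_add.1 (Eq.trans (by rw [add_zero]) (hhMap_add (0 : M ⟶ N) 0 n x))

theorem hhMap_smulMod (M : X.Modules) (c : A) (n : ℕ) (x : Coh.HH X M n) :
    Cohom.hhMap A (Euler.smulMod M (Coh.toGlobal π c)) n x = c • x := rfl

/-- The map classified by a form. -/
def homOf {F : X.Modules} (hF : Coh.IsQCoh F) (ψ : Coh.HH X F 1 →ₗ[A] A) : F ⟶ ω :=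
  ((hω.2 F hF).2 ψ).choose

theorem homOf_spec {F : X.Modules} (hF : Coh.IsQCoh F) (ψ : Coh.HH X F 1 →ₗ[A] A) (x : Coh.HH X F 1) :
    tr (Cohom.hhMap A (homOf hω hF ψ) 1 x) = ψ x :=
  LinearMap.congr_fun ((hω.2 F hF).2 ψ).choose_spec x

include hω in
theorem hom_ext {F : X.Modules} (hF : Coh.IsQCoh F) {a b : F ⟶ ω}
    (h : ∀ x, tr (Cohom.hhMap A a 1 x) = tr (Cohom.hhMap A b 1 x)) : a = b :=
  (hω.2 F hF).1 (LinearMap.ext h)

/-- Two dualizing pairs have isomorphic modules. -/
theorem nonempty_iso {ω' : X.Modules} {tr' : Coh.HH X ω' 1 →ₗ[A] A} (hω' : Canon.IsRDualOver A X 1 ω' tr')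
    (hω : Canon.IsRDualOver A X 1 ω tr) : Nonempty (ω' ≅ ω) :=
  ⟨{ hom := homOf hω hω'.1 tr'
     inv := homOf hω' hω.1 tr
     hom_inv_id := hom_ext hω' hω'.1 fun x => by
       rw [Euler.hhMap_comp, Euler.hhMap_id, homOf_spec, homOf_spec]
     inv_hom_id := hom_ext hω hω.1 fun x => by
       rw [Euler.hhMap_comp, Euler.hhMap_id, homOf_spec, homOf_spec] }⟩

include hω in
/-- The module of a dualizing pair of a proper scheme with fibres of dimension at most one is coherent. -/
theorem isCoh_of_pair [IsNoetherianRing A] [IsProper π]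
    (hfib : ∀ y : ↥(Spec (CommRingCat.of A)), topologicalKrullDim ↥((π).fiber y) ≤ ((1 : ℕ) : WithBot ℕ∞)) :
    Coh.IsCoh ω := by
  haveI : IsLocallyNoetherian X := LocallyOfFiniteType.isLocallyNoetherian π
  obtain ⟨ω', hq, hc, t, ht⟩ := RightAdj22.exists_pair_affine (A := A) X 1
    (fun M hM q hq => RightAdj22.isZero_Rpush_of_fibreDim π 1 hfib M hM q hq)
  have hω' : Canon.IsRDualOver A X 1 ω' t := ⟨hq, fun F hF => by
    refine ⟨fun a b h => ?_, fun ψ => ?_⟩
    · exact (ht F hF (Canon.dualityMap A X 1 ω' t F a)).unique (fun x => rfl)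
        (fun x => LinearMap.congr_fun h x)
    · obtain ⟨φ, hφ, -⟩ := ht F hF ψ
      exact ⟨φ, LinearMap.ext fun x => (hφ x).symm⟩⟩
  obtain ⟨e⟩ := nonempty_iso hω' hω
  exact QCoh.isCoh_of_iso e (hc inferInstance)

include hω in
/-- Global sections of `ℋom(F, ω)` have the rank of `H¹(F)`. -/
theorem finrank_H0_homSh [IsDomain A] [IsPrincipalIdealRing A] [IsProper π] (F : X.Modules) (hF : Coh.IsCoh F) :
    Module.finrank A (Coh.HH X (RefHull.homSh F ω) 0) = Module.finrank A (Coh.HH X F 1) := by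
  haveI : IsLocallyNoetherian X := LocallyOfFiniteType.isLocallyNoetherian π
  haveI := ProjCoh.moduleFinite_HH A F hF 1
  let e := ProjCoh.H0top (RefHull.homSh F ω)
  have hlin : ∀ (φ : F ⟶ ω) (c : A),
      RefHull.ofHom (φ ≫ Euler.smulMod ω (Coh.toGlobal π c)) ⊤ =
        (show Γ(X, ⊤) from Coh.toGlobal π c) • RefHull.ofHom φ ⊤ := fun φ c =>
    Subtype.ext (funext fun y => LinearMap.ext fun v => by
      obtain ⟨V, hV, m, rfl⟩ := TopCat.Presheaf.exists_germ_eq F.presheaf v
      show RefHull.stalkMapₗ (φ ≫ Euler.smulMod ω _) y.1 _ = X.presheaf.germ ⊤ y.1 y.2 _ • RefHull.stalkMapₗ φ y.1 _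
      rw [RefHull.stalkMapₗ_germ, RefHull.stalkMapₗ_germ]
      refine (congrArg (ω.presheaf.germ V y.1 hV) (Euler.smulMod_app ω _ V (φ.app V m))).trans ?_
      rw [Mero.germ_smul, TopCat.Presheaf.germ_res_apply])
  have hadd : ∀ φ φ' : F ⟶ ω, RefHull.ofHom (φ + φ') ⊤ = RefHull.ofHom φ ⊤ + RefHull.ofHom φ' ⊤ := fun φ φ' =>
    Subtype.ext (funext fun y => LinearMap.ext fun v => by
      obtain ⟨V, hV, m, rfl⟩ := TopCat.Presheaf.exists_germ_eq F.presheaf v
      show RefHull.stalkMapₗ (φ + φ') y.1 _ = RefHull.stalkMapₗ φ y.1 _ + RefHull.stalkMapₗ φ' y.1 _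
      rw [RefHull.stalkMapₗ_germ, RefHull.stalkMapₗ_germ, RefHull.stalkMapₗ_germ, ← map_add]
      rfl)
  have hadd' : ∀ ψ ψ', homOf hω hF.1 (ψ + ψ') = homOf hω hF.1 ψ + homOf hω hF.1 ψ' := fun ψ ψ' =>
    hom_ext hω hF.1 fun x => by rw [hhMap_add, map_add, homOf_spec, homOf_spec, homOf_spec]; rfl
  have hsmul' : ∀ (c : A) ψ, homOf hω hF.1 (c • ψ) = homOf hω hF.1 ψ ≫ Euler.smulMod ω (Coh.toGlobal π c) :=
    fun c ψ => hom_ext hω hF.1 fun x => by
      rw [Euler.hhMap_comp, hhMap_smulMod, map_smul, homOf_spec, homOf_spec]; rfl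
  let L : (Coh.HH X F 1 →ₗ[A] A) →ₗ[A] Coh.HH X (RefHull.homSh F ω) 0 :=
    { toFun := fun ψ => e.symm (RefHull.ofHom (homOf hω hF.1 ψ) ⊤)
      map_add' := fun ψ ψ' => by rw [hadd', hadd, map_add]
      map_smul' := fun c ψ => by
        apply e.injective
        rw [RingHom.id_apply, ProjCoh.H0top_smul, AddEquiv.apply_symm_apply, AddEquiv.apply_symm_apply,
          hsmul', hlin] }
  have hL : Function.Bijective L := by
    refine ⟨fun ψ ψ' he => LinearMap.ext fun x => ?_, fun y => ?_⟩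
    · have he' := e.symm.injective he
      rw [← homOf_spec hω hF.1 ψ x, ← homOf_spec hω hF.1 ψ' x]
      congr 2
      refine congrArg (fun φ => Cohom.hhMap A φ 1) ?_
      refine Scheme.Modules.hom_ext _ _ fun V => AddCommGrpCat.ext fun m => LM28.ext_germ ω fun y hy => ?_
      rw [← RefHull.stalkMapₗ_germ, ← RefHull.stalkMapₗ_germ]
      exact LinearMap.congr_fun (congrArg (fun g : Γ(RefHull.homSh F ω, ⊤) => g.1 ⟨y, trivial⟩) he') _
    · obtain ⟨φ, hφ⟩ := FormalFun.exists_hom_of_section (e y)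
      refine ⟨tr ∘ₗ Cohom.hhMap A φ 1, ?_⟩
      show e.symm (RefHull.ofHom (homOf hω hF.1 _) ⊤) = y
      rw [show homOf hω hF.1 (tr ∘ₗ Cohom.hhMap A φ 1) = φ from hom_ext hω hF.1 fun x => homOf_spec hω hF.1 _ x,
        AddEquiv.symm_apply_eq]
      refine Subtype.ext (funext fun z => LinearMap.ext fun v => ?_)
      refine Eq.trans ?_ (hφ z.1 v)
      obtain ⟨V, hV, m, rfl⟩ := TopCat.Presheaf.exists_germ_eq F.presheaf v
      show RefHull.stalkMapₗ φ z.1 _ = _
      rw [RefHull.stalkMapₗ_germ, QCoh.stalkLin_germ]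
  rw [← (LinearEquiv.ofBijective L hL).finrank_eq, finrank_dual_eq]

/-- Every global section is the image of `1`. -/
theorem exists_hom_structure {Q : X.Modules} (q : Coh.HH X Q 0) :
    ∃ s : Coh.structureModule X ⟶ Q,
      Cohom.hhMap A s 0 ((ProjCoh.H0top (Coh.structureModule X)).symm
        (show Γ(Coh.structureModule X, ⊤) from (1 : Γ(X, ⊤)))) = q := by
  refine ⟨(SheafOfModules.unitHomEquiv Q).symm (FreeRetract9.secOf Q (ProjCoh.H0top Q q)), ?_⟩
  apply (ProjCoh.H0top Q).injective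
  refine (ProjCoh.H0top_map _ _).trans ?_
  rw [AddEquiv.apply_symm_apply]
  set s := (SheafOfModules.unitHomEquiv Q).symm (FreeRetract9.secOf Q (ProjCoh.H0top Q q))
  have h1 : (SheafOfModules.unitHomEquiv Q s).val (op ⊤) = ProjCoh.H0top Q q := by
    rw [Equiv.apply_symm_apply]
    exact (congrArg (fun p ↦ (AddCommGrpCat.Hom.hom p) _) (Q.presheaf.map_id (op ⊤)) : _)
  exact h1

section Free

include hω in
/-- If `H¹(O)` is free then `H¹(ω)` has no torsion. -/
theorem eq_zero_of_smul [IsNoetherianRing A] [IsDomain A] [IsProper π] (ϖ : A) (hϖ : ϖ ≠ 0)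
    (hfib : ∀ y : ↥(Spec (CommRingCat.of A)), topologicalKrullDim ↥((π).fiber y) ≤ ((1 : ℕ) : WithBot ℕ∞))
    (hcoh : Coh.IsCoh ω) (hfree : Module.Free A (Coh.HH X (Coh.structureModule X) 1))
    (x : Coh.HH X ω 1) (hx : ϖ • x = 0) : x = 0 := by
  haveI : IsLocallyNoetherian X := LocallyOfFiniteType.isLocallyNoetherian π
  haveI := hω.1
  let O := Coh.structureModule X
  have hO : Coh.IsCoh O := HomSh.isCoh_structureModule X
  let m : ω ⟶ ω := Euler.smulMod ω (Coh.toGlobal π ϖ)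
  have hker : Coh.IsCoh (kernel m) := QCoh.isCoh_kernel m hcoh hcoh
  haveI hm : Mono m := by
    refine Preadditive.mono_of_kernel_zero (hom_ext hω hker.1 fun y => ?_)
    have h1 : ϖ • Cohom.hhMap A (kernel.ι m) 1 y = 0 := by
      have h2 : Cohom.hhMap A (kernel.ι m ≫ m) 1 y = Cohom.hhMap A (0 : kernel m ⟶ ω) 1 y := by
        rw [kernel.condition]
      rw [Euler.hhMap_comp, hhMap_smulMod] at h2
      rw [h2]
      exact hhMap_zero 1 y
    have h3 : ϖ * tr (Cohom.hhMap A (kernel.ι m) 1 y) = 0 := by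
      rw [← smul_eq_mul, ← map_smul, h1, map_zero]
    rw [(mul_eq_zero.1 h3).resolve_left hϖ, hhMap_zero, map_zero]
  let Q := cokernel m
  let c : ω ⟶ Q := cokernel.π m
  have hQ : Coh.IsCoh Q := QCoh.isCoh_cokernel m hcoh hcoh
  have hS : (ShortComplex.mk m c (cokernel.condition m)).ShortExact :=
    { exact := ShortComplex.exact_of_g_is_cokernel _ (cokernelIsCokernel m) }
  obtain ⟨q, hq⟩ := (Cohom.exact₁ (A := A) hS 0 x).1 ((hhMap_smulMod ω ϖ 1 x).trans hx)
  obtain ⟨s, hs⟩ := exists_hom_structure (A := A) q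
  -- lift `s` through `c`
  let G := pullback c s
  have hG : Coh.IsCoh G :=
    QCoh.isCoh_of_iso ((Abelian.PullbackToBiproductIsKernel.isLimitPullbackToBiproduct c s).conePointUniqueUpToIso
      (limit.isLimit _)).symm
      (QCoh.isCoh_kernel _ (QCoh.isCoh_biprod' hcoh hO) hQ)
  let p : G ⟶ ω := pullback.fst c s
  let r : G ⟶ O := pullback.snd c s
  haveI : Epi r := inferInstance
  have hr : Function.Surjective (Cohom.hhMap A r 1) := DualQCoh12.surjective_HH_of_epi hfib hG hO r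
  let g0 : Coh.HH X G 1 →ₗ[A] A := tr ∘ₗ Cohom.hhMap A p 1
  let I : Ideal A := Ideal.span {ϖ}
  have hkerI : LinearMap.ker (Cohom.hhMap A r 1) ≤ LinearMap.ker (I.mkQ ∘ₗ g0) := by
    intro y hy
    have hS' : (ShortComplex.mk (kernel.ι r) r (kernel.condition r)).ShortExact :=
      { exact := ShortComplex.exact_of_f_is_kernel _ (kernelIsKernel r) }
    obtain ⟨z, rfl⟩ := (Cohom.exact₂ (A := A) hS' 1 y).1 hy
    have h0 : (kernel.ι r ≫ p) ≫ c = 0 := by
      rw [Category.assoc, show p ≫ c = r ≫ s from pullback.condition, ← Category.assoc, kernel.condition, zero_comp]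
    haveI : Mono (ShortComplex.mk m c (cokernel.condition m)).f := hm
    let l := hS.exact.lift (kernel.ι r ≫ p) h0
    have hl : l ≫ m = kernel.ι r ≫ p := hS.exact.lift_f _ h0
    show I.mkQ (tr (Cohom.hhMap A p 1 (Cohom.hhMap A (kernel.ι r) 1 z))) = 0
    rw [← Euler.hhMap_comp, ← hl, Euler.hhMap_comp, hhMap_smulMod, map_smul, Submodule.mkQ_apply,
      Submodule.Quotient.mk_eq_zero, Ideal.mem_span_singleton, smul_eq_mul]
    exact dvd_mul_right _ _
  let ψ : Coh.HH X O 1 →ₗ[A] A ⧸ I :=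
    (LinearMap.ker (Cohom.hhMap A r 1)).liftQ (I.mkQ ∘ₗ g0) hkerI ∘ₗ
      ((Cohom.hhMap A r 1).quotKerEquivOfSurjective hr).symm.toLinearMap
  obtain ⟨Ψ, hΨ⟩ := Module.projective_lifting_property I.mkQ ψ I.mkQ_surjective
  have hdiv : ∀ y, ϖ ∣ g0 y - Ψ (Cohom.hhMap A r 1 y) := fun y => by
    have h1 : ψ (Cohom.hhMap A r 1 y) = I.mkQ (g0 y) := by
      simp [ψ]
    rw [← hΨ, LinearMap.comp_apply, Submodule.mkQ_apply, Submodule.mkQ_apply, Submodule.Quotient.eq] at h1
    rw [← Ideal.mem_span_singleton, ← Ideal.neg_mem_iff, neg_sub]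
    exact h1
  choose g1 hg1 using hdiv
  let g1' : Coh.HH X G 1 →ₗ[A] A :=
    { toFun := g1
      map_add' := fun a b => mul_left_cancel₀ hϖ (by
        rw [mul_add, ← hg1, ← hg1, ← hg1, map_add, map_add, map_add]; ring)
      map_smul' := fun a b => mul_left_cancel₀ hϖ (by
        rw [RingHom.id_apply, smul_eq_mul, mul_left_comm, ← hg1, ← hg1, map_smul, map_smul, map_smul, smul_eq_mul,
          smul_eq_mul]; ring) }
  let φ := homOf hω hO.1 Ψ
  let φ' := homOf hω hG.1 g1'
  have hp : p = r ≫ φ + φ' ≫ m := hom_ext hω hG.1 fun y => by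
    rw [hhMap_add, map_add, Euler.hhMap_comp, Euler.hhMap_comp, hhMap_smulMod, map_smul, homOf_spec, homOf_spec,
      smul_eq_mul]
    show g0 y = _ + ϖ * g1 y
    rw [← hg1]; ring
  have hsφ : s = φ ≫ c := by
    rw [← cancel_epi r, ← show p ≫ c = r ≫ s from pullback.condition, hp, Preadditive.add_comp, Category.assoc,
      Category.assoc, cokernel.condition, comp_zero, add_zero]
  rw [← hq, ← hs, hsφ, Euler.hhMap_comp]
  exact ((Cohom.exact₃ (A := A) hS 0).apply_apply_eq_zero _)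

end Free

/-- Restriction to an open commutes with the sheaf Hom of coherent modules. -/
theorem nonempty_homSh_restrict [IsLocallyNoetherian X] {U : Scheme.{u}} [IsLocallyNoetherian U] (j : U ⟶ X)
    [IsOpenImmersion j] {F G : X.Modules} (hF : Coh.IsCoh F) (hG : Coh.IsCoh G) :
    Nonempty ((Scheme.Modules.pullback j).obj (RefHull.homSh F G) ≅
      RefHull.homSh ((Scheme.Modules.restrictFunctor j).obj F) ((Scheme.Modules.restrictFunctor j).obj G)) := by
  haveI : ModSite.HasSheafHom (O := X.sheaf) F := SheafCoh.hasSheafHom _ _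
  let F' := (Scheme.Modules.restrictFunctor j).obj F
  let G' := (Scheme.Modules.restrictFunctor j).obj G
  haveI : ModSite.HasSheafHom (O := U.sheaf) F' := SheafCoh.hasSheafHom _ _
  obtain ⟨a⟩ := LM28.nonempty_homSh_iso_coh F G hF hG
  obtain ⟨b⟩ := LM28.nonempty_homSh_iso_coh F' G' (Cohom.isCoh_restrict F hF j) (Cohom.isCoh_restrict G hG j)
  exact ⟨((Scheme.Modules.restrictFunctorIsoPullback j).app _).symm ≪≫
    (Scheme.Modules.restrictFunctor j).mapIso (a ≪≫ ((LocFreeDual20.siteHomIso F).app G).symm) ≪≫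
    (HomRestrict20.sheafHomRestrictIso j F).app G ≪≫ (LocFreeDual20.siteHomIso F').app G' ≪≫ b.symm⟩

end GrothLib.DualFree20

end
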