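import Groth.Agent.Lib.DualFree20.EndMain
import Groth.Agent.Lib.InvHartogs26.Basic
import Groth.Agent.Lib.CurveStk.Gor
import Groth.Agent.Lib.Euler.Basic

/-!
# The relative canonical sheaf is reflexive when the fibres are Gorenstein in codimension one
-/

set_option autoImplicit false
set_option linter.all false
set_option backward.isDefEq.respectTransparency false
set_option maxHeartbeats 1600000

universe u

open CategoryTheory CategoryTheory.Limits AlgebraicGeometry TopologicalSpace
attribute [local instance] HasDerivedCategory.standard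

noncomputable section

namespace GrothLib.DualFree20

open GrothLib.OX GrothLib.RightAdj22

/-- The local ring of a fibre at a point, through any name of the point. -/
theorem ringKrullDim_fiber_congr {X S : Scheme.{u}} (f : X ⟶ S) (s : S) (z : f.fiber s) (x : X) (hx : f.fiberι s z = x) :
    ringKrullDim ((f.fiber s).presheaf.stalk z) = ringKrullDim ((f.fiber (f x)).presheaf.stalk (f.asFiber x)) := by
  obtain ⟨h1, k1⟩ := GrothLib.FibreFlat.fiberι_stalkMap' f s z x hx
  obtain ⟨h2, k2⟩ := GrothLib.FibreFlat.fiberι_stalkMap' f (f x) (f.asFiber x) x (f.fiberι_asFiber x)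
  exact ringKrullDim_eq_of_ringEquiv ((RingHom.quotientKerEquivOfSurjective h1).symm.trans
    ((Ideal.quotEquivOfEq (k1.trans k2.symm)).trans (RingHom.quotientKerEquivOfSurjective h2)))

/-- A closed subspace of local codimension at least two has dimension at most two less. -/
theorem krullDim_le_pred_two {T : Scheme.{u}} {C : Type u} [TopologicalSpace C]
    {e : C → T} (he : Topology.IsClosedEmbedding e) (d : ℕ)
    (hT : topologicalKrullDim T ≤ (d : WithBot ℕ∞))
    (h : ∀ c, (2 : WithBot ℕ∞) ≤ ringKrullDim (T.presheaf.stalk (e c))) :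
    topologicalKrullDim C ≤ ((d - 2 : ℕ) : WithBot ℕ∞) ∧ (Nonempty C → 2 ≤ d) := by
  let F : IrreducibleCloseds C → IrreducibleCloseds T := fun L =>
    ⟨e '' L, L.isIrreducible.image _ he.continuous.continuousOn, he.isClosedMap _ L.isClosed⟩
  have hF : StrictMono F := fun L M hLM => by
    refine lt_of_le_of_ne (Set.image_mono hLM.le) fun heq => hLM.ne (IrreducibleCloseds.ext ?_)
    exact he.injective.image_injective (congrArg (fun Z : IrreducibleCloseds T => (Z : Set T)) heq)
  have key : ∀ p : LTSeries (IrreducibleCloseds C), ((p.length + 2 : ℕ) : WithBot ℕ∞) ≤ (d : WithBot ℕ∞) := by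
    intro p
    obtain ⟨η, hη⟩ := QuasiSober.sober (F p.last).isIrreducible (F p.last).isClosed
    obtain ⟨c, -, hc⟩ : η ∈ e '' (p.last : Set C) := hη.mem
    have h2 : (2 : ℕ∞) ≤ Order.coheight η := by
      have := h c
      rw [hc, ringKrullDim_stalk_eq_coheight] at this
      exact WithBot.coe_le_coe.1 this
    obtain ⟨q, hq, hq2⟩ := Order.exists_series_of_le_coheight η (n := 2) h2
    let G : T → IrreducibleCloseds T := fun a => ⟨closure {a}, isIrreducible_singleton.closure, isClosed_closure⟩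
    have hG : StrictMono G := fun a b hab => by
      have hs : b ⤳ a := Scheme.le_iff_specializes.1 hab.le
      refine lt_of_le_of_ne (closure_minimal (Set.singleton_subset_iff.2 hs.mem_closure) isClosed_closure)
        fun heq => hab.ne ?_
      exact Inseparable.eq (inseparable_iff_closure_eq.2 (congrArg (fun Z : IrreducibleCloseds T => (Z : Set T)) heq))
    have hglue : (p.map F hF).last = (q.map G hG).head := by
      rw [LTSeries.last_map, LTSeries.head_map, hq]
      exact IrreducibleCloseds.ext hη.def.symm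
    refine le_trans ?_ hT
    have := Order.LTSeries.length_le_krullDim (RelSeries.smash (p.map F hF) (q.map G hG) hglue)
    simpa [topologicalKrullDim, LTSeries.map, hq2] using this
  refine ⟨iSup_le fun p => ?_, fun ⟨c⟩ => ?_⟩
  · have := key p
    rw [Nat.cast_le] at this
    exact_mod_cast (show p.length ≤ d - 2 by omega)
  · have := key (RelSeries.singleton _ ⟨closure {c}, isIrreducible_singleton.closure, isClosed_closure⟩)
    rw [Nat.cast_le] at this
    simpa using this

/-- Where the fibre of an `S₂` morphism has dimension two the local ring has depth two. -/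
theorem two_le_depth_of_fibre {X S : Scheme.{u}} (f : X ⟶ S) [IsLocallyNoetherian X] [IsLocallyNoetherian S]
    (hS : RelCanon.IsSkMor f 2) (x : X)
    (hx : (2 : WithBot ℕ∞) ≤ ringKrullDim ((f.fiber (f x)).presheaf.stalk (f.asFiber x))) :
    (2 : ℕ∞) ≤ LocCoh.depth (X.presheaf.stalk x) (X.presheaf.stalk x) := by
  haveI : Flat f := hS.1
  let F := (f.fiber (f x)).presheaf.stalk (f.asFiber x)
  haveI : IsNoetherianRing F := GrothLib.DimCut.isNoetherianRing_stalk_fiber f _ _
  haveI : Module.Finite F ((Coh.structureModule (f.fiber (f x))).presheaf.stalk (f.asFiber x)) :=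
    Module.Finite.equiv (HomSh.unitStalk (X := f.fiber (f x)) (f.asFiber x))
  have hb : GrothLib.SyntLoc.SkBound 2 F := GrothLib.SyntLoc.skBound_of_hasSk
    (GrothLib.SkExt.hasSk_congr (HomSh.unitStalk (X := f.fiber (f x)) (f.asFiber x)).symm (hS.2.2 x))
  unfold GrothLib.SyntLoc.SkBound at hb
  rw [min_eq_left (by exact_mod_cast hx)] at hb
  have hF : (2 : ℕ∞) ≤ LocCoh.depth F F := WithBot.coe_le_coe.1 hb
  letI := (f.stalkMap x).hom.toAlgebra
  haveI : IsLocalHom (algebraMap (S.presheaf.stalk (f x)) (X.presheaf.stalk x)) :=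
    inferInstanceAs (IsLocalHom (f.stalkMap x).hom)
  haveI : Module.Flat (S.presheaf.stalk (f x)) (X.presheaf.stalk x) := Flat.stalkMap f x
  obtain ⟨hsurj, hker⟩ := GrothLib.FibreFlat.fiberι_stalkMap' f (f x) (f.asFiber x) x (f.fiberι_asFiber x)
  let J := (IsLocalRing.maximalIdeal (S.presheaf.stalk (f x))).map
    (algebraMap (S.presheaf.stalk (f x)) (X.presheaf.stalk x))
  let e : (X.presheaf.stalk x ⧸ J) ≃+* F :=
    (Ideal.quotEquivOfEq hker.symm).trans (RingHom.quotientKerEquivOfSurjective hsurj)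
  haveI : IsLocalRing (X.presheaf.stalk x ⧸ J) := e.symm.isLocalRing
  rw [GrothLib.CMMor6.depth_eq_add (A := S.presheaf.stalk (f x))]
  refine le_trans ?_ le_add_self
  refine hF.trans (le_of_eq ?_)
  letI : Algebra (X.presheaf.stalk x ⧸ J) F := e.toRingHom.toAlgebra
  haveI : Module.Finite (X.presheaf.stalk x ⧸ J) F := Module.Finite.of_surjective (Algebra.linearMap _ _) e.surjective
  rw [← GrothLib.Faltings.depth_eq_of_surjective (A := X.presheaf.stalk x ⧸ J) e.surjective F]
  exact (GrothLib.Depth.idealDepth_eq_of_equiv _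
    (LinearEquiv.ofBijective (Algebra.linearMap (X.presheaf.stalk x ⧸ J) F) e.bijective)).symm

variable {A : Type u} [CommRing A] [IsNoetherianRing A] {Y : Scheme.{u}} [Y.Over (Spec (CommRingCat.of A))]
  [IsProper (Y ↘ Spec (CommRingCat.of A))]

/-- A coherent module supported in codimension two of the fibres has no cohomology in the two top degrees. -/
theorem subsingleton_HH_of_codim_two (d : ℕ)
    (hd : ∀ t, topologicalKrullDim ↥((Y ↘ Spec (CommRingCat.of A)).fiber t) ≤ (d : WithBot ℕ∞))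
    (Z : Closeds Y)
    (hZ : ∀ y ∈ (Z : Set Y), (2 : WithBot ℕ∞) ≤ ringKrullDim (((Y ↘ Spec (CommRingCat.of A)).fiber
      ((Y ↘ Spec (CommRingCat.of A)) y)).presheaf.stalk ((Y ↘ Spec (CommRingCat.of A)).asFiber y)))
    (hne : (Z : Set Y).Nonempty) {G : Y.Modules} (hG : Coh.IsCoh G) (hs : CohB1.support G ⊆ (Z : Set Y)) :
    2 ≤ d ∧ ∀ i, d ≤ i + 1 → Subsingleton (Coh.HH Y G i) := by
  let f := Y ↘ Spec (CommRingCat.of A)
  haveI : IsLocallyNoetherian Y := LocallyOfFiniteType.isLocallyNoetherian f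
  haveI : CompactSpace Y := QuasiCompact.compactSpace_of_compactSpace f
  haveI : AlgebraicGeometry.IsNoetherian Y := {}
  let I := Scheme.IdealSheafData.vanishingIdeal Z
  let ι := I.subschemeι
  have hr : Set.range ι = (Z : Set Y) := by
    rw [Scheme.IdealSheafData.range_subschemeι]; rfl
  let g : I.subscheme ⟶ Spec (CommRingCat.of A) := ι ≫ f
  haveI : IsProper g := inferInstanceAs (IsProper (ι ≫ f))
  have key : ∀ t, topologicalKrullDim ↥(g.fiber t) ≤ ((d - 2 : ℕ) : WithBot ℕ∞) ∧ (Nonempty (g.fiber t) → 2 ≤ d) := by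
    intro t
    let r : g ⁻¹' {t} → f ⁻¹' {t} := fun z => ⟨ι z.1, z.2⟩
    have hre : Topology.IsClosedEmbedding r := ι.isClosedEmbedding.restrictPreimage (f ⁻¹' {t})
    let e : g.fiber t → f.fiber t := (f.fiberHomeo t).symm ∘ r ∘ (g.fiberHomeo t)
    have he : Topology.IsClosedEmbedding e :=
      (f.fiberHomeo t).symm.isClosedEmbedding.comp (hre.comp (g.fiberHomeo t).isClosedEmbedding)
    refine krullDim_le_pred_two he d (hd t) fun z => ?_
    have h1 : f.fiberι t (e z) = ι (g.fiberHomeo t z).1 := by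
      rw [← Scheme.Hom.fiberHomeo_apply]
      exact congrArg Subtype.val ((f.fiberHomeo t).apply_symm_apply _)
    rw [ringKrullDim_fiber_congr f t (e z) _ h1]
    exact hZ _ (hr ▸ Set.mem_range_self _)
  have hd2 : 2 ≤ d := by
    obtain ⟨y, hy⟩ := hne
    obtain ⟨z, rfl⟩ : y ∈ Set.range ι := hr.ge hy
    exact (key (g z)).2 ⟨(g.fiberHomeo (g z)).symm ⟨z, rfl⟩⟩
  refine ⟨hd2, fun i₀ hi₀ => ?_⟩
  refine SuppIso.subsingleton_HH_of_supp ι (d - 2) (fun G' hG' i hi => ?_) hG (by rwa [hr]) i₀ (by omega)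
  haveI := RpushSupp20.hasInjectiveResolutions I.subscheme
  obtain ⟨e, -, -⟩ := RightAdj22.exists_HH_Rpush g i
  have hz := RightAdj22.isZero_Rpush_of_fibreDim g (d - 2) (fun t => (key t).1) G' hG' i (by omega)
  haveI : Subsingleton Γ((Coh.Rpush g i).obj G', ⊤) :=
    AddCommGrpCat.subsingleton_of_isZero
      ((Functor.isZero_iff _).1 ((Scheme.Modules.toPresheaf _).map_isZero hz) (Opposite.op ⊤))
  exact (e G' hG').toEquiv.subsingleton

/-- **The relative canonical sheaf is reflexive.** -/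
theorem isReflexive_dualizing (d : ℕ)
    (hS : RelCanon.IsSkMor (Y ↘ Spec (CommRingCat.of A)) 2) (hd : Cyc.HasRelDim (Y ↘ Spec (CommRingCat.of A)) d)
    (ω : Y.Modules) (hω : RelCanon.IsDualizingSheaf A Y d ω)
    (hG : ∀ y : Y, y ∉ RelCanon.gorLocus (Y ↘ Spec (CommRingCat.of A)) →
      (2 : WithBot ℕ∞) ≤ ringKrullDim (((Y ↘ Spec (CommRingCat.of A)).fiber
        ((Y ↘ Spec (CommRingCat.of A)) y)).presheaf.stalk ((Y ↘ Spec (CommRingCat.of A)).asFiber y))) :
    RefHull.IsReflexive ω := by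
  let f := Y ↘ Spec (CommRingCat.of A)
  haveI : Flat f := hS.1
  haveI : LocallyOfFiniteType f := hS.2.1
  haveI : LocallyOfFinitePresentation f := GrothLib.LocProp.locallyOfFinitePresentation_of_isLocallyNoetherian f
  haveI : IsLocallyNoetherian Y := LocallyOfFiniteType.isLocallyNoetherian f
  have hdim : ∀ x : Y, FlatMor.fibreDimAt f x = (d : WithBot ℕ∞) := fun x => by
    haveI : LocallyOfFiniteType (f.fiberToSpecResidueField (f x)) :=
      MorphismProperty.pullback_snd _ _ (inferInstance : LocallyOfFiniteType f)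
    exact GrothLib.CodimExt27.localDim_eq_of_pure (k := (Spec (CommRingCat.of A)).residueField (f x))
      (f.fiberToSpecResidueField (f x)) (hd (f x)) (f.asFiber x)
  have hd' : ∀ s, topologicalKrullDim ↥(f.fiber s) ≤ (d : WithBot ℕ∞) :=
    fun s => GrothLib.FibPd.topologicalKrullDim_le_of_components fun Z hZ => (hd s Z hZ).le
  haveI : CompactSpace Y := QuasiCompact.compactSpace_of_compactSpace f
  haveI : QuasiSeparatedSpace Y := quasiSeparatedSpace_of_quasiSeparated f
  haveI : DCoh.HasRpush f := KInj.hasRightDerivedFunctor _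
  have hf : DCoh.RpushPreservesQCoh f := fun K hK =>
    GrothLib.KSix19.BettiExact.isQCohD_of_iso' ((rpushIsoRres f).app K).symm (isQCohD_Rres f K hK)
  haveI : (DCoh.RpushQ f hf).IsLeftAdjoint := OX.isLeftAdjoint_lift_Rpush f hf
  let adj := Adjunction.ofIsLeftAdjoint (DCoh.RpushQ f hf)
  let W₀ : DCoh.DQCoh (Spec (CommRingCat.of A)) := ⟨DCoh.inD _ (Coh.structureModule _),
    KSix19.RpushAmp.isQCohD_inD _ (inferInstanceAs (Coh.structureModule (Spec (CommRingCat.of A))).IsQuasicoherent)⟩
  let K := ((DCoh.RpushQ f hf).rightAdjoint.obj W₀).obj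
  obtain ⟨u⟩ := nonempty_iso_of_isDualizingSheaf (isDualizingSheaf_adjoint f rfl d hd' hf adj W₀ ⟨Iso.refl _⟩) hω
  let u' : DCoh.HD K (-(d : ℤ)) ≅ ω := eqToIso (by rw [zero_sub]) ≪≫ u
  let c : DEt.Compactification f := ⟨Y, 𝟙 Y, f, inferInstance, inferInstance, Category.id_comp f⟩
  haveI : DCoh.HasRpush c.fbar := ‹DCoh.HasRpush f›
  haveI : PreservesFiniteLimits (Scheme.Modules.restrictFunctor c.j) := inferInstance
  let η₀ : (Dual3.shriekC c (DCoh.RpushQ f hf).rightAdjoint).obj W₀ ≅ K := (RightAdj22.resDIdIso Y).app K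
  have hωc : Coh.IsCoh ω := GrothLib.QCoh.isCoh_of_iso u'
    (GrothLib.QCoh.isCoh_of_iso ((DerivedCategory.homologyFunctor _ _).mapIso η₀)
      (GrothLib.ShriekBridge22.isCoh_HD_shriekC_O f c hf adj W₀ ⟨Iso.refl _⟩ _))
  -- the good locus
  let O := Coh.structureModule Y
  haveI : O.IsQuasicoherent := inferInstanceAs (Coh.structureModule Y).IsQuasicoherent
  have hOc : Coh.IsCoh O := HomSh.isCoh_structureModule Y
  haveI : O.IsFiniteType := hOc.2
  let H := RefHull.ddual ω
  let b : ω ⟶ H := RefHull.bidualMap ω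
  have hrel := HomSh.hasRel_of_isCoh hωc
  have hHc : Coh.IsCoh H := HomSh.isCoh_homSh (HomSh.hasRel_dual hrel) hOc
  have hgorfree : ∀ y : Y, Dual3.IsGorensteinAt f y → RefHull.IsReflexiveAt ω y := by
    intro y hy
    obtain ⟨V, g, _, m, ⟨v, rfl⟩, ⟨e⟩⟩ :=
      (GrothLib.ShriekBridge22.isGorensteinAt_iff_exists_chart f c hf adj W₀ ⟨Iso.refl _⟩ y).1 hy
    let S := DerivedCategory.singleFunctor V.Modules
    let e₁ : (resD g).obj K ≅ (S (-m)).obj (Coh.structureModule V) :=
      (resD g).mapIso η₀.symm ≪≫ e ≪≫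
        ((DerivedCategory.singleFunctors V.Modules).shiftIso m (-m) 0 (by omega)).app (Coh.structureModule V)
    obtain rfl : m = (d : ℤ) := by
      by_contra hne'
      have h0 : IsZero ((Scheme.Modules.restrictFunctor g).obj (DCoh.HD K (-(d : ℤ)))) := by
        refine IsZero.of_iso ?_ ((HDResIso g K _).symm ≪≫ (DerivedCategory.homologyFunctor _ _).mapIso e₁)
        rcases lt_or_gt_of_ne (show -(d : ℤ) ≠ -m by omega) with hlt | hgt
        · exact (DerivedCategory.isGE_iff _ (-m)).1 inferInstance _ hlt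
        · exact (DerivedCategory.isLE_iff _ (-m)).1 inferInstance _ hgt
      have h1 := (OX.isZero_iff _).1 h0 v
      have hn : Nontrivial ((DCoh.HD K (-(d : ℤ))).presheaf.stalk (g v)) :=
        (nontrivial_stalk_of_iso ((DerivedCategory.homologyFunctor _ _).mapIso η₀) _).1
          ((GrothLib.ShriekBridge22.stalk_of_isCMAt f c hf adj W₀ ⟨Iso.refl _⟩
            (GrothLib.CurveStk.isCMAt_of_gorAt hy) (hdim _) _).2 rfl)
      have h2 : Nontrivial (((Scheme.Modules.restrictFunctor g).obj (DCoh.HD K (-(d : ℤ)))).presheaf.stalk v) :=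
        (((Scheme.Modules.restrictStalkNatIso g v).app _).addCommGroupIsoToAddEquiv.toEquiv.nontrivial_congr).2 hn
      exact not_nontrivial_iff_subsingleton.2 (ModuleCat.subsingleton_of_isZero h1) h2
    let e₂ : (Scheme.Modules.restrictFunctor g).obj ω ≅ Coh.structureModule V :=
      (Scheme.Modules.restrictFunctor g).mapIso u'.symm ≪≫ (HDResIso g K _).symm ≪≫
        (DerivedCategory.homologyFunctor _ _).mapIso e₁ ≪≫
        (DerivedCategory.singleFunctorCompHomologyFunctorIso V.Modules _).app _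
    let e₃ : ω.restrict g.opensRange.ι ≅ Coh.structureModule (g.opensRange : Scheme.{u}) :=
      (Scheme.Modules.restrictFunctorCongr g.isoOpensRange_inv_comp.symm).app ω ≪≫
        (Scheme.Modules.restrictFunctorComp g.isoOpensRange.inv g).app ω ≪≫
        (Scheme.Modules.restrictFunctor g.isoOpensRange.inv).mapIso e₂ ≪≫ DualRing.restrictStructureIso _
    obtain ⟨fr, hfr⟩ := FinCov.exists_frame_of_iso (n := 1)
      (e₃ ≪≫ (coproductUniqueIso fun _ : Fin 1 => Coh.structureModule (g.opensRange : Scheme.{u})).symm)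
    have hgen := (InvExt.isGen_iff_isFrame fr).1 hfr
    have hbij := InvHartogs26.stalk_bijective hgen (x := g v) (by
      rw [Scheme.Opens.ι_image_top]; exact ⟨v, rfl⟩)
    exact Module.equiv (LinearEquiv.ofBijective (LinearMap.toSpanSingleton (Y.presheaf.stalk (g v)) _ _) hbij)
  let U : Y.Opens := ⟨{y | RefHull.IsReflexiveAt ω y}, HomSh.isOpen_isReflexiveAt hrel⟩
  have hU2 : ∀ y, y ∉ U → (2 : WithBot ℕ∞) ≤ ringKrullDim ((f.fiber (f y)).presheaf.stalk (f.asFiber y)) :=
    fun y hy => hG y fun h => hy (hgorfree y h)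
  have hUdepth : ∀ y, y ∉ U → (2 : ℕ∞) ≤ LocCoh.depth (Y.presheaf.stalk y) (O.presheaf.stalk y) := by
    intro y hy
    haveI : Module.Finite (Y.presheaf.stalk y) (O.presheaf.stalk y) := Module.Finite.equiv (HomSh.unitStalk y)
    rw [show LocCoh.depth (Y.presheaf.stalk y) (O.presheaf.stalk y) = LocCoh.depth (Y.presheaf.stalk y) (Y.presheaf.stalk y)
      from Depth.idealDepth_eq_of_equiv _ (HomSh.unitStalk y).symm]
    exact two_le_depth_of_fibre f hS y (hU2 y hy)
  have hbU : ∀ y ∈ U, Function.Bijective (QCoh.stalkLin b y) := fun y hy => (HomSh.bijective_bidual_iff hrel y).2 hy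
  haveI := hωc.1
  haveI := hHc.1
  haveI : Mono b := by
    refine Preadditive.mono_of_kernel_iso_zero (IsZero.iso ?_ (isZero_zero _))
    refine OX.isZero_of_subsingleton_stalks _ fun y => ?_
    refine subsingleton_of_forall_eq 0 fun w => ?_
    obtain ⟨W, hyW, s, rfl⟩ := TopCat.Presheaf.exists_germ_eq (kernel b).presheaf w
    have hs : (kernel.ι b).app W s = 0 := by
      refine app_eq_zero_of_thin d hd' U (fun t η hη => ?_) hω hωc W _ fun z hz hzU => ?_
      · refine not_not.1 fun h => ?_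
        have h2 := hU2 _ h
        rw [← ringKrullDim_fiber_congr f t η _ rfl, GrothLib.AlgSp.ringKrullDim_stalk_eq_zero_of_component hη] at h2
        exact absurd h2 (not_le.2 (WithBot.coe_lt_coe.2 (by norm_num : (0 : ℕ∞) < 2)))
      · refine (hbU z hzU).1 ?_
        rw [map_zero, QCoh.stalkLin_germ]
        have h0 : ((kernel.ι b) ≫ b).app W s = 0 := by rw [kernel.condition]; rfl
        exact (congrArg (H.presheaf.germ W z hz) h0).trans (map_zero _)
    rw [show s = 0 from ModDesc.app_injective_of_mono (kernel.ι b) W (hs.trans (map_zero _).symm), map_zero]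
  let C := cokernel b
  have hCc : Coh.IsCoh C := QCoh.isCoh_cokernel b hωc hHc
  have hCs : CohB1.support C ⊆ ((U : Set Y)ᶜ) := fun y hy hyU =>
    QCoh.notMem_support_cokernel_of_surjective b (hbU y hyU).2 hy
  rcases Set.eq_empty_or_nonempty ((U : Set Y)ᶜ) with he | hne
  · exact (HomSh.isReflexive_iff hrel).2 fun y => by
      have : y ∈ (U : Set Y) := not_not.1 fun h => (he ▸ (h : y ∈ (U : Set Y)ᶜ) : y ∈ (∅ : Set Y))
      exact this
  obtain ⟨hd2, hvan⟩ := subsingleton_HH_of_codim_two (A := A) d hd' ⟨(U : Set Y)ᶜ, U.isOpen.isClosed_compl⟩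
    (fun y hy => hU2 y hy) hne hCc hCs
  let S : ShortComplex Y.Modules := ShortComplex.mk b (cokernel.π b) (cokernel.condition b)
  have hSe : S.ShortExact := { exact := ShortComplex.exact_of_g_is_cokernel _ (cokernelIsCokernel b) }
  obtain ⟨d', rfl⟩ : ∃ d', d = d' + 1 := ⟨d - 1, by omega⟩
  haveI : Subsingleton (Coh.HH Y C (d' + 1)) := hvan _ (by omega)
  haveI : Subsingleton (Coh.HH Y C d') := hvan _ (by omega)
  have hinj : Function.Injective (Cohom.hhMap A S.f (d' + 1)) := fun x₁ x₂ h => by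
    obtain ⟨z, hz⟩ := (Cohom.exact₁ (A := A) hSe d' (x₁ - x₂)).1 (by rw [map_sub, h, sub_self])
    rw [← sub_eq_zero, ← hz]
    haveI : Subsingleton (Coh.HH Y S.X₃ d') := ‹Subsingleton (Coh.HH Y C d')›
    rw [Subsingleton.elim z 0, map_zero]
  have hsur : Function.Surjective (Cohom.hhMap A S.f (d' + 1)) := fun y => by
    haveI : Subsingleton (Coh.HH Y S.X₃ (d' + 1)) := ‹Subsingleton (Coh.HH Y C (d' + 1))›
    exact (Cohom.exact₂ (A := A) hSe (d' + 1) y).1 (Subsingleton.elim _ _)
  obtain ⟨tr, -, htr⟩ := hω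
  let E := LinearEquiv.ofBijective (Cohom.hhMap A b (d' + 1)) ⟨hinj, hsur⟩
  obtain ⟨r, hr⟩ := (htr H hHc.1).2 (tr ∘ₗ E.symm.toLinearMap)
  have hbr : b ≫ r = 𝟙 ω := (htr ω hωc.1).1 (LinearMap.ext fun x => by
    show tr (Cohom.hhMap A (b ≫ r) (d' + 1) x) = tr (Cohom.hhMap A (𝟙 ω) (d' + 1) x)
    rw [Euler.hhMap_comp, Euler.hhMap_id]
    refine (LinearMap.congr_fun hr (E x)).trans ?_
    show tr (E.symm (E x)) = tr x
    rw [LinearEquiv.symm_apply_apply])
  -- the splitting is zero
  have hp : r ≫ b = 𝟙 H := by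
    have hb0 : b ≫ (𝟙 H - r ≫ b) = 0 := by rw [Preadditive.comp_sub, Category.comp_id, reassoc_of% hbr, sub_self]
    rw [← sub_eq_zero]
    refine (neg_sub _ _).symm.trans (neg_eq_zero.2 ?_)
    refine Scheme.Modules.hom_ext _ _ fun W => ?_
    ext s
    let q : H ⟶ H := 𝟙 H - r ≫ b
    let t : Γ(RefHull.homSh (RefHull.dual ω) O, W) := q.app W s
    have ht : ∀ (y : Y) (hy : y ∈ W), y ∈ U → H.presheaf.germ W y hy t = 0 := by
      intro y hy hyU
      obtain ⟨v, hv⟩ := (hbU y hyU).2 (H.presheaf.germ W y hy s)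
      show H.presheaf.germ W y hy (q.app W s) = 0
      rw [← QCoh.stalkLin_germ q hy s, ← hv, ← LinearMap.comp_apply]
      obtain ⟨W', hyW', w, rfl⟩ := TopCat.Presheaf.exists_germ_eq ω.presheaf v
      rw [LinearMap.comp_apply, QCoh.stalkLin_germ, QCoh.stalkLin_germ]
      show H.presheaf.germ W' y hyW' ((b ≫ q).app W' w) = 0
      rw [hb0]
      exact map_zero _
    show t = 0
    refine Subtype.ext (funext fun y => LinearMap.ext fun θ => ?_)
    obtain ⟨V₁, hy₁, m, rfl⟩ := TopCat.Presheaf.exists_germ_eq (RefHull.dual ω).presheaf θ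
    obtain ⟨W', hyW', j, n, hn⟩ := RefHull.isLocSect_of_mem t (V₁ ⊓ W) (homOfLE inf_le_right)
      ((RefHull.dual ω).presheaf.map (homOfLE inf_le_left).op m) ⟨y.1, hy₁, y.2⟩
    have hn0 : n = 0 := by
      refine (Depth.mres_bijective_of_eq (M := O) hUdepth (inf_le_left : W' ⊓ U ≤ W') rfl).1 ?_
      show O.presheaf.map (homOfLE (inf_le_left : W' ⊓ U ≤ W')).op n =
        O.presheaf.map (homOfLE (inf_le_left : W' ⊓ U ≤ W')).op 0
      rw [map_zero]
      refine TopCat.Presheaf.section_ext ⟨O.presheaf, O.isSheaf⟩ _ _ 0 fun z hz => ?_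
      rw [map_zero]
      refine (TopCat.Presheaf.germ_res_apply O.presheaf _ _ _ n).trans ?_
      have hzW : z ∈ W := (j.le hz.1).2
      have h0 : t.1 ⟨z, hzW⟩ = 0 := by
        have h1 := congrArg (RefHull.evalStalk (RefHull.dual ω) O z) (ht z hzW hz.2)
        rw [RefHull.evalStalk_germ, map_zero] at h1
        exact h1
      refine (hn ⟨z, hz.1⟩).symm.trans ?_
      exact LinearMap.congr_fun h0 _
    have h2 := hn ⟨y.1, hyW'⟩
    rw [TopCat.Presheaf.germ_res_apply, hn0, map_zero] at h2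
    exact h2
  haveI : IsIso b := ⟨r, hbr, hp⟩
  exact (inferInstance : IsIso b)

end GrothLib.DualFree20

end
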