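import Groth.Agent.Lib.ArSurf29.ModelSurface
import Groth.Agent.Lib.ArSurf29.Genus
import Groth.Agent.Lib.CotTangent.Components
import Groth.Agent.Lib.Euler.Rank
import Groth.Agent.Lib.CurveRR.Places
import Groth.Prelude.Def_Pi1

/-!
# Normal proper models of curves: fibre dimensions and base change to the generic fibre
-/

set_option autoImplicit false
set_option linter.all false
set_option backward.isDefEq.respectTransparency false
set_option maxHeartbeats 1000000

universe u

open CategoryTheory CategoryTheory.Limits AlgebraicGeometry TopologicalSpace IsLocalRing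
open scoped TensorProduct

noncomputable section

namespace GrothLib.DualFree20

open GrothLib.ArSurf29

variable {R : Type u} [CommRing R] [IsDomain R] [IsDiscreteValuationRing R]
  {X : Over (Spec (CommRingCat.of R))} [Flat X.hom] [IsProper X.hom]
  {C : Scheme.{u}} {f : C ⟶ Spec (CommRingCat.of (FractionRing R))} {g : C ⟶ X.left}
  (hg : IsPullback g f X.hom (Spec.map (CommRingCat.ofHom (algebraMap R (FractionRing R)))))
  [IsIntegral C]

include hg

theorem isIntegral_of_normal (hn : Pi1.IsNormalScheme X.left) : IsIntegral X.left := by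
  haveI : IsLocallyNoetherian X.left := LocallyOfFiniteType.isLocallyNoetherian X.hom
  haveI : CompactSpace X.left := QuasiCompact.compactSpace_of_compactSpace X.hom
  haveI : IsNoetherian X.left := {}
  haveI : Nonempty X.left := ⟨g (genericPoint C)⟩
  haveI : ConnectedSpace X.left := by
    refine connectedSpace_iff_univ.2 ?_
    rw [← closure_range_generic hg]
    exact (isConnected_range g.continuous).closure
  exact GrothLib.Ref1.isIntegral_of_connected fun x => (hn x).1

omit [Flat X.hom] in
/-- The generic fibre sits inside `C`. -/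
theorem exists_lift_fiber (y : Spec (CommRingCat.of R)) (hy : y ≠ closedPoint R) :
    ∃ φ : X.hom.fiber y → C, Topology.IsInducing φ := by
  haveI := isOpenImmersion_generic hg
  let ι := X.hom.fiberι y
  have hsub : ∀ z : X.hom.fiber y, ι z ∈ Set.range g := fun z => by
    rw [range_generic hg]
    intro hz
    have h1 : ι z ∈ X.hom ⁻¹' {y} := (X.hom.range_fiberι _).le ⟨z, rfl⟩
    exact hy ((Eq.symm h1).trans hz)
  choose φ hφ using hsub
  have hc : g ∘ φ = ι := funext hφ
  have hind : Topology.IsInducing (g ∘ φ) := by rw [hc]; exact ι.isEmbedding.isInducing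
  have hφc : Continuous φ := g.isEmbedding.isInducing.continuous_iff.2 (by rw [hc]; exact ι.continuous)
  exact ⟨φ, Topology.IsInducing.of_comp hφc g.continuous hind⟩

theorem dim_le_two [IsIntegral X.left] (hC : topologicalKrullDim C ≤ 1) : topologicalKrullDim X.left ≤ 2 := by
  haveI : IsLocallyNoetherian X.left := LocallyOfFiniteType.isLocallyNoetherian X.hom
  rw [GrothLib.AlgSp.topologicalKrullDim_eq_iSup_stalk]
  refine iSup_le fun x => ?_
  obtain ⟨n, hn, -⟩ := GrothLib.Altitude.exists_trdeg_eq_dim_closure X.hom x
  obtain ⟨m, hm, hmdim⟩ := GrothLib.Altitude.exists_trdeg_eq_dim_closure X.hom (genericPoint X.left)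
  have hm1 : m ≤ 1 := by
    obtain ⟨φ, hφ⟩ := exists_lift_fiber hg (X.hom (genericPoint X.left)) fun h => by
      rw [← genericPoint_eq hg] at h
      exact (range_generic hg).le ⟨genericPoint C, rfl⟩ h
    have h3 : (m : WithBot ℕ∞) ≤ 1 := by
      rw [← hmdim]
      exact Topology.IsInducing.subtypeVal.topologicalKrullDim_le.trans
        (hφ.topologicalKrullDim_le.trans hC)
    exact_mod_cast h3
  have hcomp : ∀ ξ : X.left, closure {ξ} ∈ irreducibleComponents ↥X.left → ξ = genericPoint X.left := fun ξ hξ => by
    rw [irreducibleComponents_eq_singleton, Set.mem_singleton_iff] at hξ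
    exact (genericPoint_spec X.left).eq hξ |>.symm
  have h := GrothLib.DimFormula.ringKrullDim_stalk_add_trdeg_le X.hom x n 1 hn fun ξ hξ _ => by
    rw [hcomp ξ hξ, hm]
    exact_mod_cast hm1
  have hR : ringKrullDim ((Spec (CommRingCat.of R)).presheaf.stalk (X.hom x)) ≤ 1 :=
    (GrothLib.Ref1.ringKrullDim_stalk_le_topologicalKrullDim _).trans (by
      rw [show topologicalKrullDim (Spec (CommRingCat.of R)) = ringKrullDim R from
        PrimeSpectrum.topologicalKrullDim_eq_ringKrullDim R]
      exact le_of_eq (IsDiscreteValuationRing.ringKrullDim_eq_one R))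
  refine le_trans (le_add_of_nonneg_right (by simp)) (h.trans (le_trans (add_le_add hR le_rfl) ?_))
  norm_num

/-- All fibres of a normal model have dimension at most one. -/
theorem dim_fiber_le_one (hn : Pi1.IsNormalScheme X.left) (hC : topologicalKrullDim C ≤ 1)
    (y : Spec (CommRingCat.of R)) : topologicalKrullDim ↥(X.hom.fiber y) ≤ ((1 : ℕ) : WithBot ℕ∞) := by
  by_cases hy : y = closedPoint R
  · subst hy
    haveI := isIntegral_of_normal hg hn
    have h2 : topologicalKrullDim (Set.univ : Set X.left) ≤ ((2 : ℕ) : WithBot ℕ∞) :=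
      (IsHomeomorph.topologicalKrullDim_eq _ (Homeomorph.Set.univ X.left).isHomeomorph).le.trans
        ((dim_le_two hg hC).trans (by norm_num))
    have hcl : IsClosed (Models.specialFibreSet R X) := Models.isClosed_specialFibreSet R X
    have hη : genericPoint X.left ∉ Models.specialFibreSet R X := fun h => by
      rw [← genericPoint_eq hg] at h
      exact (range_generic hg).le ⟨genericPoint C, rfl⟩ h
    have hlt : Snapper.DimLT (Models.specialFibreSet R X) 2 := Snapper.dimLT_of_notMem
      (η := genericPoint X.left) (Snapper.dimLT_of_dim_le (by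
        rw [(genericPoint_spec X.left).def]; exact h2))
      (by rw [(genericPoint_spec X.left).def]; exact Set.subset_univ _) hη
    have h3 := Snapper.dim_le_of_dimLT hcl (d := 1) hlt
    refine le_trans (le_of_eq ?_) h3
    exact IsHomeomorph.topologicalKrullDim_eq _ (X.hom.fiberHomeo (closedPoint R)).isHomeomorph
  · obtain ⟨φ, hφ⟩ := exists_lift_fiber hg y hy
    exact hφ.topologicalKrullDim_le.trans (by exact_mod_cast hC)

omit [IsIntegral C] [Flat X.hom] in
/-- Cohomology of the generic fibre has the rank of the cohomology of the model. -/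
theorem finrank_HH_restrict [IsLocallyNoetherian X.left] (F : X.left.Modules) [F.IsQuasicoherent] (i : ℕ) :
    letI : C.Over (Spec (CommRingCat.of (FractionRing R))) := ⟨f⟩
    letI : X.left.Over (Spec (CommRingCat.of R)) := ⟨X.hom⟩
    Module.finrank (FractionRing R) (Coh.HH C ((Scheme.Modules.pullback g).obj F) i) =
      Module.finrank R (Coh.HH X.left F i) := by
  letI : C.Over (Spec (CommRingCat.of (FractionRing R))) := ⟨f⟩
  letI : X.left.Over (Spec (CommRingCat.of R)) := ⟨X.hom⟩
  haveI : CompactSpace X.left := QuasiCompact.compactSpace_of_compactSpace X.hom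
  haveI : X.left.IsSeparated := ⟨by rw [← terminal.comp_from X.hom]; infer_instance⟩
  have hfl : (algebraMap R (FractionRing R)).Flat :=
    RingHom.flat_algebraMap_iff.2 (IsLocalization.flat (FractionRing R) (nonZeroDivisors R))
  have hfrac : IsFractionRing R (FractionRing R) := inferInstance
  letI alg := (algebraMap R (FractionRing R)).toAlgebra
  haveI hfrac' : @IsFractionRing R _ (FractionRing R) _ alg := by
    rw [show alg = (OreLocalization.instAlgebra : Algebra R (FractionRing R)) from
      Algebra.algebra_ext _ _ fun _ => rfl]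
    exact hfrac
  letI := BCCoh.modHH X.hom F i
  obtain ⟨e⟩ := BCCoh.exists_flatBC (algebraMap R (FractionRing R)) hfl X.hom f g hg F i
  exact e.finrank_eq.symm.trans
    (@finrank_baseChange_fractionRing R _ _ _ (FractionRing R) _ alg hfrac' (Coh.HH X.left F i) _ (BCCoh.modHH X.hom F i))

end GrothLib.DualFree20

end
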