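import Groth.Agent.Lib.DualFree20.TraceField
import Groth.Agent.Lib.TorBC25.RelPerfect
import Groth.Agent.Lib.TorBC25.BCFinal
import Groth.Agent.Lib.BaseChange22.Square
import Groth.Agent.Lib.SecExt20.Extend
import Groth.Agent.Lib.FittSheaf.Pullback
import Groth.Agent.S1536

/-!
# The trace is an isomorphism for geometrically reduced and connected fibres
-/

set_option autoImplicit false
set_option linter.all false
set_option backward.isDefEq.respectTransparency false
set_option maxHeartbeats 1600000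

universe u

open CategoryTheory CategoryTheory.Limits AlgebraicGeometry CategoryTheory.Pretriangulated
attribute [local instance] HasDerivedCategory.standard

noncomputable section

namespace GrothLib.DualFree20

open GrothLib.OX GrothLib.RightAdj22

/-- An isomorphism of modules as a linear equivalence on cohomology. -/
def hhIso {A : Type u} [CommRing A] {X : Scheme.{u}} [X.Over (Spec (CommRingCat.of A))] {F G : X.Modules} (e : F ≅ G)
    (n : ℕ) : Coh.HH X F n ≃ₗ[A] Coh.HH X G n :=
  LinearEquiv.ofLinear (Cohom.hhMap A e.hom n) (Cohom.hhMap A e.inv n)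
    (LinearMap.ext fun x => by
      show Cohom.hhMap A e.hom n (Cohom.hhMap A e.inv n x) = x
      rw [← Euler.hhMap_comp, e.inv_hom_id, Euler.hhMap_id])
    (LinearMap.ext fun x => by
      show Cohom.hhMap A e.inv n (Cohom.hhMap A e.hom n x) = x
      rw [← Euler.hhMap_comp, e.hom_inv_id, Euler.hhMap_id])

/-- A surjective linear map onto the ring out of a finite module injecting fibrewise into the residue fields is
bijective: the sheaf form on an affine scheme. -/
theorem isIso_of_fibres {R : CommRingCat.{u}} (M : (Spec R).Modules) [M.IsQuasicoherent] (hft : CohB1.IsFT M)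
    (π : M ⟶ Coh.structureModule (Spec R)) (hπ : Function.Surjective ((moduleSpecΓFunctor (R := R)).map π).hom)
    (hfib : ∀ t : Spec R, ∀ φ : R ⟶ (Spec R).residueField t, Spec.map φ = (Spec R).fromSpecResidueField t →
      ∃ h : (moduleSpecΓFunctor (R := (Spec R).residueField t)).obj ((Scheme.Modules.pullback (Spec.map φ)).obj M) ⟶
        ModuleCat.of ((Spec R).residueField t) ((Spec R).residueField t), Function.Injective h.hom) :
    IsIso π := by
  let Γ' := moduleSpecΓFunctor (R := R)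
  let O := Coh.structureModule (Spec R)
  haveI : O.IsQuasicoherent := inferInstanceAs (Coh.structureModule (Spec R)).IsQuasicoherent
  let v := gammaStructureIso R
  obtain ⟨y, hy⟩ := hπ (v.inv.hom (1 : R))
  obtain ⟨g, hg⟩ := exists_hom_one (R := R) (Γ'.obj M) y
  obtain ⟨σ, hσ⟩ := (bijective_gamma_map (A := R) O M).2 (v.hom ≫ g)
  have hσπ : σ ≫ π = 𝟙 O := by
    refine (bijective_gamma_map (A := R) O O).1 ?_
    show Γ'.map (σ ≫ π) = Γ'.map (𝟙 O)
    rw [Functor.map_comp, CategoryTheory.Functor.map_id, show Γ'.map σ = _ from hσ, Category.assoc]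
    refine ModuleCat.hom_ext (LinearMap.ext fun z => ?_)
    show (Γ'.map π).hom (g.hom (v.hom.hom z)) = z
    rw [hg, map_smul, hy, ← map_smul, smul_eq_mul, mul_one]
    exact congrArg (fun m => m.hom z) v.hom_inv_id
  let C := cokernel σ
  haveI : C.IsQuasicoherent := GrothLib.QCoh.isQuasicoherent_cokernel_spec σ
  have hC : Coh.IsCoh C := ⟨inferInstance, GrothLib.SecExt20.isFT_of_epi (cokernel.π σ) hft⟩
  haveI : Epi σ := by
    refine Abelian.epi_of_cokernel_π_eq_zero σ (IsZero.eq_of_tgt ?_ _ _)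
    refine GrothLib.OX.isZero_of_subsingleton_stalks C fun t => ?_
    let κ := (Spec R).residueField t
    let φ : R ⟶ κ := Spec.preimage ((Spec R).fromSpecResidueField t)
    have hφ : Spec.map φ = (Spec R).fromSpecResidueField t := Spec.map_preimage _
    obtain ⟨h, hh⟩ := hfib t φ hφ
    let P := Scheme.Modules.pullback (Spec.map φ)
    haveI : P.IsLeftAdjoint := (Scheme.Modules.pullbackPushforwardAdjunction (Spec.map φ)).isLeftAdjoint
    let Γκ := moduleSpecΓFunctor (R := κ)
    let w : ModuleCat.of κ κ ≅ Γκ.obj (P.obj O) := (gammaStructureIso κ).symm ≪≫ Γκ.mapIso (pullUnitIso (Spec.map φ)).symm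
    let g₀ : ModuleCat.of κ κ ⟶ Γκ.obj (P.obj M) := w.hom ≫ Γκ.map (P.map σ)
    have hg₀ : g₀ ≫ Γκ.map (P.map π) = w.hom := by
      show (w.hom ≫ Γκ.map (P.map σ)) ≫ Γκ.map (P.map π) = _
      rw [Category.assoc, ← Functor.map_comp, ← Functor.map_comp, hσπ, CategoryTheory.Functor.map_id,
        CategoryTheory.Functor.map_id, Category.comp_id]
    have hg₀i : Function.Injective g₀.hom := fun a b hab => by
      have h1 : w.hom.hom a = w.hom.hom b := by
        rw [← hg₀]
        exact congrArg (Γκ.map (P.map π)).hom hab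
      exact w.toLinearEquiv.injective h1
    have hne : h.hom (g₀.hom (1 : κ)) ≠ 0 := fun h0 =>
      one_ne_zero (hg₀i ((hh (h0.trans (map_zero h.hom).symm)).trans (map_zero g₀.hom).symm))
    have hg₀s : Function.Surjective g₀.hom := fun x => by
      refine ⟨h.hom x / h.hom (g₀.hom (1 : κ)), hh ?_⟩
      have h1 : ∀ c : κ, g₀.hom c = c • g₀.hom (1 : κ) := fun c => by
        rw [← map_smul]; exact congrArg g₀.hom (mul_one c).symm
      rw [h1, map_smul, smul_eq_mul, div_mul_cancel₀ _ hne]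
    haveI : (P.obj M).IsQuasicoherent := GrothLib.FittSheaf.isQuasicoherent_pullback (Spec.map φ) M
    have hPC : P.map (cokernel.π σ) = 0 := by
      refine (bijective_gamma_map (A := κ) _ _).1 ?_
      show Γκ.map (P.map (cokernel.π σ)) = Γκ.map 0
      rw [Functor.map_zero]
      refine ModuleCat.hom_ext (LinearMap.ext fun x => ?_)
      obtain ⟨c, rfl⟩ := hg₀s x
      show (Γκ.map (P.map σ) ≫ Γκ.map (P.map (cokernel.π σ))).hom (w.hom.hom c) = 0
      rw [← Functor.map_comp, ← Functor.map_comp, cokernel.condition, Functor.map_zero, Functor.map_zero]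
      rfl
    haveI : Epi (P.map (cokernel.π σ)) := P.map_epi _
    have hz : IsZero (P.obj C) := IsZero.of_epi_eq_zero _ hPC
    let pt : Spec κ := IsLocalRing.closedPoint κ
    have hpt : (Spec.map φ) pt = t := by rw [hφ]; exact Scheme.fromSpecResidueField_apply _ _
    by_contra hx
    have hmem : pt ∈ (Spec.map φ).base ⁻¹' CohB1.support C := by
      show (Spec.map φ) pt ∈ CohB1.support C
      rw [hpt]
      exact hx
    rw [← GrothLib.QCoh.support_pullback (Spec.map φ) C hC] at hmem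
    exact hmem (ModuleCat.subsingleton_of_isZero ((OX.isZero_iff _).1 hz pt))
  haveI : IsSplitMono σ := IsSplitMono.mk' ⟨π, hσπ⟩
  haveI : IsIso σ := isIso_of_epi_of_isSplitMono σ
  exact IsIso.of_isIso_fac_left hσπ

/-- **The trace is bijective** for geometrically reduced and geometrically connected fibres. -/
theorem trace_bijective {A : Type u} [CommRing A] {X : Scheme.{u}} [X.Over (Spec (CommRingCat.of A))]
    [IsProper (X ↘ Spec (CommRingCat.of A))] [Flat (X ↘ Spec (CommRingCat.of A))]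
    [LocallyOfFinitePresentation (X ↘ Spec (CommRingCat.of A))]
    [GeometricallyReduced (X ↘ Spec (CommRingCat.of A))] [GeometricallyConnected (X ↘ Spec (CommRingCat.of A))]
    (hCM : ∀ x : X, MoreMor.IsCMAt (X ↘ Spec (CommRingCat.of A)) x) (n : ℕ)
    (hd : ∀ (y : ↥(Spec (CommRingCat.of A))) (Z : Set ↥((X ↘ Spec (CommRingCat.of A)).fiber y)),
      Z ∈ irreducibleComponents ↥((X ↘ Spec (CommRingCat.of A)).fiber y) → topologicalKrullDim ↥Z = (n : WithBot ℕ∞))
    {ω : X.Modules} (γ : Coh.HH X ω n →ₗ[A] A) (hω : Canon.IsRDualOver A X n ω γ)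
    (huniv : ∀ F : X.Modules, F.IsQuasicoherent → ∀ g : Coh.HH X F n →ₗ[A] A, ∃ φ : F ⟶ ω,
      ∀ x : Coh.HH X F n, γ (Sheaf.H.map ((SheafOfModules.toSheaf X.ringCatSheaf).map φ) n x) = g x) :
    Function.Bijective γ := by
  have hsurj : Function.Surjective γ := trace_surjective hCM n hd γ huniv
  refine ⟨?_, hsurj⟩
  let R : CommRingCat.{u} := CommRingCat.of A
  let S : Scheme.{u} := Spec R
  let f : X ⟶ S := X ↘ Spec (CommRingCat.of A)
  haveI : IsProper f := ‹IsProper (X ↘ Spec (CommRingCat.of A))›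
  haveI : CompactSpace X := QuasiCompact.compactSpace_of_compactSpace f
  haveI : QuasiSeparatedSpace X := quasiSeparatedSpace_of_quasiSeparated f
  haveI : DCoh.HasRpush f := KInj.hasRightDerivedFunctor _
  have hf : DCoh.RpushPreservesQCoh f := fun K hK =>
    GrothLib.KSix19.BettiExact.isQCohD_of_iso' ((rpushIsoRres f).app K).symm (isQCohD_Rres f K hK)
  haveI : (DCoh.RpushQ f hf).IsLeftAdjoint := OX.isLeftAdjoint_lift_Rpush f hf
  let adj := Adjunction.ofIsLeftAdjoint (DCoh.RpushQ f hf)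
  let a := (DCoh.RpushQ f hf).rightAdjoint
  let W : DCoh.DQCoh S := ⟨DCoh.inD S (Coh.structureModule S),
    KSix19.RpushAmp.isQCohD_inD _ (inferInstanceAs (Coh.structureModule S).IsQuasicoherent)⟩
  haveI : W.obj.IsGE 0 := inferInstanceAs (((DerivedCategory.singleFunctor S.Modules 0).obj _).IsGE 0)
  have hk : ∀ s, topologicalKrullDim ↥(f.fiber s) ≤ (n : WithBot ℕ∞) := fun s =>
    GrothLib.FibPd.topologicalKrullDim_le_of_components fun Z hZ => (hd s Z hZ).le
  have hv := isZero_Rpush_of_fibreDim f n hk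
  haveI hKaLE : (a.obj W).obj.IsLE (-(n : ℤ)) := isLE_adjoint_cm f hf adj W ⟨Iso.refl _⟩ hCM n hd
  haveI : (a.obj W).obj.IsLE (0 - (n : ℤ)) := by rw [zero_sub]; exact hKaLE
  haveI : (a.obj W).obj.IsGE (0 - (n : ℤ)) := isGE_adjoint f hf adj W 0 n hv
  obtain ⟨F, ⟨eF⟩⟩ := DerivedCategory.exists_iso_singleFunctor_obj_of_isGE_of_isLE (a.obj W).obj (0 - (n : ℤ))
  let eF' : DCoh.HD (a.obj W).obj (0 - (n : ℤ)) ≅ F := (DerivedCategory.homologyFunctor _ _).mapIso eF ≪≫
    (DerivedCategory.singleFunctorCompHomologyFunctorIso X.Modules _).app F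
  have hFq : F.IsQuasicoherent := by
    haveI : (DCoh.HD (a.obj W).obj (0 - (n : ℤ))).IsQuasicoherent := (a.obj W).property _
    exact GrothLib.QCoh.isQuasicoherent_of_iso eF'
  obtain ⟨eω⟩ := nonempty_iso_of_isDualizingSheaf (A := A) (isDualizingSheaf_adjoint f rfl n hk hf adj W ⟨Iso.refl _⟩)
    ⟨γ, hω⟩
  let Sn := DerivedCategory.singleFunctor X.Modules (0 - (n : ℤ))
  obtain ⟨ν⟩ := nonempty_homology_RR_single f n 0
  let H := DerivedCategory.homologyFunctor S.Modules 0
  let K := (RR f).obj (a.obj W).obj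
  haveI hLE1 : ((RR f).obj (Sn.obj F)).IsLE 0 := (DerivedCategory.isLE_iff _ _).2 fun j hj =>
    SiteDer.isZero_homology_Rres_single (rmor f) (N := n) F (fun i hi => hv F hFq i (by omega)) j (0 - n) (by omega)
  haveI hKLE : K.IsLE 0 := DerivedCategory.TStructure.t.isLE_of_iso ((RR f).mapIso eF).symm 0
  have hKq : DCoh.IsQCohD K := isQCohD_Rres f _ (a.obj W).property
  haveI : (H.obj K).IsQuasicoherent := hKq 0
  obtain ⟨e, he, -⟩ := exists_HH_Rpush f n
  letI := BCCoh.modHH f F n
  let Γ' : S.Modules ⥤ ModuleCat.{u} A := moduleSpecΓFunctor (R := R)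
  let E : Coh.HH X F n ≃ₗ[A] Γ'.obj ((Coh.Rpush f n).obj F) :=
    { e F hFq with map_smul' := fun r x => he F hFq r x }
  let MK : ModuleCat.{u} A := Γ'.obj (H.obj K)
  let MF : ModuleCat.{u} A := Γ'.obj ((Coh.Rpush f n).obj F)
  let e1 : MK ≅ MF := Γ'.mapIso (H.mapIso ((RR f).mapIso eF) ≪≫ ν.app F)
  let E' : MK ≃ₗ[A] Coh.HH X ω n :=
    e1.toLinearEquiv.trans ((E.symm : MF ≃ₗ[A] Coh.HH X F n).trans (hhIso (eF'.symm ≪≫ eω) n))
  let γ' : MK ⟶ ModuleCat.of A A := (ModuleCat.ofHom (γ ∘ₗ E'.toLinearMap) :)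
  obtain ⟨π, hπ⟩ := (bijective_gamma_map (A := R) (H.obj K) (Coh.structureModule S)).2 (γ' ≫ (gammaStructureIso R).inv)
  simp only [] at hπ
  suffices hiso : IsIso π by
    haveI := hiso
    have hb : Function.Bijective (Γ'.map π).hom := ConcreteCategory.bijective_of_isIso (Γ'.map π)
    intro x₁ x₂ hx
    apply E'.symm.injective
    refine hb.1 ?_
    rw [show Γ'.map π = _ from hπ]
    show (gammaStructureIso R).inv.hom (γ (E' (E'.symm x₁))) = (gammaStructureIso R).inv.hom (γ (E' (E'.symm x₂)))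
    rw [LinearEquiv.apply_symm_apply, LinearEquiv.apply_symm_apply, hx]
  have hperf : DCoh.IsPerfect K := by
    obtain ⟨hpc, htor⟩ := RightAdj20.relPerf_adjoint f hf adj W ⟨Iso.refl _⟩
    exact TorBC25.isPerfect_RR_relPerf f hpc htor
  have hft : CohB1.IsFT (H.obj K) :=
    isFT_HD_top (isPseudoCoherentD_of_isPerfect hperf 0) fun i hi => DerivedCategory.isZero_of_isLE K 0 i hi
  refine isIso_of_fibres (R := R) (H.obj K) hft π ?_ ?_
  · rw [show (moduleSpecΓFunctor (R := R)).map π = _ from hπ]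
    exact (gammaStructureIso R).symm.toLinearEquiv.surjective.comp (hsurj.comp E'.surjective)
  intro t φ hφ
  let κ := S.residueField t
  letI : (f.fiber t).Over (Spec (CommRingCat.of κ)) := ⟨f.fiberToSpecResidueField t⟩
  let f' : f.fiber t ⟶ Spec (CommRingCat.of κ) := f.fiberToSpecResidueField t
  have hsq : IsPullback (f.fiberι t) f' f (Spec.map (CommRingCat.ofHom φ.hom)) := by
    change IsPullback (f.fiberι t) f' f (Spec.map φ)
    rw [hφ]
    exact IsPullback.of_hasPullback _ _
  haveI : IsProper ((f.fiber t) ↘ Spec (CommRingCat.of κ)) := MorphismProperty.of_isPullback hsq (inferInstance : IsProper f)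
  haveI : IsProper f' := MorphismProperty.of_isPullback hsq (inferInstance : IsProper f)
  haveI : CompactSpace (f.fiber t) := QuasiCompact.compactSpace_of_compactSpace f'
  haveI : QuasiSeparatedSpace (f.fiber t) := quasiSeparatedSpace_of_quasiSeparated f'
  haveI : DCoh.HasRpush f' := KInj.hasRightDerivedFunctor _
  haveI : DCoh.HasRpush ((f.fiber t) ↘ Spec (CommRingCat.of κ)) := KInj.hasRightDerivedFunctor _
  have hf' : DCoh.RpushPreservesQCoh f' := fun L hL =>
    GrothLib.KSix19.BettiExact.isQCohD_of_iso' ((rpushIsoRres f').app L).symm (isQCohD_Rres f' L hL)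
  haveI : (DCoh.RpushQ f' hf').IsLeftAdjoint := OX.isLeftAdjoint_lift_Rpush f' hf'
  let adj' := Adjunction.ofIsLeftAdjoint (DCoh.RpushQ f' hf')
  let a' := (DCoh.RpushQ f' hf').rightAdjoint
  let W' : DCoh.DQCoh (Spec (CommRingCat.of κ)) := ⟨DCoh.inD _ (Coh.structureModule _),
    KSix19.RpushAmp.isQCohD_inD _
      (inferInstanceAs (Coh.structureModule (Spec (CommRingCat.of κ))).IsQuasicoherent)⟩
  let g : Spec (CommRingCat.of κ) ⟶ S := Spec.map (CommRingCat.ofHom φ.hom)
  obtain ⟨hLg, ⟨adjg⟩⟩ := TorBC25.exists_adjRR g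
  obtain ⟨hLι, ⟨adjι⟩⟩ := TorBC25.exists_adjRR (f.fiberι t)
  haveI := hLg
  haveI := hLι
  haveI : IsIso (TorBC25.thA hsq adjg adjι (a.obj W).obj) :=
    TorBC25.BC_of_torIndep hsq (BaseChange22.tor_of_flat (Or.inl ‹Flat (X ↘ Spec (CommRingCat.of A))›))
      _ adjg _ adjι _ (a.obj W).property
  obtain ⟨ea⟩ := RightAdj20.nonempty_lpull_adjoint φ.hom hsq hf adj W ⟨Iso.refl _⟩ hf' adj' W' ⟨Iso.refl _⟩
  obtain ⟨l⟩ := GrothLib.ThickDesc6.nonempty_hd_lpull_top g K 0 hKLE
  let eK : (DCoh.Lpull g).obj K ≅ (RR f').obj (a'.obj W').obj :=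
    asIso (TorBC25.thA hsq adjg adjι (a.obj W).obj) ≪≫ (RR f').mapIso ea
  haveI : ((DCoh.Lpull g).obj K).IsLE 0 := GrothLib.ThickDesc6.isLE_lpull g hKLE
  haveI : ((RR ((f.fiber t) ↘ Spec (CommRingCat.of κ))).obj (a'.obj W').obj).IsLE 0 :=
    DerivedCategory.TStructure.t.isLE_of_iso eK 0
  haveI : GeometricallyReduced ((f.fiber t) ↘ Spec (CommRingCat.of κ)) :=
    inferInstanceAs (GeometricallyReduced (f.fiberToSpecResidueField t))
  haveI : GeometricallyConnected ((f.fiber t) ↘ Spec (CommRingCat.of κ)) :=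
    inferInstanceAs (GeometricallyConnected (f.fiberToSpecResidueField t))
  have hinj := injective_gamma_trR (κ := κ) (X := f.fiber t) hf' adj' W' ⟨Iso.refl _⟩ (Groth.Agent.S1536.result κ (f.fiber t))
  let Γκ := moduleSpecΓFunctor (R := CommRingCat.of κ)
  let c : (Scheme.Modules.pullback (Spec.map φ)).obj (H.obj K) ≅
      DCoh.HD ((RR f').obj (a'.obj W').obj) 0 := l.symm ≪≫ (DerivedCategory.homologyFunctor _ 0).mapIso eK
  let w : Γκ.obj ((DerivedCategory.homologyFunctor (Spec (CommRingCat.of κ)).Modules 0).obj W'.obj) ≅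
      ModuleCat.of κ κ :=
    Γκ.mapIso ((DerivedCategory.singleFunctorCompHomologyFunctorIso (Spec (CommRingCat.of κ)).Modules 0).app _) ≪≫
      gammaStructureIso (CommRingCat.of κ)
  refine ⟨(Γκ.mapIso c).hom ≫ Γκ.map ((DerivedCategory.homologyFunctor _ 0).map (RightAdj20.trR f' hf' adj' W')) ≫
    w.hom, ?_⟩
  exact w.toLinearEquiv.injective.comp (hinj.comp (Γκ.mapIso c).toLinearEquiv.injective)

end GrothLib.DualFree20

end
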