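import Groth.Agent.Lib.DualFree20.TraceSurj
import Groth.Agent.Lib.RightAdj20.TraceUnitMain
import Groth.Agent.Lib.RightAdj20.BCMapTools
import Groth.Agent.Lib.RightAdj20.DualBdd

/-!
# The trace over a field
-/

set_option autoImplicit false
set_option linter.all false
set_option backward.isDefEq.respectTransparency false
set_option maxHeartbeats 1600000

universe u

open CategoryTheory CategoryTheory.Limits AlgebraicGeometry CategoryTheory.Pretriangulated
attribute [local instance] HasDerivedCategory.standard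

noncomputable section

namespace GrothLib.DualFree20

open GrothLib.OX GrothLib.RightAdj22

/-- Over a field, maps to `κ[0]` are detected in degree zero, out of objects in degrees `≥ 0`. -/
theorem hom_zero_of_H0 {κ : Type u} [Field κ] (M : Dual.D κ) [M.IsGE 0] (ψ : M ⟶ Dual.inD κ κ)
    (h : (DerivedCategory.homologyFunctor (ModuleCat.{u} κ) 0).map ψ = 0) : ψ = 0 := by
  let t := DerivedCategory.TStructure.t (C := ModuleCat.{u} κ)
  let Z := (t.truncLT 1).obj M
  let ι : Z ⟶ M := (t.truncLTι 1).app M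
  haveI : Z.IsLE 0 := t.isLE_truncLT_obj M 1 0 (by omega)
  haveI : (Dual.inD κ κ).IsGE 0 := inferInstanceAs (((DerivedCategory.singleFunctor (ModuleCat.{u} κ) 0).obj _).IsGE 0)
  have hι : ι ≫ ψ = 0 := by
    refine (bijective_map_homology_of_le_ge 0 Z (Dual.inD κ κ)).1 ?_
    show (DerivedCategory.homologyFunctor (ModuleCat.{u} κ) 0).map (ι ≫ ψ) =
      (DerivedCategory.homologyFunctor (ModuleCat.{u} κ) 0).map 0
    rw [Functor.map_comp, h, Functor.map_zero, comp_zero]
  obtain ⟨g, hg⟩ := Triangle.yoneda_exact₂ _ (t.triangleLTGE_distinguished 1 M) ψ hι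
  suffices hg0 : g = 0 by rw [hg, hg0]; exact comp_zero
  let T := (t.truncGE 1).obj M
  haveI : T.IsGE 1 := inferInstanceAs (t.IsGE ((t.truncGE 1).obj M) 1)
  obtain ⟨K, hK, ⟨eK⟩⟩ := DerivedCategory.exists_iso_Q_obj_of_isGE T 1
  haveI := hK
  let I : CochainComplex (ModuleCat.{u} κ) ℤ :=
    (HomologicalComplex.single _ (ComplexShape.up ℤ) 0).obj (ModuleCat.of κ κ)
  have hinj : Module.Injective κ κ := Module.Baer.injective fun J l => by
    rcases Ideal.eq_bot_or_top J with rfl | rfl
    · exact ⟨0, fun x hx => by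
        obtain rfl : x = 0 := hx
        exact (map_zero l).symm⟩
    · refine ⟨l ∘ₗ LinearMap.codRestrict ⊤ LinearMap.id (fun _ => trivial), fun x hx => rfl⟩
  haveI : Injective (ModuleCat.of κ κ) := Module.injective_object_of_injective_module (inj := hinj)
  have hI : ∀ i : ℤ, i ≠ 0 → IsZero (I.X i) := fun i hi => HomologicalComplex.isZero_single_obj_X _ _ _ _ hi
  haveI : ∀ i, Injective (I.X i) := fun i => by
    rcases eq_or_ne i 0 with rfl | hi
    · exact Injective.of_iso (HomologicalComplex.singleObjXSelf _ _ _).symm inferInstance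
    · exact (hI i hi).injective
  haveI : I.IsStrictlyGE 0 := (CochainComplex.isStrictlyGE_iff _ _).2 fun i hi => hI i (by omega)
  haveI : I.IsKInjective := CochainComplex.isKInjective_of_injective I 0
  let eI : DerivedCategory.Q.obj I ≅ Dual.inD κ κ :=
    ((DerivedCategory.singleFunctorIsoCompQ (ModuleCat.{u} κ) 0).app _).symm
  have h0 := RightAdj20.hom_eq_zero_of_bounds K I (fun i => by
    rcases eq_or_ne i 0 with rfl | hi
    · exact Or.inl (CochainComplex.isZero_of_isStrictlyGE K 1 0 (by omega))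
    · exact Or.inr (hI i hi)) (eK.inv ≫ g ≫ eI.inv)
  rw [← cancel_epi eK.inv, ← cancel_mono eI.inv, Category.assoc, h0, comp_zero, zero_comp]

/-- The same on `Spec` of a field. -/
theorem hom_zero_of_H0_spec {κ : Type u} [Field κ] (E W : DCoh.D (Spec (CommRingCat.of κ))) (hE : DCoh.IsQCohD E)
    [E.IsGE 0] (eW : W ≅ DCoh.inD _ (Coh.structureModule (Spec (CommRingCat.of κ)))) (φ : E ⟶ W)
    (h : (DerivedCategory.homologyFunctor _ 0).map φ = 0) : φ = 0 := by
  let R : CommRingCat.{u} := CommRingCat.of κ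
  let T := tilde.functor R
  have := (tildeD_full_faithful_essImage (R := R)).1
  have := (tildeD_full_faithful_essImage (R := R)).2.1
  obtain ⟨M, ⟨eM⟩⟩ := (tildeD_full_faithful_essImage (R := R)).2.2 E hE
  haveI : M.IsGE 0 := (DerivedCategory.isGE_iff _ _).2 fun i hi =>
    (isZero_tilde_iff (A := R) _).1 ((DerivedCategory.isZero_of_isGE E 0 i hi).of_iso
      ((HDTildeIso (R := R) M i).symm ≪≫ (DerivedCategory.homologyFunctor _ i).mapIso eM))
  let eT : (DCoh.tildeD R).obj (Dual.inD κ κ) ≅ W :=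
    (T.mapDerivedCategorySingleFunctor 0).app (ModuleCat.of κ κ) ≪≫
      (DerivedCategory.singleFunctor (Spec R).Modules 0).mapIso ((genTopIso (Spec R)).symm ≪≫ tildeGenIso R).symm ≪≫
      eW.symm
  haveI : T.Faithful := faithful_tildeGen R
  let ψ : M ⟶ Dual.inD κ κ := (DCoh.tildeD R).preimage (eM.hom ≫ φ ≫ eT.inv)
  have hψ : ψ = 0 := hom_zero_of_H0 M ψ (T.map_injective (by
    have hn := (DerTrunc.homologyMapIso T 0).hom.naturality ψ
    rw [Functor.map_zero, ← cancel_epi ((DerTrunc.homologyMapIso T 0).hom.app M), comp_zero]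
    refine hn.symm.trans ?_
    show (DerivedCategory.homologyFunctor _ 0).map ((DCoh.tildeD R).map ψ) ≫ _ = 0
    rw [Functor.map_preimage, Functor.map_comp, Functor.map_comp, h, zero_comp, comp_zero, zero_comp]))
  have h2 := congrArg (DCoh.tildeD R).map hψ
  rw [Functor.map_preimage, Functor.map_zero] at h2
  rw [← cancel_epi eM.hom, ← cancel_mono eT.inv, Category.assoc, h2, comp_zero, zero_comp]

/-- Degree-zero classes of an object in degrees `≤ 0` lift to maps from the structure sheaf. -/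
theorem exists_lift_H0 {A : Type u} [CommRing A] (K : DCoh.D (Spec (CommRingCat.of A))) (hK : DCoh.IsQCohD K) [K.IsLE 0]
    (σ : (DerivedCategory.homologyFunctor _ 0).obj (DCoh.inD _ (Coh.structureModule (Spec (CommRingCat.of A)))) ⟶
      (DerivedCategory.homologyFunctor _ 0).obj K) :
    ∃ x : DCoh.inD _ (Coh.structureModule (Spec (CommRingCat.of A))) ⟶ K,
      (DerivedCategory.homologyFunctor _ 0).map x = σ := by
  let R : CommRingCat.{u} := CommRingCat.of A
  let C := (Spec R).Modules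
  let t := DerivedCategory.TStructure.t (C := C)
  let I := DCoh.inD (Spec R) (Coh.structureModule (Spec R))
  let H := DerivedCategory.homologyFunctor C 0
  let T₀ := (t.truncGE 0).obj K
  let π : K ⟶ T₀ := (t.truncGEπ 0).app K
  haveI : T₀.IsGE 0 := inferInstanceAs (t.IsGE ((t.truncGE 0).obj K) 0)
  haveI : I.IsLE 0 := inferInstanceAs (((DerivedCategory.singleFunctor C 0).obj _).IsLE 0)
  haveI : IsIso (H.map π) := DerTrunc.isIso_homology_truncGEπ K 0 0 le_rfl
  obtain ⟨h, hh⟩ := (bijective_map_homology_of_le_ge 0 I T₀).2 (σ ≫ H.map π)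
  let U := (t.truncLT 0).obj K
  haveI : U.IsLE (-1) := t.isLE_truncLT_obj K 0 (-1) (by omega)
  haveI : DerivedCategory.TStructure.t.IsLE (U⟦(1 : ℤ)⟧) (-2) := t.isLE_shift U (-1) 1 (-2) (by omega)
  haveI : (U⟦(1 : ℤ)⟧).IsLE (-1) := t.isLE_of_le _ (-2) (-1) (by omega)
  have hU : DCoh.IsQCohD (U⟦(1 : ℤ)⟧) := isQCohD_shift (OX.isQCohD_truncLT hK 0) 1
  haveI := RightAdj20.subsingleton_unit_hom (R := A) hU
  let eI : (DCoh.tildeD R).obj (Dual.inD A A) ≅ I :=
    ((tilde.functor R).mapDerivedCategorySingleFunctor 0).app (ModuleCat.of A A) ≪≫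
      (DerivedCategory.singleFunctor C 0).mapIso ((genTopIso (Spec R)).symm ≪≫ tildeGenIso R).symm
  have hδ : ∀ z : I ⟶ U⟦(1 : ℤ)⟧, z = 0 := fun z => by
    rw [← cancel_epi eI.hom, comp_zero]
    exact Subsingleton.elim _ _
  obtain ⟨x, hx⟩ := Triangle.coyoneda_exact₃ _ (t.triangleLTGE_distinguished 0 K) h (hδ _)
  refine ⟨x, (cancel_mono (H.map π)).1 ?_⟩
  rw [← H.map_comp, show x ≫ π = h from hx.symm]
  exact hh

/-- The map out of the free module of rank one through an element. -/
theorem exists_hom_one {R : CommRingCat.{u}} (M : ModuleCat.{u} R) (s : M) :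
    ∃ g : ModuleCat.of R R ⟶ M, ∀ c : R, g.hom c = c • s :=
  ⟨ModuleCat.ofHom (LinearMap.toSpanSingleton R M s), fun c => rfl⟩

/-- **Over a field the trace is injective on `H^0`**, when the scheme has no nonconstant functions. -/
theorem injective_gamma_trR {κ : Type u} [Field κ] {X : Scheme.{u}} [X.Over (Spec (CommRingCat.of κ))]
    [IsProper (X ↘ Spec (CommRingCat.of κ))] [DCoh.HasRpush (X ↘ Spec (CommRingCat.of κ))]
    (hf : DCoh.RpushPreservesQCoh (X ↘ Spec (CommRingCat.of κ)))
    {a : DCoh.DQCoh (Spec (CommRingCat.of κ)) ⥤ DCoh.DQCoh X}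
    (adj : DCoh.RpushQ (X ↘ Spec (CommRingCat.of κ)) hf ⊣ a) (W : DCoh.DQCoh (Spec (CommRingCat.of κ)))
    (hW : Nonempty (W.obj ≅ DCoh.inD _ (Coh.structureModule (Spec (CommRingCat.of κ)))))
    [((RR (X ↘ Spec (CommRingCat.of κ))).obj (a.obj W).obj).IsLE 0]
    (hrank : Module.finrank κ (Coh.HH X (Coh.structureModule X) 0) = 1) :
    Function.Injective ((moduleSpecΓFunctor (R := CommRingCat.of κ)).map
      ((DerivedCategory.homologyFunctor _ 0).map (RightAdj20.trR (X ↘ Spec (CommRingCat.of κ)) hf adj W))).hom := by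
  let R : CommRingCat.{u} := CommRingCat.of κ
  let S : Scheme.{u} := Spec R
  let f : X ⟶ S := X ↘ Spec (CommRingCat.of κ)
  obtain ⟨eW⟩ := hW
  haveI : CompactSpace X := QuasiCompact.compactSpace_of_compactSpace f
  haveI : QuasiSeparatedSpace X := quasiSeparatedSpace_of_quasiSeparated f
  haveI := RpushSupp20.hasInjectiveResolutions X
  obtain ⟨hL, ⟨b⟩⟩ := TorBC25.exists_adjRR f
  haveI := hL
  let H := DerivedCategory.homologyFunctor S.Modules 0
  let Γ' : S.Modules ⥤ ModuleCat.{u} R := moduleSpecΓFunctor (R := R)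
  haveI : Γ'.Additive := inferInstanceAs ((moduleSpecΓFunctor (R := R)).Additive)
  let I := DCoh.inD S (Coh.structureModule S)
  haveI hILE : I.IsLE 0 := inferInstanceAs (((DerivedCategory.singleFunctor S.Modules 0).obj _).IsLE 0)
  haveI : W.obj.IsGE 0 := ShriekBridge22.isGE_zero_of_iso_structure ⟨eW⟩
  let v : Γ'.obj (H.obj I) ≅ ModuleCat.of R R :=
    Γ'.mapIso ((DerivedCategory.singleFunctorCompHomologyFunctorIso S.Modules 0).app _) ≪≫ gammaStructureIso R
  haveI : ((𝟭 S.Modules).obj (Coh.structureModule S)).IsQuasicoherent :=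
    inferInstanceAs (Coh.structureModule S).IsQuasicoherent
  haveI : (H.obj I).IsQuasicoherent := GrothLib.QCoh.isQuasicoherent_of_iso
    ((DerivedCategory.singleFunctorCompHomologyFunctorIso S.Modules 0).app (Coh.structureModule S)).symm
  -- the direct image of the structure sheaf
  obtain ⟨l⟩ := TorBC25.nonempty_lpull_structure f
  let E := (RR f).obj ((DCoh.Lpull f).obj I)
  let E' := (RR f).obj (DCoh.inD X (Coh.structureModule X))
  haveI : (DCoh.inD X (Coh.structureModule X)).IsGE 0 :=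
    inferInstanceAs (((DerivedCategory.singleFunctor X.Modules 0).obj _).IsGE 0)
  haveI : E'.IsGE 0 := SiteDer.isGE_Rres (rmor f) (DCoh.inD X (Coh.structureModule X)) 0
  haveI : E.IsGE 0 := DerivedCategory.TStructure.t.isGE_of_iso ((RR f).mapIso l).symm 0
  have hO : (Coh.structureModule X).IsQuasicoherent := inferInstance
  have hEq : DCoh.IsQCohD E := GrothLib.KSix19.BettiExact.isQCohD_of_iso' ((RR f).mapIso l).symm
    (isQCohD_Rres f _ (KSix19.RpushAmp.isQCohD_inD _ hO))
  obtain ⟨ρ⟩ := SiteDer.nonempty_homology_Rres_single (rmor f) (Coh.structureModule X) 0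
  obtain ⟨e, he, -⟩ := exists_HH_Rpush f 0
  letI := BCCoh.modHH f (Coh.structureModule X) 0
  let eE : Coh.HH X (Coh.structureModule X) 0 ≃ₗ[κ] (Γ'.obj ((Coh.Rpush f 0).obj (Coh.structureModule X)) : ModuleCat.{u} κ) :=
    { e (Coh.structureModule X) hO with map_smul' := fun r x => he _ hO r x }
  let eN : Γ'.obj (H.obj E) ≅ Γ'.obj ((Coh.Rpush f 0).obj (Coh.structureModule X)) :=
    Γ'.mapIso (H.mapIso ((RR f).mapIso l) ≪≫ ρ)
  have hN : Module.finrank κ (Γ'.obj (H.obj E) : ModuleCat.{u} κ) = 1 :=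
    (LinearEquiv.finrank_eq (eN.toLinearEquiv.trans eE.symm)).trans hrank
  let u₀ : I ⟶ E := b.unit.app I
  haveI : (H.obj E).IsQuasicoherent := hEq 0
  have hu : Function.Surjective (Γ'.map (H.map u₀)).hom := by
    have hne : (Γ'.map (H.map u₀)).hom ≠ 0 := by
      intro h0
      have h1 : H.map u₀ = 0 := (bijective_gamma_map (A := R) _ _).1
        (show Γ'.map (H.map u₀) = Γ'.map 0 by rw [Functor.map_zero]; exact ModuleCat.hom_ext h0)
      have h2 : u₀ = 0 := (bijective_map_homology_of_le_ge 0 I E).1 (h1.trans (H.map_zero _ _).symm)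
      have h3 : (𝟙 ((DCoh.Lpull f).obj I)) = 0 := by
        apply (b.homEquiv _ _).injective
        rw [Adjunction.homEquiv_id, Adjunction.homEquiv_unit, Functor.map_zero, comp_zero]
        exact h2
      have h4 : IsZero (Γ'.obj (H.obj E)) :=
        Γ'.map_isZero (H.map_isZero ((RR f).map_isZero ((IsZero.iff_id_eq_zero _).2 h3)))
      haveI := ModuleCat.subsingleton_of_isZero h4
      rw [Module.finrank_zero_of_subsingleton] at hN
      exact zero_ne_one hN
    obtain ⟨y, hy⟩ : ∃ y, (Γ'.map (H.map u₀)).hom y ≠ 0 := by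
      by_contra hc
      push_neg at hc
      exact hne (LinearMap.ext hc)
    intro w
    obtain ⟨c, hc⟩ := (finrank_eq_one_iff_of_nonzero' _ hy).1 hN w
    exact ⟨c • y, by rw [map_smul, hc]⟩
  -- injectivity
  let K := (RR f).obj (a.obj W).obj
  have hKq : DCoh.IsQCohD K := isQCohD_Rres f _ (a.obj W).property
  haveI : (H.obj K).IsQuasicoherent := hKq 0
  refine (injective_iff_map_eq_zero _).2 fun s hs => ?_
  obtain ⟨g, hg⟩ := exists_hom_one (R := R) (Γ'.obj (H.obj K)) s
  obtain ⟨σ, hσ⟩ := (bijective_gamma_map (A := R) (H.obj I) (H.obj K)).2 (v.hom ≫ g)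
  obtain ⟨x, hx⟩ := exists_lift_H0 (A := κ) K hKq σ
  let y := (b.homEquiv I (a.obj W).obj).symm x
  let φ : E ⟶ W.obj := (RR f).map y ≫ RightAdj20.trR f hf adj W
  have hxy : x = u₀ ≫ (RR f).map y := by
    rw [← (b.homEquiv I (a.obj W).obj).apply_symm_apply x]
    exact Adjunction.homEquiv_unit b I (a.obj W).obj y
  have h0 : H.map (x ≫ RightAdj20.trR f hf adj W) = 0 := by
    refine (bijective_gamma_map (A := R) _ _).1 ?_
    show Γ'.map (H.map (x ≫ RightAdj20.trR f hf adj W)) = Γ'.map 0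
    rw [Functor.map_comp, Functor.map_comp, hx, Functor.map_zero]
    simp only [] at hσ
    show Γ'.map σ ≫ _ = 0
    rw [show Γ'.map σ = _ from hσ, Category.assoc]
    refine ModuleCat.hom_ext (LinearMap.ext fun z => ?_)
    show (Γ'.map (H.map (RightAdj20.trR f hf adj W))).hom (g.hom (v.hom.hom z)) = 0
    rw [hg, map_smul]
    exact smul_eq_zero_of_right _ hs
  have hφ0 : H.map φ = 0 := by
    refine (bijective_gamma_map (A := R) _ _).1 ?_
    show Γ'.map (H.map φ) = Γ'.map 0
    rw [Functor.map_zero]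
    refine ModuleCat.hom_ext (LinearMap.ext fun w => ?_)
    obtain ⟨z, rfl⟩ := hu w
    show ((Γ'.map (H.map u₀) ≫ Γ'.map (H.map φ))).hom z = 0
    rw [← Functor.map_comp, ← Functor.map_comp, show u₀ ≫ φ = x ≫ RightAdj20.trR f hf adj W by
      rw [hxy, Category.assoc], h0, Functor.map_zero]
    rfl
  have hφ : φ = 0 := hom_zero_of_H0_spec E W.obj hEq eW φ hφ0
  have hy : y = 0 := (RightAdj20.bijective_map_trR f hf adj _ (TorBC25.isQCohD_lpull f
    (KSix19.RpushAmp.isQCohD_inD _ (inferInstanceAs (Coh.structureModule S).IsQuasicoherent))) W).1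
    (show (RR f).map y ≫ _ = (RR f).map 0 ≫ _ by rw [Functor.map_zero, zero_comp]; exact hφ)
  have hσ0 : σ = 0 := by rw [← hx, hxy, hy, Functor.map_zero, comp_zero, Functor.map_zero]
  simp only [] at hσ
  rw [hσ0] at hσ
  have h5 := LinearMap.congr_fun (congrArg ModuleCat.Hom.hom hσ) (v.inv.hom (1 : R))
  simp at h5
  erw [show v.hom.hom (v.inv.hom (1 : R)) = (1 : R) from congrArg (fun m => m.hom (1 : R)) v.inv_hom_id] at h5
  rw [hg, one_smul] at h5
  exact h5.symm

end GrothLib.DualFree20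

end
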