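import Groth.Agent.Lib.DualFree20.OneDegGen
import Groth.Agent.Lib.Snapper.PushEuler
import Groth.Agent.Lib.RightAdj22.Tri
import Groth.Agent.Lib.RightAdj22.Main
import Groth.Agent.Lib.OX.HomAmplitude
import Groth.Agent.Lib.ThickDesc6.Pull

/-!
# Surjectivity of the trace of a Cohen–Macaulay morphism
-/

set_option autoImplicit false
set_option linter.all false
set_option backward.isDefEq.respectTransparency false
set_option maxHeartbeats 1600000

universe u

open CategoryTheory CategoryTheory.Limits AlgebraicGeometry CategoryTheory.Pretriangulated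
attribute [local instance] HasDerivedCategory.standard

noncomputable section

namespace GrothLib.DualFree20

open GrothLib.OX GrothLib.RightAdj22 GrothLib.ShriekBridge22

variable {A : Type u} [CommRing A] {X : Scheme.{u}} (f : X ⟶ Spec (CommRingCat.of A)) [IsProper f] [Flat f]
  [LocallyOfFinitePresentation f] [DCoh.HasRpush f] (hf : DCoh.RpushPreservesQCoh f)
  {a : DCoh.DQCoh (Spec (CommRingCat.of A)) ⥤ DCoh.DQCoh X} (adj : DCoh.RpushQ f hf ⊣ a)
  (W : DCoh.DQCoh (Spec (CommRingCat.of A)))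
  (hW : Nonempty (W.obj ≅ DCoh.inD _ (Coh.structureModule (Spec (CommRingCat.of A)))))
  (hCM : ∀ x : X, MoreMor.IsCMAt f x) (n : ℕ)
  (hd : ∀ (s : ↥(Spec (CommRingCat.of A))) (Z : Set ↥(f.fiber s)),
    Z ∈ irreducibleComponents ↥(f.fiber s) → topologicalKrullDim ↥Z = (n : WithBot ℕ∞))

include adj hW hCM hd in
/-- The right adjoint lowers the upper bound by `n`. -/
theorem isLE_adjoint_of_isLE (V : DCoh.DQCoh (Spec (CommRingCat.of A))) [V.obj.IsLE 0] :
    (a.obj V).obj.IsLE (-(n : ℤ)) := by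
  haveI : CompactSpace X := QuasiCompact.compactSpace_of_compactSpace f
  haveI : QuasiSeparatedSpace X := quasiSeparatedSpace_of_quasiSeparated f
  haveI := isLE_adjoint_cm f hf adj W hW hCM n hd
  let E := DerivedCategory.Q.objPreimage (a.obj W).obj
  haveI := OX.hasLTensorCx E
  haveI := OX.hasLpull f
  let eE : DerivedCategory.Q.obj E ≅ (a.obj W).obj := DerivedCategory.Q.objObjPreimageIso _
  obtain ⟨θ⟩ := RightAdj22.nonempty_iso f hf adj (fun J => RightAdj22.preservesColimitsOfShape adj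
    (fun P hP => isPerfect_of_iso (TorBC25.isPerfect_RR f hP) ((rpushIsoRres f).app P.obj).symm) J)
    W hW E ⟨eE⟩
  have hE : ∀ i, -(n : ℤ) < i → IsZero (E.homology i) := fun i hi =>
    (DerivedCategory.isZero_of_isLE (a.obj W).obj (-(n : ℤ)) i hi).of_iso
      ((hdIso E i).symm ≪≫ (DerivedCategory.homologyFunctor _ i).mapIso eE)
  haveI : ((DCoh.Lpull f).obj V.obj).IsLE 0 := GrothLib.ThickDesc6.isLE_lpull f ‹_›
  have h := OX.isLE_ltensorCx E hE ((DCoh.Lpull f).obj V.obj) 0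
  rw [zero_add] at h
  haveI : DerivedCategory.TStructure.t.IsLE
      (((DCoh.IsQCohD (X := Spec (CommRingCat.of A))).ι ⋙ DCoh.Lpull f ⋙ DCoh.LTensorCx E).obj V) (-(n : ℤ)) := h
  exact DerivedCategory.TStructure.t.isLE_of_iso (θ.app V).symm _

/-- **The trace is surjective.** -/
theorem trace_surjective {A : Type u} [CommRing A] {X : Scheme.{u}} [X.Over (Spec (CommRingCat.of A))]
    [IsProper (X ↘ Spec (CommRingCat.of A))] [Flat (X ↘ Spec (CommRingCat.of A))]
    [LocallyOfFinitePresentation (X ↘ Spec (CommRingCat.of A))] [Surjective (X ↘ Spec (CommRingCat.of A))]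
    (hCM : ∀ x : X, MoreMor.IsCMAt (X ↘ Spec (CommRingCat.of A)) x) (n : ℕ)
    (hd : ∀ (y : ↥(Spec (CommRingCat.of A))) (Z : Set ↥((X ↘ Spec (CommRingCat.of A)).fiber y)),
      Z ∈ irreducibleComponents ↥((X ↘ Spec (CommRingCat.of A)).fiber y) → topologicalKrullDim ↥Z = (n : WithBot ℕ∞))
    {ω : X.Modules} (γ : Coh.HH X ω n →ₗ[A] A)
    (huniv : ∀ F : X.Modules, F.IsQuasicoherent → ∀ g : Coh.HH X F n →ₗ[A] A, ∃ φ : F ⟶ ω,
      ∀ x : Coh.HH X F n, γ (Sheaf.H.map ((SheafOfModules.toSheaf X.ringCatSheaf).map φ) n x) = g x) :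
    Function.Surjective γ := by
  let S : Scheme.{u} := Spec (CommRingCat.of A)
  let f : X ⟶ S := X ↘ Spec (CommRingCat.of A)
  haveI : IsProper f := ‹IsProper (X ↘ Spec (CommRingCat.of A))›
  haveI : CompactSpace X := QuasiCompact.compactSpace_of_compactSpace f
  haveI : QuasiSeparatedSpace X := quasiSeparatedSpace_of_quasiSeparated f
  haveI : DCoh.HasRpush f := KInj.hasRightDerivedFunctor _
  have hf : DCoh.RpushPreservesQCoh f := fun K hK =>
    GrothLib.KSix19.BettiExact.isQCohD_of_iso' ((rpushIsoRres f).app K).symm (isQCohD_Rres f K hK)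
  haveI : (DCoh.RpushQ f hf).IsLeftAdjoint := OX.isLeftAdjoint_lift_Rpush f hf
  let adj := Adjunction.ofIsLeftAdjoint (DCoh.RpushQ f hf)
  let a := (DCoh.RpushQ f hf).rightAdjoint
  rw [← LinearMap.range_eq_top]
  by_contra hne
  obtain ⟨m, hm, hle⟩ := Ideal.exists_le_maximal (LinearMap.range γ) hne
  -- the short exact sequence `m → A → A/m`
  let R : CommRingCat.{u} := CommRingCat.of A
  let T := tilde.functor R
  let M₁ : ModuleCat.{u} R := ModuleCat.of A m
  let M₂ : ModuleCat.{u} R := ModuleCat.of A A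
  let M₃ : ModuleCat.{u} R := ModuleCat.of A (A ⧸ m)
  let q : M₂ ⟶ M₃ := ModuleCat.ofHom m.mkQ
  let SC : ShortComplex (ModuleCat.{u} R) :=
    ShortComplex.mk (ModuleCat.ofHom m.subtype : M₁ ⟶ M₂) q
      (ModuleCat.hom_ext (LinearMap.ext fun x => (Submodule.Quotient.mk_eq_zero m).2 x.2))
  have hSC : SC.ShortExact :=
    { exact := (ShortComplex.ShortExact.moduleCat_exact_iff_function_exact SC).2 (LinearMap.exact_subtype_mkQ m)
      mono_f := (ModuleCat.mono_iff_injective _).2 Subtype.val_injective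
      epi_g := (ModuleCat.epi_iff_surjective _).2 (Submodule.mkQ_surjective m) }
  have hST : (SC.map T).ShortExact := hSC.map_of_exact T
  let I := DerivedCategory.singleFunctor S.Modules 0
  have hQ : ∀ M : ModuleCat.{u} R, DCoh.IsQCohD (I.obj (T.obj M)) := fun M =>
    KSix19.RpushAmp.isQCohD_inD _ (inferInstanceAs ((tilde M).IsQuasicoherent))
  let W : ModuleCat.{u} R → DCoh.DQCoh S := fun M => ⟨I.obj (T.obj M), hQ M⟩
  let π : W M₂ ⟶ W M₃ := ObjectProperty.homMk (I.map (T.map q))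
  let eW : (W M₂).obj ≅ DCoh.inD S (Coh.structureModule S) :=
    I.mapIso ((genTopIso (Spec R)).symm ≪≫ tildeGenIso R).symm
  -- the triangle in `D_QCoh`
  let δ : W M₃ ⟶ (W M₁)⟦(1 : ℤ)⟧ :=
    ObjectProperty.homMk (hST.singleδ ≫ ((DCoh.IsQCohD (X := S)).ι.commShiftIso (1 : ℤ)).inv.app (W M₁))
  have hT : Triangle.mk (ObjectProperty.homMk (I.map (T.map SC.f)) : W M₁ ⟶ W M₂) π δ ∈
      distTriang (DCoh.DQCoh S) := by
    refine isomorphic_distinguished _ hST.singleTriangle_distinguished _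
      (Triangle.isoMk _ _ (Iso.refl _) (Iso.refl _) (Iso.refl _) ?_ ?_ ?_)
    · exact (Category.comp_id _).trans (Category.id_comp _).symm
    · exact (Category.comp_id _).trans (Category.id_comp _).symm
    · show ((hST.singleδ ≫ ((DCoh.IsQCohD (X := S)).ι.commShiftIso (1 : ℤ)).inv.app (W M₁)) ≫
          ((DCoh.IsQCohD (X := S)).ι.commShiftIso (1 : ℤ)).hom.app (W M₁)) ≫ (𝟙 _)⟦(1 : ℤ)⟧' = 𝟙 _ ≫ hST.singleδ
      simp
      exact (congrArg (hST.singleδ ≫ ·) (Category.id_comp _)).trans (Category.comp_id _)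
  -- one degree
  have hk : ∀ s, topologicalKrullDim ↥(f.fiber s) ≤ (n : WithBot ℕ∞) := fun s =>
    GrothLib.FibPd.topologicalKrullDim_le_of_components fun Z hZ => (hd s Z hZ).le
  have hv := isZero_Rpush_of_fibreDim f n hk
  haveI hW2GE : (W M₂).obj.IsGE 0 := inferInstanceAs ((I.obj _).IsGE 0)
  haveI hW3GE : (W M₃).obj.IsGE 0 := inferInstanceAs ((I.obj _).IsGE 0)
  haveI : (W M₂).obj.IsLE 0 := inferInstanceAs ((I.obj _).IsLE 0)
  haveI : (W M₁).obj.IsLE 0 := inferInstanceAs ((I.obj _).IsLE 0)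
  let K := (a.obj (W M₂)).obj
  haveI : K.IsLE (0 - (n : ℤ)) := by
    rw [zero_sub]
    exact isLE_adjoint_of_isLE f hf adj (W M₂) ⟨eW⟩ hCM n hd (W M₂)
  haveI : K.IsGE (0 - (n : ℤ)) := isGE_adjoint f hf adj (W M₂) 0 n hv
  obtain ⟨F, ⟨eF⟩⟩ := DerivedCategory.exists_iso_singleFunctor_obj_of_isGE_of_isLE K (0 - (n : ℤ))
  have hFq : F.IsQuasicoherent := by
    haveI : (DCoh.HD K (0 - (n : ℤ))).IsQuasicoherent := (a.obj (W M₂)).property _
    exact GrothLib.QCoh.isQuasicoherent_of_iso ((DerivedCategory.homologyFunctor _ _).mapIso eF ≪≫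
      (DerivedCategory.singleFunctorCompHomologyFunctorIso X.Modules _).app F)
  let Sn := DerivedCategory.singleFunctor X.Modules (0 - (n : ℤ))
  let SQ : DCoh.DQCoh X := ⟨Sn.obj F, GrothLib.KSix19.BettiExact.isQCohD_of_iso' eF (a.obj (W M₂)).property⟩
  let z : SQ ≅ a.obj (W M₂) := (DCoh.IsQCohD (X := X)).isoMk eF.symm
  let ε : (DCoh.RpushQ f hf).obj SQ ⟶ W M₂ := (adj.homEquiv SQ (W M₂)).symm z.hom
  -- a functional on `H^n(X, F)`
  obtain ⟨e, he, -⟩ := exists_HH_Rpush f n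
  obtain ⟨ν⟩ := nonempty_homology_RR_single f n 0
  let H := DerivedCategory.homologyFunctor S.Modules 0
  let C := DerivedCategory.singleFunctorCompHomologyFunctorIso S.Modules 0
  let R' := rpushIsoRres f
  let Tm : (RR f).obj (Sn.obj F) ⟶ (W M₂).obj := R'.inv.app _ ≫ ε.hom
  let τ : (Coh.Rpush f n).obj F ⟶ T.obj M₂ := ν.inv.app F ≫ H.map Tm ≫ C.hom.app (T.obj M₂)
  let Γ' : S.Modules ⥤ ModuleCat.{u} R := moduleSpecΓFunctor (R := R)
  let η : 𝟭 (ModuleCat.{u} R) ≅ T ⋙ Γ' := tilde.toTildeΓNatIso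
  letI := BCCoh.modHH f F n
  let E : Coh.HH X F n ≃ₗ[A] (Γ'.obj ((Coh.Rpush f n).obj F) : ModuleCat.{u} A) :=
    { e F hFq with map_smul' := fun r x => he F hFq r x }
  let g : Coh.HH X F n →ₗ[A] A := (Γ'.map τ ≫ η.inv.app M₂).hom ∘ₗ E.toLinearMap
  obtain ⟨φ, hφ⟩ := huniv F hFq g
  -- the functional dies modulo `m`
  have hzero : τ ≫ T.map q = 0 := by
    haveI : ((Coh.Rpush f n).obj F).IsQuasicoherent := haveI := hFq; Cohom.isQuasicoherent_Rpush f F n
    refine (bijective_gamma_map (A := R) _ _).1 ?_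
    show Γ'.map (τ ≫ T.map q) = Γ'.map 0
    haveI : Mono (η.inv.app M₃) := ⟨fun g₁ g₂ e => by
      have h := congrArg (· ≫ η.hom.app M₃) e
      simp only [Category.assoc, Iso.inv_hom_id_app] at h
      exact (Category.comp_id _).symm.trans (h.trans (Category.comp_id _))⟩
    haveI : Γ'.PreservesZeroMorphisms := inferInstanceAs ((moduleSpecΓFunctor (R := R)).PreservesZeroMorphisms)
    rw [Functor.map_zero, ← cancel_mono (η.inv.app M₃), zero_comp, Functor.map_comp, Category.assoc]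
    have hn : Γ'.map (T.map q) ≫ η.inv.app M₃ = η.inv.app M₂ ≫ q := η.inv.naturality q
    rw [hn]
    refine ModuleCat.hom_ext (LinearMap.ext fun y => ?_)
    obtain ⟨x, rfl⟩ := E.surjective y
    show m.mkQ (g x) = 0
    refine (Submodule.Quotient.mk_eq_zero m).2 ?_
    rw [← hφ x]
    exact hle (LinearMap.mem_range_self γ _)
  haveI hLE0 : ((RR f).obj (Sn.obj F)).IsLE 0 := (DerivedCategory.isLE_iff _ _).2 fun j hj =>
    SiteDer.isZero_homology_Rres_single (rmor f) (N := n) F (fun i hi => hv F hFq i (by omega)) j (0 - n) (by omega)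
  have hTm : Tm ≫ π.hom = 0 := by
    refine (bijective_map_homology_of_le_ge 0 _ (W M₃).obj).1 ?_
    show H.map (Tm ≫ π.hom) = H.map 0
    rw [Functor.map_zero, Functor.map_comp, ← cancel_mono (C.hom.app (T.obj M₃)), zero_comp, Category.assoc]
    have hn : H.map π.hom ≫ C.hom.app (T.obj M₃) = C.hom.app (T.obj M₂) ≫ T.map q := C.hom.naturality (T.map q)
    rw [hn, ← cancel_epi (ν.inv.app F), comp_zero]
    simpa [τ, Category.assoc] using hzero
  have hε : ε ≫ π = 0 := by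
    refine ObjectProperty.hom_ext _ ?_
    rw [← cancel_epi (R'.inv.app (Sn.obj F))]
    show R'.inv.app _ ≫ ε.hom ≫ π.hom = R'.inv.app _ ≫ 0
    rw [comp_zero, ← Category.assoc]
    exact hTm
  haveI : (DCoh.RpushQ f hf).Additive := RightAdj22.additive_of_isLeftAdjoint _
  have haπ : a.map π = 0 := by
    rw [← cancel_epi z.hom, comp_zero]
    apply (adj.homEquiv SQ (W M₃)).symm.injective
    rw [Adjunction.homEquiv_naturality_right_symm]
    show ε ≫ π = _
    rw [hε, Adjunction.homEquiv_counit, Functor.map_zero, zero_comp]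
  -- hence the cohomology sheaf for `A/m` vanishes
  obtain ⟨d, hdT⟩ := exists_map_triangle f hf adj hT
  haveI : (a.obj (W M₁)).obj.IsLE (-(n : ℤ)) := isLE_adjoint_of_isLE f hf adj (W M₂) ⟨eW⟩ hCM n hd (W M₁)
  have hepi : Epi ((DerivedCategory.homologyFunctor X.Modules (0 - (n : ℤ))).map (a.map π).hom) := by
    refine (DerivedCategory.HomologySequence.epi_homologyMap_mor₂_iff _ hdT (0 - (n : ℤ)) (1 - (n : ℤ)) (by omega)).2 ?_
    exact (DerivedCategory.isZero_of_isLE (a.obj (W M₁)).obj (-(n : ℤ)) (1 - (n : ℤ)) (by omega)).eq_of_tgt _ _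
  have hz3 : IsZero (DCoh.HD (a.obj (W M₃)).obj (0 - (n : ℤ))) := by
    refine (IsZero.iff_id_eq_zero _).2 ?_
    haveI := hepi
    rw [← cancel_epi ((DerivedCategory.homologyFunctor X.Modules (0 - (n : ℤ))).map (a.map π).hom)]
    rw [haπ]
    simp
  -- but the fibre over `m` has cohomology in degree `n`
  obtain ⟨t', ht'⟩ := exists_topPair f hf adj (W M₃) 0 n hv M₃
    (Γ'.mapIso (C.app (T.obj M₃)) ≪≫ (η.app M₃).symm)
  let pt : S := ⟨m, hm.isPrime⟩
  haveI : IsAffineHom (f.fiberι pt) := MorphismProperty.pullback_fst _ _ (isAffineHom_of_isAffine _)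
  haveI := OX.hasLpull (f.fiberι pt)
  obtain ⟨-, -, hG⟩ := exists_fibre_data f hf (W M₂) n adj ⟨eW⟩ hCM hd pt
  obtain ⟨x₀, hx₀⟩ := f.surjective pt
  haveI : Nonempty (f.fiber pt) := by
    rw [← show f x₀ = pt from hx₀]
    exact ⟨f.asFiber x₀⟩
  obtain ⟨G, hGq, hGne⟩ := hG inferInstance
  haveI := hGq
  letI : (f.fiber pt).Over (Spec (CommRingCat.of A)) := ⟨f.fiberι pt ≫ f⟩
  obtain ⟨l⟩ := GrothLib.Snapper.nonempty_HH_linearEquiv_pushforward (A := A) (f.fiberι pt) rfl G n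
  let Fp := (Scheme.Modules.pushforward (f.fiberι pt)).obj G
  have hFp : Fp.IsQuasicoherent := GrothLib.QCoh.isQuasicoherent_pushforward (f.fiberι pt) G
  have htor : Module.IsTorsionBySet A (Coh.HH (f.fiber pt) G n) (m : Set A) := by
    rintro x ⟨s, hs⟩
    show Sheaf.H.map (Coh.smulAb G (Coh.toGlobal (f.fiberι pt ≫ f) s)) n x = 0
    have h0 : Coh.toGlobal (f.fiberι pt ≫ f) s = 0 := by
      let κ := S.residueField pt
      let φ : R ⟶ κ := Spec.preimage (S.fromSpecResidueField pt)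
      have hφ : Spec.map φ = S.fromSpecResidueField pt := Spec.map_preimage _
      have hker : φ.hom s = 0 := by
        have h1 : (Spec.map φ) (⟨⊥, Ideal.bot_prime⟩ : PrimeSpectrum κ) = pt := by
          rw [hφ]
          exact Scheme.fromSpecResidueField_apply _ _
        have h2 : (⊥ : Ideal κ).comap φ.hom = m := congrArg PrimeSpectrum.asIdeal h1
        have h3 : s ∈ (⊥ : Ideal κ).comap φ.hom := h2 ▸ hs
        exact h3
      have hw : f.fiberι pt ≫ f = f.fiberToSpecResidueField pt ≫ Spec.map φ := by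
        rw [hφ]; exact pullback.condition
      show ((f.fiberι pt ≫ f).appTop).hom ((Scheme.ΓSpecIso R).inv.hom s) = 0
      rw [hw, Scheme.Hom.comp_appTop]
      show ((f.fiberToSpecResidueField pt).appTop).hom (((Scheme.ΓSpecIso R).inv ≫ (Spec.map φ).appTop).hom s) = 0
      rw [← Scheme.ΓSpecIso_inv_naturality]
      show ((f.fiberToSpecResidueField pt).appTop).hom ((Scheme.ΓSpecIso κ).inv.hom (φ.hom s)) = 0
      rw [hker, map_zero, map_zero]
    rw [h0]
    have hs0 : Coh.smulAb G (0 : Coh.Γtop (f.fiber pt)) = 0 := by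
      ext U y
      exact (Coh.smulAb_app G 0 U y).trans (by simp)
    rw [hs0]
    rw [Sheaf.H.map_apply, Abelian.Ext.mk₀_zero, Abelian.Ext.comp_zero]
  letI : Field (A ⧸ m) := Ideal.Quotient.field m
  letI : Module (A ⧸ m) (Coh.HH (f.fiber pt) G n) := htor.module
  haveI : IsScalarTower A (A ⧸ m) (Coh.HH (f.fiber pt) G n) := htor.isScalarTower
  haveI : Nontrivial (Coh.HH (f.fiber pt) G n) := not_subsingleton_iff_nontrivial.1 hGne
  obtain ⟨x, hx⟩ := exists_ne (0 : Coh.HH (f.fiber pt) G n)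
  obtain ⟨ψ₀, hψ₀⟩ : ∃ ψ₀ : Coh.HH (f.fiber pt) G n →ₗ[A ⧸ m] (A ⧸ m), ψ₀ x ≠ 0 :=
    (not_forall.1 fun h => hx ((Module.forall_dual_apply_eq_zero_iff (A ⧸ m) x).1 h))
  let ψ : Coh.HH X Fp n →ₗ[A] M₃ := (ψ₀.restrictScalars A) ∘ₗ l.symm.toLinearMap
  obtain ⟨φ', h', -⟩ := ht' Fp hFp ψ
  obtain rfl : φ' = 0 := hz3.eq_of_tgt _ _
  apply hψ₀
  have h2 := h' (l x)
  simp only [Functor.map_zero] at h2
  rw [Sheaf.H.map_apply, Abelian.Ext.mk₀_zero, Abelian.Ext.comp_zero, map_zero] at h2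
  have h3 : (ψ₀.restrictScalars A) (l.symm (l x)) = 0 := h2
  rw [LinearEquiv.symm_apply_apply] at h3
  exact h3

end GrothLib.DualFree20

end
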